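import Groth.Agent.Goren.Ring
import Groth.Agent.SyntLib.Koszul
import Groth.Agent.KoszulLib.H1
import Groth.Prelude.Def_LCI2
import Mathlib.RingTheory.Localization.BaseChange

/-! Gorenstein: complete intersections and their fibres. -/

set_option autoImplicit false
set_option maxHeartbeats 1000000
set_option maxSynthPendingDepth 3

universe u

open IsLocalRing TensorProduct

noncomputable section

namespace Groth.Agent.Goren

/-- Localization commutes with quotients. -/
theorem quot_localization (R : Type u) [CommRing R] (I : Ideal R) (P : Ideal (R ⧸ I)) [P.IsPrime] :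
    Nonempty ((Localization.AtPrime (P.comap (Ideal.Quotient.mk I)) ⧸
      I.map (algebraMap R (Localization.AtPrime (P.comap (Ideal.Quotient.mk I))))) ≃+* Localization.AtPrime P) := by
  let π : R →+* R ⧸ I := Ideal.Quotient.mk I
  let p := P.comap π
  let φ := Localization.localRingHom p P π rfl
  have hφs : Function.Surjective φ := fun y => by
    obtain ⟨⟨a, s⟩, rfl⟩ := IsLocalization.mk'_surjective P.primeCompl y
    obtain ⟨a, rfl⟩ := Ideal.Quotient.mk_surjective a
    obtain ⟨t, ht⟩ := Ideal.Quotient.mk_surjective (s : R ⧸ I)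
    refine ⟨IsLocalization.mk' _ a (⟨t, show π t ∉ P from ht ▸ s.2⟩ : p.primeCompl), ?_⟩
    rw [Localization.localRingHom_mk']
    congr 1
    exact Subtype.ext ht
  have hker : RingHom.ker φ = I.map (algebraMap R (Localization.AtPrime p)) := by
    refine le_antisymm (fun y hy => ?_) (Ideal.map_le_iff_le_comap.2 fun c hc => ?_)
    · obtain ⟨⟨a, s⟩, rfl⟩ := IsLocalization.mk'_surjective p.primeCompl y
      rw [RingHom.mem_ker, Localization.localRingHom_mk', IsLocalization.mk'_eq_zero_iff] at hy
      obtain ⟨u, hu⟩ := hy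
      obtain ⟨u', hu'⟩ := Ideal.Quotient.mk_surjective (u : R ⧸ I)
      have hmem : u' * a ∈ I := by
        rw [← Ideal.Quotient.eq_zero_iff_mem, map_mul, hu']
        exact hu
      have hu'' : u' ∈ p.primeCompl := show π u' ∉ P from hu' ▸ u.2
      rw [← Ideal.mul_unit_mem_iff_mem _ (IsLocalization.map_units (M := p.primeCompl) _ ⟨u', hu''⟩),
        ← Ideal.mul_unit_mem_iff_mem _ (IsLocalization.map_units (M := p.primeCompl) _ s),
        mul_right_comm, IsLocalization.mk'_spec, ← map_mul, mul_comm]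
      exact Ideal.mem_map_of_mem _ hmem
    · rw [Ideal.mem_comap, RingHom.mem_ker, Localization.localRingHom_to_map,
        show π c = 0 from Ideal.Quotient.eq_zero_iff_mem.2 hc, map_zero]
  exact ⟨(Ideal.quotEquivOfEq hker.symm).trans (RingHom.quotientKerEquivOfSurjective hφs)⟩

/-- A quotient by an ideal locally generated by an `H₁`-regular sequence. -/
theorem isGorensteinRing_quot_h1 (R : Type u) [CommRing R] (hR : LocCoh.IsGorensteinRing R) (I : Ideal R)
    (H : ∀ (p : Ideal R) [p.IsPrime], I ≤ p → ∃ (T : Type u) (_ : CommRing T) (_ : Algebra R T) (M : Submonoid R),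
      M ≤ p.primeCompl ∧ IsLocalization M T ∧ ∃ (n : ℕ) (f : Fin n → T), CAlgX.IsH1Regular f ∧
        I.map (algebraMap R T) = Ideal.span (Set.range f)) : LocCoh.IsGorensteinRing (R ⧸ I) := by
  haveI := hR
  refine { isGorensteinLocalRing_localization := fun P _ => ?_ }
  let p := P.comap (Ideal.Quotient.mk I)
  haveI : p.IsPrime := Ideal.IsPrime.comap _
  have hIp : I ≤ p := fun c hc => by
    show Ideal.Quotient.mk I c ∈ P
    rw [Ideal.Quotient.eq_zero_iff_mem.2 hc]; exact zero_mem _
  obtain ⟨T, _, _, M, hMp, _, n, f, hf, hspan⟩ := H p hIp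
  let Rp := Localization.AtPrime p
  have hu : ∀ y : M, IsUnit (algebraMap R Rp y) := fun y => IsLocalization.map_units (M := p.primeCompl) Rp ⟨y, hMp y.2⟩
  letI : Algebra T Rp := (IsLocalization.lift (S := T) hu).toAlgebra
  haveI : IsScalarTower R T Rp := IsScalarTower.of_algebraMap_eq fun r => (IsLocalization.lift_eq hu r).symm
  haveI := IsLocalization.isLocalization_of_submonoid_le T Rp M p.primeCompl hMp
  haveI : IsNoetherianRing Rp := IsLocalization.isNoetherianRing p.primeCompl _ inferInstance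
  have hf' := KoszulLib.h1_localization (p.primeCompl.map (algebraMap R T)) Rp hf
  have hmap : I.map (algebraMap R Rp) = Ideal.span (Set.range (algebraMap T Rp ∘ f)) := by
    rw [IsScalarTower.algebraMap_eq R T Rp, ← Ideal.map_map, hspan, Ideal.map_span, ← Set.range_comp]
  have hle : I.map (algebraMap R Rp) ≤ maximalIdeal Rp := by
    rw [← Localization.AtPrime.map_eq_maximalIdeal]
    exact Ideal.map_mono hIp
  have hm : ∀ i, (algebraMap T Rp ∘ f) i ∈ maximalIdeal Rp := fun i => hle (hmap ▸ Ideal.subset_span ⟨i, rfl⟩)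
  have hw := KoszulLib.isWeaklyRegular_of_h1 (fun i => maximalIdeal_le_jacobson _ (hm i)) hf'
  have hG := (gorenstein_iff_quot_list _ Rp _ rfl hw (fun r hr => by
    obtain ⟨i, rfl⟩ := List.mem_ofFn.1 hr
    exact hm i)).1 (hR.isGorensteinLocalRing_localization p)
  obtain ⟨e⟩ := quot_localization R I P
  exact (gorenstein_equiv_iff ((Ideal.quotEquivOfEq (hmap.trans (CMFlat.ofList_ofFn _).symm)).symm.trans e)).1 hG

theorem range_list_get {T : Type u} (l : List T) : Set.range l.get = {x | x ∈ l} := Set.range_list_get l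

/-- A quotient by a Koszul-regular ideal. -/
theorem isGorensteinRing_quot_koszul (R : Type u) [CommRing R] (hR : LocCoh.IsGorensteinRing R) (I : Ideal R)
    (hI : LCI.IsKoszulRegularIdeal I) : LocCoh.IsGorensteinRing (R ⧸ I) :=
  isGorensteinRing_quot_h1 R hR I fun p hp hle => by
    obtain ⟨g, hg, l, hl, hspan⟩ := hI ⟨p, hp⟩ hle
    exact ⟨Localization.Away g, inferInstance, inferInstance, Submonoid.powers g,
      Submonoid.powers_le.2 hg, inferInstance, l.length, l.get, SyntLib.h1_of_koszul hl,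
      by rw [hspan, range_list_get]⟩

theorem isGorensteinRing_mvPolynomial_fin (R : Type u) [CommRing R] (hR : LocCoh.IsGorensteinRing R) (n : ℕ) :
    LocCoh.IsGorensteinRing (MvPolynomial (Fin n) R) :=
  isGorensteinRing_of_equiv _ _ (MvPolynomial.renameEquiv R Equiv.ulift).toRingEquiv
    (isGorensteinRing_mvPolynomial R hR (ULift.{u} (Fin n)))

theorem isGorensteinRing_of_lci (A B : Type u) [CommRing A] [CommRing B] [Algebra A B]
    (hA : LocCoh.IsGorensteinRing A) (h : LCI.IsLCI A B) : LocCoh.IsGorensteinRing B := by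
  obtain ⟨-, n, f, hf, hI⟩ := h
  exact isGorensteinRing_of_equiv _ _ (RingHom.quotientKerEquivOfSurjective (f := f.toRingHom) hf)
    (isGorensteinRing_quot_koszul _ (isGorensteinRing_mvPolynomial_fin A hA n) _ hI)

theorem isGorensteinRing_fibre (A B : Type u) [CommRing A] [CommRing B] [Algebra A B] [Module.Flat A B]
    (h : LCI.IsLCI A B) (K : Type u) [Field K] [Algebra A K] : LocCoh.IsGorensteinRing (K ⊗[A] B) := by
  obtain ⟨-, n, f, hf, hI⟩ := h
  let P := MvPolynomial (Fin n) A
  let I : Ideal P := RingHom.ker f.toRingHom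
  let eB : (P ⧸ I) ≃ₐ[A] B := Ideal.quotientKerAlgEquivOfSurjective hf
  haveI : Module.Flat A (P ⧸ I) := Module.Flat.of_linearEquiv eB.toLinearEquiv
  let π : K ⊗[A] P →ₐ[A] K ⊗[A] B := Algebra.TensorProduct.map (AlgHom.id A K) f
  have hπ : Function.Surjective π := LinearMap.lTensor_surjective K hf
  let I' : Ideal (K ⊗[A] P) := I.map (Algebra.TensorProduct.includeRight : P →ₐ[A] K ⊗[A] P)
  have hker : RingHom.ker π.toRingHom = I' := Algebra.TensorProduct.lTensor_ker f hf
  have hK : LocCoh.IsGorensteinRing (K ⊗[A] P) :=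
    isGorensteinRing_of_equiv _ _ (MvPolynomial.algebraTensorAlgEquiv A K).symm.toRingEquiv
      (isGorensteinRing_mvPolynomial_fin K (isGorensteinRing_of_regular K (GeomProp.isRegularRing_of_reduced_artinian K)) n)
  refine isGorensteinRing_of_equiv _ _ ((Ideal.quotEquivOfEq hker.symm).trans
    (RingHom.quotientKerEquivOfSurjective (f := π.toRingHom) hπ)) ?_
  refine isGorensteinRing_quot_h1 _ hK I' fun Q hQ hle => ?_
  let q := Q.comap (Algebra.TensorProduct.includeRight : P →ₐ[A] K ⊗[A] P)
  haveI : q.IsPrime := Ideal.IsPrime.comap _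
  obtain ⟨g, hg, l, hl, hspan⟩ := hI ⟨q, inferInstance⟩ (Ideal.map_le_iff_le_comap.1 hle)
  let Pg := Localization.Away g
  let F : K ⊗[A] P →ₐ[K] K ⊗[A] Pg :=
    Algebra.TensorProduct.map (AlgHom.id K K) (IsScalarTower.toAlgHom A P Pg)
  letI : Algebra (K ⊗[A] P) (K ⊗[A] Pg) := F.toRingHom.toAlgebra
  haveI : IsScalarTower K (K ⊗[A] P) (K ⊗[A] Pg) := IsScalarTower.of_algebraMap_eq fun c => (F.commutes c).symm
  have hF : (algebraMap (K ⊗[A] P) (K ⊗[A] Pg)).comp
      (Algebra.TensorProduct.includeRight : P →ₐ[A] K ⊗[A] P).toRingHom =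
      (Algebra.TensorProduct.includeRight : Pg →ₐ[A] K ⊗[A] Pg).toRingHom.comp (algebraMap P Pg) :=
    RingHom.ext fun x => by
      show F ((1 : K) ⊗ₜ[A] x) = (1 : K) ⊗ₜ[A] algebraMap P Pg x
      rfl
  haveI := IsLocalization.tensorProduct_tensorProduct_right A K (Submonoid.powers g) Pg hF
  haveI : Module.Flat (P ⧸ I) (Pg ⧸ I.map (algebraMap P Pg)) :=
    haveI : Module.Flat P Pg := IsLocalization.flat _ (Submonoid.powers g)
    Module.Flat.of_linearEquiv (Algebra.TensorProduct.quotIdealMapEquivQuotTensor Pg I).toLinearEquiv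
  haveI : IsScalarTower A (P ⧸ I) (Pg ⧸ I.map (algebraMap P Pg)) :=
    IsScalarTower.of_algebraMap_eq fun a => rfl
  haveI : Module.Flat A (Pg ⧸ I.map (algebraMap P Pg)) := Module.Flat.trans A (P ⧸ I) _
  have hI2 : I.map (algebraMap P Pg) = Ideal.span (Set.range l.get) := by rw [hspan, range_list_get]
  haveI : Module.Flat A (Pg ⧸ Ideal.span (Set.range l.get)) :=
    Module.Flat.of_linearEquiv (Ideal.quotientEquivAlgOfEq A hI2).symm.toLinearEquiv
  refine ⟨K ⊗[A] Pg, inferInstance, inferInstance,
    (Submonoid.powers g).map (Algebra.TensorProduct.includeRight (R := A) (A := K)), ?_, inferInstance,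
    l.length, fun i => (1 : K) ⊗ₜ[A] l.get i, KoszulLib.h1_baseChange (A := A) K (SyntLib.h1_of_koszul hl), ?_⟩
  · rintro _ ⟨x, hx, rfl⟩
    exact (Submonoid.powers_le.2 (show g ∈ q.primeCompl from hg)) hx
  · show (I.map (Algebra.TensorProduct.includeRight : P →ₐ[A] K ⊗[A] P).toRingHom).map _ = _
    rw [Ideal.map_map, hF, ← Ideal.map_map, hI2, Ideal.map_span, ← Set.range_comp]
    rfl

end Groth.Agent.Goren
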