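import Groth.Agent.Goren.Equiv
import Groth.Agent.InjHull.Duality
import Groth.Agent.InjHull.Basic

/-! Artinian local rings: Gorenstein = simple socle. -/

set_option autoImplicit false

universe u

open CategoryTheory Abelian IsLocalRing RingTheory.Sequence

noncomputable section

namespace Groth.Agent.Goren

/-- The socle of `A` is generated by one nonzero element. -/
def SocSimple (A : Type u) [CommRing A] [IsLocalRing A] : Prop :=
  ∃ s : A, s ≠ 0 ∧ (∀ x ∈ maximalIdeal A, x * s = 0) ∧
    ∀ a, (∀ x ∈ maximalIdeal A, x * a = 0) → a ∈ Ideal.span {s}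

variable (A : Type u) [CommRing A] [IsLocalRing A] [IsNoetherianRing A]

theorem isFiniteLength_of_dim_zero (hd : ringKrullDim A = 0) :
    IsFiniteLength A A ∧ _root_.LocCoh.IsPowerTorsion (maximalIdeal A) A := by
  haveI : Ring.KrullDimLE 0 A := ringKrullDimZero_iff_ringKrullDim_eq_zero.2 hd
  haveI : IsArtinianRing A := isArtinianRing_iff_isNoetherianRing_krullDimLE_zero.2 ⟨inferInstance, inferInstance⟩
  refine ⟨isFiniteLength_iff_isNoetherian_isArtinian.2 ⟨inferInstance, inferInstance⟩, fun x => ?_⟩
  obtain ⟨n, hn⟩ := IsArtinianRing.isNilpotent_jacobson_bot (R := A)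
  rw [IsLocalRing.jacobson_eq_maximalIdeal ⊥ bot_ne_top] at hn
  exact ⟨n, fun a ha => by
    rw [hn] at ha
    rw [show a = 0 from ha]; exact zero_smul _ _⟩

theorem injective_of_socSimple (hd : ringKrullDim A = 0) (h : SocSimple A) : Module.Injective A A := by
  obtain ⟨s, hs0, hsm, hs⟩ := h
  obtain ⟨hfl, ht⟩ := isFiniteLength_of_dim_zero A hd
  let g : (A ⧸ maximalIdeal A) →ₗ[A] A :=
    (maximalIdeal A).liftQ (LinearMap.toSpanSingleton A A s) fun x hx => hsm x hx
  have hg : Function.Injective g := by
    refine (injective_iff_map_eq_zero g).2 fun w hw => ?_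
    obtain ⟨a, rfl⟩ := Submodule.Quotient.mk_surjective _ w
    have h1 : a * s = 0 := hw
    refine (Submodule.Quotient.mk_eq_zero _).2 ?_
    by_contra ha
    exact hs0 ((IsLocalRing.notMem_maximalIdeal.1 ha).mul_right_eq_zero.1 h1)
  have hgess := InjHull.isEssentialInj_of_socle_le ht g hg fun y hy => by
    obtain ⟨c, hc⟩ := Ideal.mem_span_singleton'.1 (hs y fun x hx => hy x hx)
    exact ⟨Submodule.Quotient.mk c, hc⟩
  obtain ⟨E, _, _, f, hf⟩ := InjHull.exists_isInjectiveHull A (A ⧸ maximalIdeal A)
  haveI := hf.isInjective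
  obtain ⟨α, hα, -⟩ := InjHull.exists_injective_extend hgess f hf.injective
  have h1 : Module.length A E = Module.length A A := by
    rw [← InjHull.length_dual hf hfl ht]
    exact (LinearMap.ringLmapEquivSelf A A E).length_eq.symm
  have h2 := Module.length_eq_add_of_exact α (LinearMap.range α).mkQ hα (Submodule.mkQ_surjective _)
    (LinearMap.exact_map_mkQ_range α)
  rw [h1] at h2
  have h3 : Module.length A (E ⧸ LinearMap.range α) = 0 := by
    have hne : Module.length A A ≠ ⊤ := Module.length_ne_top_iff.2 hfl
    exact (ENat.add_right_injective_of_ne_top hne (h2.symm.trans (add_zero _).symm))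
  haveI := Module.length_eq_zero_iff.1 h3
  have hsurj : Function.Surjective α := by
    rw [← LinearMap.range_eq_top, ← Submodule.Quotient.subsingleton_iff]
    infer_instance
  exact InjHull.injective_of_linearEquiv (LinearEquiv.ofBijective α ⟨hα, hsurj⟩).symm

theorem gorenstein_iff_socSimple (hd : ringKrullDim A = 0) :
    LocCoh.IsGorensteinLocalRing A ↔ SocSimple A := by
  constructor
  · intro hG
    haveI : Injective (ModuleCat.of A A) := by
      haveI := hasInjectiveDimensionLE A (resVanish_dim A (d := 0) (by simpa using hd))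
      exact injective_iff_hasInjectiveDimensionLT_one.2 this
    haveI : Module.Injective A A := Module.injective_module_of_injective_object A A
    haveI : Ring.KrullDimLE 0 A := ringKrullDimZero_iff_ringKrullDim_eq_zero.2 hd
    haveI : IsArtinianRing A := isArtinianRing_iff_isNoetherianRing_krullDimLE_zero.2 ⟨inferInstance, inferInstance⟩
    have hass : maximalIdeal A ∈ associatedPrimes A A := by
      obtain ⟨p, hp⟩ := associatedPrimes.nonempty A A
      haveI := (AssociatedPrimes.mem_iff.1 hp).isPrime
      rwa [← IsLocalRing.eq_maximalIdeal (IsArtinianRing.isMaximal_of_isPrime p)]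
    obtain ⟨g, hg⟩ := ((isAssociatedPrime_iff_exists_injective_linearMap (R := A) _ A).1
      (AssociatedPrimes.mem_iff.1 hass)).2
    let s : A := g (Submodule.Quotient.mk 1)
    have hsm : ∀ x ∈ maximalIdeal A, x * s = 0 := fun x hx => by
      show x • g (Submodule.Quotient.mk 1) = 0
      rw [← map_smul, show x • (Submodule.Quotient.mk 1 : A ⧸ maximalIdeal A) = Submodule.Quotient.mk (x • 1) from rfl,
        smul_eq_mul, mul_one, (Submodule.Quotient.mk_eq_zero _).2 hx, map_zero]
    refine ⟨s, fun h0 => ?_, hsm, fun t ht => ?_⟩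
    · have := (Submodule.Quotient.mk_eq_zero (maximalIdeal A)).1 (hg (h0.trans (map_zero g).symm))
      exact (maximalIdeal.isMaximal A).ne_top ((Ideal.eq_top_iff_one _).2 this)
    let g' : (A ⧸ maximalIdeal A) →ₗ[A] A :=
      (maximalIdeal A).liftQ (LinearMap.toSpanSingleton A A t) fun x hx => ht x hx
    obtain ⟨φ, hφ⟩ := Module.Injective.out (R := A) g hg g'
    have h1 : φ s = t := by
      rw [hφ]
      show (1 : A) * t = t
      rw [one_mul]
    refine Ideal.mem_span_singleton'.2 ⟨φ 1, ?_⟩
    rw [← h1, mul_comm, ← smul_eq_mul, ← map_smul, smul_eq_mul, mul_one]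
  · intro h
    haveI := injective_of_socSimple A hd h
    haveI : Injective (ModuleCat.of A A) := Module.injective_object_of_injective_module A A
    exact { exists_hasInjectiveDimensionLT := ⟨1, inferInstance⟩ }

/-- The socle criterion after dividing by a full regular sequence. -/
theorem gorenstein_iff_socSimple_quot (rs : List A) (hw : IsWeaklyRegular A rs)
    (hm : ∀ r ∈ rs, r ∈ maximalIdeal A) [IsLocalRing (A ⧸ Ideal.ofList rs)]
    (hd : ringKrullDim (A ⧸ Ideal.ofList rs) = 0) :
    LocCoh.IsGorensteinLocalRing A ↔ SocSimple (A ⧸ Ideal.ofList rs) :=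
  (gorenstein_iff_quot_list _ A rs rfl hw hm).trans (gorenstein_iff_socSimple _ hd)

end Groth.Agent.Goren
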