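import Groth.Agent.Goren.Basic
import Mathlib.RingTheory.LocalProperties.InjectiveDimension
import Mathlib.RingTheory.Ideal.Height

/-! Gorenstein rings of finite dimension = finite self injective dimension. -/

set_option autoImplicit false

universe u

open CategoryTheory

noncomputable section

namespace Groth.Agent.Goren

variable {R : Type u} [CommRing R]

/-- The localization of `R` as a module over itself. -/
def locSelfIso (S : Submonoid R) :
    (ModuleCat.of R R).localizedModule S ≅ ModuleCat.of (Localization S) (Localization S) :=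
  haveI : IsLocalizedModule S (Algebra.linearMap R (Localization S)) := inferInstance
  haveI : IsLocalizedModule S ((ModuleCat.of R R).localizedModuleMkLinearMap S) :=
    ModuleCat.localizedModule_isLocalizedModule _ S
  (LinearEquiv.extendScalarsOfIsLocalization S (Localization S)
    (IsLocalizedModule.linearEquiv S ((ModuleCat.of R R).localizedModuleMkLinearMap S)
      (Algebra.linearMap R (Localization S)))).toModuleIso

variable [IsNoetherianRing R]

theorem gorenstein_atPrime {n : ℕ} (h : HasInjectiveDimensionLE (ModuleCat.of R R) n) (p : Ideal R) [p.IsPrime] :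
    LocCoh.IsGorensteinLocalRing (Localization.AtPrime p) ∧ ringKrullDim (Localization.AtPrime p) ≤ n := by
  have h1 := (ModuleCat.of R R).localizedModule_hasInjectiveDimensionLE n p.primeCompl
  haveI : HasInjectiveDimensionLT (ModuleCat.of (Localization.AtPrime p) (Localization.AtPrime p)) (n + 1) :=
    hasInjectiveDimensionLT_of_iso (locSelfIso p.primeCompl) (n + 1)
  exact ⟨{ exists_hasInjectiveDimensionLT := ⟨n + 1, this⟩ },
    dim_le_of_resVanish (resVanish_of_lt (Localization.AtPrime p))⟩

theorem finite_injdim_iff :
    (∃ n : ℕ, HasInjectiveDimensionLT (ModuleCat.of R R) n) ↔ (LocCoh.IsGorensteinRing R ∧ ringKrullDim R < ⊤) := by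
  constructor
  · rintro ⟨n, hn⟩
    have h : HasInjectiveDimensionLE (ModuleCat.of R R) n := hasInjectiveDimensionLT_of_ge _ n (n + 1) (by omega)
    refine ⟨{ isGorensteinLocalRing_localization := fun p _ => (gorenstein_atPrime h p).1 }, ?_⟩
    refine lt_of_le_of_lt ((ringKrullDim_le_iff_height_le (n : WithBot ℕ∞)).2 fun p hp => ?_)
      (WithBot.coe_lt_coe.2 (ENat.coe_lt_top n))
    haveI := hp
    rw [← IsLocalization.AtPrime.ringKrullDim_eq_height p (Localization.AtPrime p)]
    exact (gorenstein_atPrime h p).2
  · rintro ⟨hG, hd⟩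
    obtain ⟨n, hn⟩ : ∃ n : ℕ, ringKrullDim R ≤ n := by
      induction h : ringKrullDim R using WithBot.recBotCoe with
      | bot => exact ⟨0, bot_le⟩
      | coe d =>
        rw [h] at hd
        obtain ⟨n, rfl⟩ := ENat.ne_top_iff_exists.1 (WithBot.coe_lt_coe.1 hd).ne
        exact ⟨n, le_rfl⟩
    refine ⟨n + 1, (ModuleCat.hasInjectiveDimensionLE_iff_forall_maximalSpectrum n (ModuleCat.of R R)).2 fun m => ?_⟩
    haveI := hG.isGorensteinLocalRing_localization m.1
    obtain ⟨d, hd'⟩ := SerreReg.exists_dim_nat (Localization.AtPrime m.1)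
    have hdn : d ≤ n := by
      have h1 := (ringKrullDim_le_iff_height_le (n : WithBot ℕ∞)).1 hn (Ideal.IsMaximal.isPrime' m.1)
      rw [← IsLocalization.AtPrime.ringKrullDim_eq_height m.1 (Localization.AtPrime m.1), hd'] at h1
      exact_mod_cast h1
    have h3 : HasInjectiveDimensionLE (ModuleCat.of (Localization.AtPrime m.1) (Localization.AtPrime m.1)) n :=
      hasInjectiveDimensionLE (Localization.AtPrime m.1) fun i hi =>
        resVanish_dim (Localization.AtPrime m.1) hd' i (by omega)
    exact hasInjectiveDimensionLT_of_iso (locSelfIso m.1.primeCompl).symm (n + 1)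

end Groth.Agent.Goren
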