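import Groth.Agent.Goren.Flat
import Groth.Agent.Goren.Local
import Groth.Agent.GeomProp.BaseChange
import Groth.Agent.FlatDepth.Serre
import Mathlib.RingTheory.AdjoinRoot
import Mathlib.RingTheory.RegularLocalRing.Polynomial

/-! Gorenstein rings: flat ascent and descent, hypersurfaces, field extensions. -/

set_option autoImplicit false
set_option maxHeartbeats 1000000
set_option maxSynthPendingDepth 3

universe u

open IsLocalRing TensorProduct

noncomputable section

namespace Groth.Agent.Goren

section Flat

variable {A B : Type u} [CommRing A] [CommRing B] [Algebra A B] [IsNoetherianRing A] [IsNoetherianRing B]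
  [Module.Flat A B]

theorem atPrime_flat_iff (P : Ideal B) [P.IsPrime] :
    LocCoh.IsGorensteinLocalRing (Localization.AtPrime P) ↔
      LocCoh.IsGorensteinLocalRing (Localization.AtPrime (P.comap (algebraMap A B))) ∧
        LocCoh.IsGorensteinLocalRing (EGA4.FibLocRing A B P) := by
  let p := P.comap (algebraMap A B)
  haveI : P.LiesOver p := ⟨rfl⟩
  letI := Localization.AtPrime.algebraOfLiesOver p P
  obtain ⟨h1, h2, h3⟩ := FlatDepth.atPrime_setup P p
  haveI := h1
  haveI := h2
  haveI : IsNoetherianRing (Localization.AtPrime p) := IsLocalization.isNoetherianRing p.primeCompl _ inferInstance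
  haveI : IsNoetherianRing (Localization.AtPrime P) := IsLocalization.isNoetherianRing P.primeCompl _ inferInstance
  rw [gorenstein_flat_iff (R := Localization.AtPrime p) (S := Localization.AtPrime P)]
  exact and_congr Iff.rfl (gorenstein_equiv_iff (Ideal.quotEquivOfEq h3))

end Flat

theorem isGorensteinRing_of_equiv (R R' : Type u) [CommRing R] [CommRing R'] (e : R ≃+* R')
    (h : LocCoh.IsGorensteinRing R) : LocCoh.IsGorensteinRing R' := by
  haveI := h
  haveI : IsNoetherianRing R' := isNoetherianRing_of_ringEquiv R e
  refine { isGorensteinLocalRing_localization := fun P _ => ?_ }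
  exact (gorenstein_equiv_iff (IsLocalization.ringEquivOfRingEquiv (M := (P.comap (e : R →+* R')).primeCompl)
    (T := P.primeCompl) (Localization.AtPrime (P.comap (e : R →+* R'))) (Localization.AtPrime P) e (by
      ext x
      simp only [Submonoid.mem_map, Ideal.mem_primeCompl_iff, Ideal.mem_comap]
      exact ⟨fun ⟨y, hy, hyx⟩ => hyx ▸ hy, fun hx => ⟨e.symm x, by simpa using hx, by simp⟩⟩))).1
    (h.isGorensteinLocalRing_localization _)

theorem isGorensteinRing_of_regular (R : Type u) [CommRing R] (h : IsRegularRing R) : LocCoh.IsGorensteinRing R := by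
  haveI := h
  refine { isGorensteinLocalRing_localization := fun P _ => ?_ }
  haveI := h.isRegularLocalRing_localization P
  exact isGorenstein_of_regular _

theorem isGorensteinRing_ascent (R S : Type u) [CommRing R] [CommRing S] [Algebra R S] [IsNoetherianRing R]
    [IsNoetherianRing S] [Module.Flat R S] (hR : LocCoh.IsGorensteinRing R)
    (hF : ∀ (Q : Ideal R) [Q.IsPrime], LocCoh.IsGorensteinRing (Q.Fiber S)) : LocCoh.IsGorensteinRing S := by
  refine { isGorensteinLocalRing_localization := fun P _ => ?_ }
  obtain ⟨Q, _, ⟨e⟩⟩ := FlatDepth.exists_fibre_equiv (A := R) P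
  haveI := (hF (P.comap (algebraMap R S))).isGorensteinLocalRing_localization Q
  exact (atPrime_flat_iff P).2 ⟨hR.isGorensteinLocalRing_localization _, isGorenstein_of_equiv e⟩

theorem isGorensteinRing_descent (R S : Type u) [CommRing R] [CommRing S] [Algebra R S] [IsNoetherianRing R]
    [IsNoetherianRing S] [Module.FaithfullyFlat R S] (hS : LocCoh.IsGorensteinRing S) :
    LocCoh.IsGorensteinRing R := by
  refine { isGorensteinLocalRing_localization := fun p _ => ?_ }
  obtain ⟨P, _, rfl, -⟩ := FlatDepth.exists_minimal_over (B := S) p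
  exact ((atPrime_flat_iff P).1 (hS.isGorensteinLocalRing_localization P)).1

theorem good_gorenstein : GeomProp.Good.{u} (fun R _ => LocCoh.IsGorensteinRing R) where
  equiv := isGorensteinRing_of_equiv
  of_regular R _ h := isGorensteinRing_of_regular R h
  ascent R S _ _ _ _ _ _ := isGorensteinRing_ascent R S
  descent R S _ _ _ _ _ _ := isGorensteinRing_descent R S
  colim R _ _ h := by
    refine { isGorensteinLocalRing_localization := fun P _ => ?_ }
    obtain ⟨R0, _, _, _, _, h0, hP⟩ := h P
    haveI := GeomProp.isRegularLocalRing_quot_eq _ (GeomProp.map_comap_eq_maximal (R0 := R0) P hP)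
    exact (atPrime_flat_iff (A := R0) P).2 ⟨h0.isGorensteinLocalRing_localization _, isGorenstein_of_regular _⟩

/-- A hypersurface in a Gorenstein ring. -/
theorem isGorensteinRing_quot (R : Type u) [CommRing R] (hR : LocCoh.IsGorensteinRing R) (f : R)
    (hf : IsSMulRegular R f) : LocCoh.IsGorensteinRing (R ⧸ Ideal.span {f}) := by
  haveI := hR
  refine { isGorensteinLocalRing_localization := fun P _ => ?_ }
  let π : R →+* R ⧸ Ideal.span {f} := Ideal.Quotient.mk _
  let p := P.comap π
  haveI : IsNoetherianRing (Localization.AtPrime p) := IsLocalization.isNoetherianRing p.primeCompl _ inferInstance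
  let φ := Localization.localRingHom p P π rfl
  have hφs : Function.Surjective φ := fun y => by
    obtain ⟨⟨a, s⟩, rfl⟩ := IsLocalization.mk'_surjective P.primeCompl y
    obtain ⟨a, rfl⟩ := Ideal.Quotient.mk_surjective a
    obtain ⟨t, ht⟩ := Ideal.Quotient.mk_surjective (s : R ⧸ Ideal.span {f})
    refine ⟨IsLocalization.mk' _ a (⟨t, show π t ∉ P from ht ▸ s.2⟩ : p.primeCompl), ?_⟩
    rw [Localization.localRingHom_mk']
    congr 1
    exact Subtype.ext ht
  have hker : RingHom.ker φ = Ideal.span {algebraMap R (Localization.AtPrime p) f} := by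
    refine le_antisymm (fun y hy => ?_) ((Ideal.span_singleton_le_iff_mem _).2 ?_)
    · obtain ⟨⟨a, s⟩, rfl⟩ := IsLocalization.mk'_surjective p.primeCompl y
      rw [RingHom.mem_ker, Localization.localRingHom_mk', IsLocalization.mk'_eq_zero_iff] at hy
      obtain ⟨u, hu⟩ := hy
      obtain ⟨u', hu'⟩ := Ideal.Quotient.mk_surjective (u : R ⧸ Ideal.span {f})
      have hmem : u' * a ∈ Ideal.span {f} := by
        rw [← Ideal.Quotient.eq_zero_iff_mem, map_mul, hu']
        exact hu
      obtain ⟨c, hc⟩ := Ideal.mem_span_singleton'.1 hmem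
      have hu'' : u' ∈ p.primeCompl := show π u' ∉ P from hu' ▸ u.2
      refine Ideal.mem_span_singleton'.2 ⟨IsLocalization.mk' _ c (⟨u', hu''⟩ * s : p.primeCompl), ?_⟩
      rw [mul_comm, IsLocalization.mul_mk'_eq_mk'_of_mul, IsLocalization.mk'_eq_iff_eq]
      congr 1
      simp only [Submonoid.coe_mul]
      linear_combination (s : R) * hc
    · rw [RingHom.mem_ker, Localization.localRingHom_to_map,
        show π f = 0 from Ideal.Quotient.eq_zero_iff_mem.2 (Ideal.mem_span_singleton_self f), map_zero]
  let e : Localization.AtPrime p ⧸ Ideal.span {algebraMap R (Localization.AtPrime p) f} ≃+* Localization.AtPrime P :=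
    (Ideal.quotEquivOfEq hker.symm).trans (RingHom.quotientKerEquivOfSurjective hφs)
  refine (gorenstein_equiv_iff e).1 ((gorenstein_iff_quot _ ?_ ?_).1 (hR.isGorensteinLocalRing_localization p))
  · refine (IsLocalization.AtPrime.to_map_mem_maximal_iff _ p f).2 ?_
    show π f ∈ P
    rw [show π f = 0 from Ideal.Quotient.eq_zero_iff_mem.2 (Ideal.mem_span_singleton_self f)]
    exact zero_mem _
  · exact hf.of_flat

theorem isGorensteinRing_polynomial (R : Type u) [CommRing R] (hR : LocCoh.IsGorensteinRing R) :
    LocCoh.IsGorensteinRing (Polynomial R) := by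
  haveI := hR
  exact isGorensteinRing_of_equiv _ _ (MvPolynomial.pUnitAlgEquiv R).toRingEquiv
    (good_gorenstein.mvPolynomial R PUnit.{u + 1} hR)

theorem isGorensteinRing_mvPolynomial (R : Type u) [CommRing R] (hR : LocCoh.IsGorensteinRing R) (σ : Type u)
    [Finite σ] : LocCoh.IsGorensteinRing (MvPolynomial σ R) := by
  haveI := hR
  exact good_gorenstein.mvPolynomial R σ hR

theorem isGorensteinRing_adjoinRoot (R : Type u) [CommRing R] (hR : LocCoh.IsGorensteinRing R) (f : Polynomial R)
    (hf : f.Monic) : LocCoh.IsGorensteinRing (AdjoinRoot f) :=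
  isGorensteinRing_quot _ (isGorensteinRing_polynomial R hR) f
    (isSMulRegular_iff_right_eq_zero_of_smul.2 fun g hg => hf.mul_right_eq_zero_iff.1 hg)

/-- Finite field extensions. -/
theorem isGorensteinRing_finite_ext (k : Type u) [Field k] : ∀ (n : ℕ) (L : Type u) [Field L] [Algebra k L]
    [Module.Finite k L] (S : Type u) [CommRing S] [Algebra k S],
    Module.finrank k L ≤ n → LocCoh.IsGorensteinRing S → LocCoh.IsGorensteinRing (L ⊗[k] S) := by
  intro n
  induction n generalizing k with
  | zero =>
    intro L _ _ _ S _ _ hn _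
    exact absurd (Module.finrank_pos (R := k) (M := L)) (by omega)
  | succ n ih =>
    intro L _ _ _ S _ _ hn hS
    by_cases h : ∀ a : L, a ∈ (algebraMap k L).range
    · let e : k ≃ₐ[k] L := AlgEquiv.ofBijective (Algebra.ofId k L) ⟨(algebraMap k L).injective, fun a => h a⟩
      exact isGorensteinRing_of_equiv _ _ ((Algebra.TensorProduct.lid k S).symm.trans
        (Algebra.TensorProduct.congr e AlgEquiv.refl)).toRingEquiv hS
    push Not at h
    obtain ⟨a, ha⟩ := h
    let K := IntermediateField.adjoin k ({a} : Set L)
    have hint : IsIntegral k a := Algebra.IsIntegral.isIntegral a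
    let q : Polynomial S := (minpoly k a).map (algebraMap k S)
    have h1 : LocCoh.IsGorensteinRing (K ⊗[k] S) := by
      have hq : LocCoh.IsGorensteinRing (AdjoinRoot q) :=
        isGorensteinRing_adjoinRoot S hS q ((minpoly.monic hint).map _)
      let q' : Polynomial (S ⊗[k] k) := (minpoly k a).map
        (Algebra.TensorProduct.includeRight : k →ₐ[k] S ⊗[k] k).toRingHom
      refine isGorensteinRing_of_equiv _ _ ?_ hq
      refine (?_ : AdjoinRoot q ≃+* AdjoinRoot q').trans (((AdjoinRoot.tensorAlgEquiv (T := S) (minpoly k a) q' rfl).symm.toRingEquiv).trans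
        (((Algebra.TensorProduct.comm k S (AdjoinRoot (minpoly k a))).trans
          (Algebra.TensorProduct.congr (IntermediateField.adjoinRootEquivAdjoin k hint) AlgEquiv.refl)).toRingEquiv))
      exact AdjoinRoot.mapRingEquiv (Algebra.TensorProduct.rid k k S).symm.toRingEquiv q q' (by
        refine Associated.of_eq ?_
        simp only [q, q', Polynomial.map_map]
        congr 1
        exact RingHom.ext fun c => by
          show (Algebra.TensorProduct.rid k k S).symm (algebraMap k S c) = (1 : S) ⊗ₜ[k] c
          rw [Algebra.TensorProduct.rid_symm_apply, Algebra.algebraMap_eq_smul_one, TensorProduct.smul_tmul,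
            smul_eq_mul, mul_one]
          )
    have hlt : Module.finrank K L ≤ n := by
      have h2 : 1 < Module.finrank k K := by
        by_contra hle
        refine ha ?_
        have h3 : Module.finrank k K = 1 := le_antisymm (not_lt.1 hle) Module.finrank_pos
        have h4 : K = ⊥ := IntermediateField.finrank_eq_one_iff.1 h3
        exact IntermediateField.mem_bot.1 (h4 ▸ IntermediateField.mem_adjoin_simple_self k a)
      have h5 := Module.finrank_mul_finrank k K L
      by_contra hc
      have h6 : n + 1 ≤ Module.finrank K L := by omega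
      nlinarith
    exact isGorensteinRing_of_equiv _ _ (Algebra.TensorProduct.cancelBaseChange k K L L S).toRingEquiv
      (ih K L (K ⊗[k] S) hlt h1)

theorem isGorensteinRing_fieldExt (k K S : Type u) [Field k] [Field K] [Algebra k K] [CommRing S] [Algebra k S]
    (hS : LocCoh.IsGorensteinRing S) [IsNoetherianRing (K ⊗[k] S)] : LocCoh.IsGorensteinRing (K ⊗[k] S) := by
  haveI := hS
  exact good_gorenstein.all k S (fun k' _ _ hfin _ => by
    haveI := hfin
    exact isGorensteinRing_finite_ext k _ k' S le_rfl hS) K

end Groth.Agent.Goren
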