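import Groth.Agent.Goren.Ring
import Groth.Agent.FlatDepth.Comp

/-! Gorenstein rings and field extensions, composites. -/

set_option autoImplicit false
set_option maxHeartbeats 1000000
set_option maxSynthPendingDepth 3

universe u

open IsLocalRing TensorProduct

noncomputable section

namespace Groth.Agent.Goren

theorem essFiniteType_of_adjoin (k K : Type u) [Field k] [Field K] [Algebra k K]
    (hK : ∃ s : Finset K, IntermediateField.adjoin k (s : Set K) = ⊤) : Algebra.EssFiniteType k K := by
  obtain ⟨s, hs⟩ := hK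
  haveI : Algebra.EssFiniteType k (⊤ : IntermediateField k K) :=
    hs ▸ IntermediateField.essFiniteType_iff.2 (IntermediateField.fg_adjoin_finset s)
  exact Algebra.EssFiniteType.of_surjective (IntermediateField.topEquiv : (⊤ : IntermediateField k K) ≃ₐ[k] K).toAlgHom
    (IntermediateField.topEquiv : (⊤ : IntermediateField k K) ≃ₐ[k] K).surjective

theorem isGorensteinRing_fgExt (k K R : Type u) [Field k] [Field K] [Algebra k K] [Algebra.EssFiniteType k K]
    [CommRing R] [Algebra k R] (hR : LocCoh.IsGorensteinRing R) :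
    IsNoetherianRing (K ⊗[k] R) ∧ LocCoh.IsGorensteinRing (K ⊗[k] R) := by
  haveI := hR
  haveI := FlatDepth.isNoetherianRing_tensor_essFinite k R K
  exact ⟨inferInstance, isGorensteinRing_fieldExt k K R hR⟩

theorem isGorensteinRing_of_local (B : Type u) [CommRing B] [LocCoh.IsGorensteinLocalRing B] :
    LocCoh.IsGorensteinRing B := by
  obtain ⟨n, hn⟩ := ‹LocCoh.IsGorensteinLocalRing B›.exists_hasInjectiveDimensionLT
  have h : CategoryTheory.HasInjectiveDimensionLE (ModuleCat.of B B) n :=
    CategoryTheory.hasInjectiveDimensionLT_of_ge _ n (n + 1) (by omega)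
  exact { isGorensteinLocalRing_localization := fun p _ => (gorenstein_atPrime h p).1 }

theorem local_iff_fgExt (k k' : Type u) [Field k] [Field k'] [Algebra k k'] [Algebra.EssFiniteType k k']
    (B : Type u) [CommRing B] [IsLocalRing B] [IsNoetherianRing B] [Algebra k B]
    (q : Ideal (B ⊗[k] k')) [q.IsPrime] (hq : q.comap (algebraMap B (B ⊗[k] k')) = maximalIdeal B) :
    LocCoh.IsGorensteinLocalRing B ↔ LocCoh.IsGorensteinLocalRing (Localization.AtPrime q) := by
  haveI := FlatDepth.isNoetherianRing_tensor_essFinite k B k'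
  let c : k' ⊗[k] B ≃+* B ⊗[k] k' := (Algebra.TensorProduct.comm k k' B).toRingEquiv
  haveI : IsNoetherianRing (B ⊗[k] k') := isNoetherianRing_of_ringEquiv _ c
  constructor
  · intro h
    exact (isGorensteinRing_of_equiv _ _ c (isGorensteinRing_fgExt k k' B (isGorensteinRing_of_local B)).2).isGorensteinLocalRing_localization q
  · intro h
    have h1 := ((atPrime_flat_iff (A := B) q).1 h).1
    refine (gorenstein_equiv_iff ?_).2 h1
    exact (IsLocalization.atUnits B (q.comap (algebraMap B (B ⊗[k] k'))).primeCompl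
      (fun x hx => notMem_maximalIdeal.1 (hq ▸ hx))).toRingEquiv

theorem atPrime_iff_fieldExt (k k' : Type u) [Field k] [Field k'] [Algebra k k'] (S : Type u) [CommRing S]
    [IsNoetherianRing S] [Algebra k S] [IsNoetherianRing (S ⊗[k] k')] (q' : Ideal (S ⊗[k] k')) [q'.IsPrime] :
    LocCoh.IsGorensteinLocalRing (Localization.AtPrime (q'.comap (algebraMap S (S ⊗[k] k')))) ↔
      LocCoh.IsGorensteinLocalRing (Localization.AtPrime q') := by
  refine ⟨fun hp => ?_, fun h => ((atPrime_flat_iff (A := S) q').1 h).1⟩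
  let p := q'.comap (algebraMap S (S ⊗[k] k'))
  let R := Localization.AtPrime p
  haveI : IsNoetherianRing R := IsLocalization.isNoetherianRing p.primeCompl R inferInstance
  let f : S ⊗[k] k' →ₐ[k] R ⊗[k] k' :=
    Algebra.TensorProduct.map (IsScalarTower.toAlgHom k S R) (AlgHom.id k k')
  letI : Algebra (S ⊗[k] k') (R ⊗[k] k') := f.toRingHom.toAlgebra
  haveI : IsScalarTower S (S ⊗[k] k') (R ⊗[k] k') := IsScalarTower.of_algebraMap_eq fun s => by
    show algebraMap S R s ⊗ₜ[k] (1 : k') = f (s ⊗ₜ 1)
    rfl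
  let M := Algebra.algebraMapSubmonoid (S ⊗[k] k') p.primeCompl
  haveI : IsLocalization M (R ⊗[k] k') := IsLocalization.tensorProduct_tensorProduct k k' p.primeCompl R
    (RingHom.ext fun c => by
      show f (1 ⊗ₜ c) = 1 ⊗ₜ c
      exact congrArg (· ⊗ₜ[k] c) (map_one (algebraMap S R)))
  haveI : IsNoetherianRing (R ⊗[k] k') := IsLocalization.isNoetherianRing M _ inferInstance
  let c : k' ⊗[k] R ≃+* R ⊗[k] k' := (Algebra.TensorProduct.comm k k' R).toRingEquiv
  haveI : IsNoetherianRing (k' ⊗[k] R) := isNoetherianRing_of_ringEquiv _ c.symm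
  haveI := hp
  have hR : LocCoh.IsGorensteinRing (R ⊗[k] k') :=
    isGorensteinRing_of_equiv _ _ c (isGorensteinRing_fieldExt k k' R (isGorensteinRing_of_local R))
  have hdisj : Disjoint (M : Set (S ⊗[k] k')) q' := by
    rw [Set.disjoint_left]
    rintro _ ⟨b, hb, rfl⟩ hbq
    exact hb hbq
  haveI := IsLocalization.isPrime_of_isPrime_disjoint M (R ⊗[k] k') q' inferInstance hdisj
  let Q := q'.map (algebraMap (S ⊗[k] k') (R ⊗[k] k'))
  have h1 : Q.comap (algebraMap (S ⊗[k] k') (R ⊗[k] k')) = q' :=
    IsLocalization.under_map_of_isPrime_disjoint M _ inferInstance hdisj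
  haveI := IsLocalization.isLocalization_isLocalization_atPrime_isLocalization M (Localization.AtPrime Q) Q
  haveI := hR.isGorensteinLocalRing_localization Q
  exact isGorenstein_of_equiv
    ((IsLocalization.algEquiv (Q.comap (algebraMap (S ⊗[k] k') (R ⊗[k] k'))).primeCompl
      (Localization.AtPrime Q) (Localization.AtPrime (Q.comap (algebraMap (S ⊗[k] k') (R ⊗[k] k'))))).toRingEquiv.trans
    (IsLocalization.ringEquivOfRingEquiv (M := (Q.comap (algebraMap (S ⊗[k] k') (R ⊗[k] k'))).primeCompl)
      (T := q'.primeCompl) _ (Localization.AtPrime q') (RingEquiv.refl _) (by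
        ext x
        simp only [Submonoid.mem_map, Ideal.mem_primeCompl_iff]
        rw [h1]
        exact ⟨fun ⟨y, hy, hyx⟩ => hyx ▸ hy, fun hx => ⟨x, hx, rfl⟩⟩)))

theorem fibres_comp (A B C : Type u) [CommRing A] [CommRing B] [CommRing C] [IsNoetherianRing B]
    [IsNoetherianRing C] [Algebra A B] [Algebra B C] [Algebra A C] [IsScalarTower A B C] [Module.Flat B C]
    (hAB : ∀ (q : Ideal A) [q.IsPrime], LocCoh.IsGorensteinRing (q.Fiber B)) (hBC : CAlg.IsRegularHom B C) :
    ∀ (q : Ideal A) [q.IsPrime], LocCoh.IsGorensteinRing (q.Fiber C) := by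
  intro p _
  obtain ⟨_, hBC⟩ := hBC
  exact FlatDepth.comp_ascent (A := A) (B := B) (C := C) p p.ResidueField
    (fun R _ => LocCoh.IsGorensteinRing R) isGorensteinRing_of_equiv
    (fun R S _ _ _ _ _ _ => isGorensteinRing_ascent R S) (hAB p)
    fun q _ κ _ _ hκ => isGorensteinRing_of_regular _ ((hBC q).2 κ hκ)

end Groth.Agent.Goren
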