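import Groth.Agent.Goren.Flat
import Groth.Agent.AdicBasics.Dimension
import Mathlib.RingTheory.PowerSeries.Order

/-! A Gorenstein multicross singularity is a node. -/

set_option autoImplicit false
set_option maxHeartbeats 1000000

universe u

open CategoryTheory IsLocalRing RingTheory.Sequence

noncomputable section

namespace Groth.Agent.Goren

theorem gorenstein_completion (A : Type u) [CommRing A] [LocCoh.IsGorensteinLocalRing A] :
    LocCoh.IsGorensteinLocalRing (AdicCompletion (maximalIdeal A) A) := by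
  set B := AdicCompletion (maximalIdeal A) A
  have hmax : ((maximalIdeal A).map (algebraMap A B)).IsMaximal := by
    rw [← AdicCompletion.maximalIdeal_eq_map]; exact maximalIdeal.isMaximal B
  refine (gorenstein_flat_iff (R := A) (S := B)).2 ⟨inferInstance, ?_⟩
  letI := Ideal.Quotient.field ((maximalIdeal A).map (algebraMap A B))
  exact isGorenstein_of_regular _

theorem multicross (k : Type u) [Field k] (B : Type u) [CommRing B] [LocCoh.IsGorensteinLocalRing B] (n : ℕ)
    (hn : 2 ≤ n) (φ : B →+* (Fin n → PowerSeries k)) (hinj : Function.Injective φ)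
    (hrange : Set.range φ = {f : Fin n → PowerSeries k | ∀ i j : Fin n,
      PowerSeries.constantCoeff (f i) = PowerSeries.constantCoeff (f j)}) : n = 2 := by
  by_contra hne
  have h3 : 3 ≤ n := by omega
  have mem : ∀ f : Fin n → PowerSeries k, (∀ i j, PowerSeries.constantCoeff (f i) = PowerSeries.constantCoeff (f j)) →
      ∃ b, φ b = f := fun f hf => by
    have h : f ∈ Set.range φ := hrange.symm ▸ hf
    exact h
  have memr : ∀ b : B, ∀ i j, PowerSeries.constantCoeff (φ b i) = PowerSeries.constantCoeff (φ b j) := fun b => by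
    have h : φ b ∈ {f : Fin n → PowerSeries k | ∀ i j : Fin n,
      PowerSeries.constantCoeff (f i) = PowerSeries.constantCoeff (f j)} := hrange ▸ ⟨b, rfl⟩
    exact h
  let i₀ : Fin n := ⟨0, by omega⟩
  let i₁ : Fin n := ⟨1, by omega⟩
  let i₂ : Fin n := ⟨2, by omega⟩
  have h01 : i₀ ≠ i₁ := by simp [i₀, i₁]
  have h12 : i₂ ≠ i₁ := by simp [i₂, i₁]
  have h02 : i₂ ≠ i₀ := by simp [i₂, i₀]
  obtain ⟨x, hx⟩ := mem (fun _ => PowerSeries.X) (fun i j => rfl)
  have hxr : IsSMulRegular B x := isSMulRegular_iff_right_eq_zero_of_smul.2 fun b hb => hinj (by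
    funext i
    have h1 : PowerSeries.X * φ b i = 0 := by
      have := congrFun (congrArg φ hb) i
      rwa [smul_eq_mul, map_mul, map_zero, hx] at this
    rw [map_zero]
    exact (mul_eq_zero.1 h1).resolve_left PowerSeries.X_ne_zero)
  -- the maximal ideal
  have hm : ∀ b : B, b ∈ maximalIdeal B → ∀ i, PowerSeries.constantCoeff (φ b i) = 0 := by
    intro b hb i
    by_contra hc
    refine hb ?_
    have hu : ∀ j, IsUnit (φ b j) := fun j =>
      PowerSeries.isUnit_iff_constantCoeff.2 (isUnit_iff_ne_zero.2 (memr b j i ▸ hc))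
    obtain ⟨c, hc'⟩ := mem (fun j => (hu j).unit⁻¹.1) (fun p q => by
      have e : ∀ j, PowerSeries.constantCoeff ((hu j).unit⁻¹.1) = (PowerSeries.constantCoeff (φ b i))⁻¹ := fun j => by
        refine eq_inv_of_mul_eq_one_left ?_
        rw [← memr b j i, ← map_mul, (hu j).val_inv_mul, map_one]
      rw [e p, e q])
    exact IsUnit.of_mul_eq_one c (hinj (by
      rw [map_mul, map_one, hc']
      funext j
      exact (hu j).mul_val_inv))
  have hxm : x ∈ maximalIdeal B := by
    intro hu
    have h1 := ((hu.map φ).map (Pi.evalRingHom (fun _ : Fin n => PowerSeries k) i₀))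
    rw [hx] at h1
    have h2 : IsUnit (PowerSeries.X : PowerSeries k) := h1
    rw [PowerSeries.isUnit_iff_constantCoeff, PowerSeries.constantCoeff_X] at h2
    exact not_isUnit_zero h2
  set I := Ideal.span {x}
  haveI := SerreReg.isLocalRing_quot hxm
  haveI : LocCoh.IsGorensteinLocalRing (B ⧸ I) := (gorenstein_iff_quot x hxm hxr).1 inferInstance
  -- dimension zero
  have hsq : ∀ b : B, b ∈ maximalIdeal B → ∀ c ∈ maximalIdeal B, b * c ∈ I := by
    intro b hb c hc
    have hdiv : ∀ i, ∃ g, φ (b * c) i = PowerSeries.X * g ∧ PowerSeries.constantCoeff g = 0 := fun i => by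
      obtain ⟨p, hp⟩ := PowerSeries.X_dvd_iff.2 (hm b hb i)
      obtain ⟨q, hq⟩ := PowerSeries.X_dvd_iff.2 (hm c hc i)
      refine ⟨p * (PowerSeries.X * q), ?_, by simp⟩
      rw [map_mul, Pi.mul_apply, hp, hq]; ring
    choose g hg hg0 using hdiv
    obtain ⟨d, hd⟩ := mem g (fun i j => (hg0 i).trans (hg0 j).symm)
    refine Ideal.mem_span_singleton'.2 ⟨d, hinj ?_⟩
    funext i
    rw [map_mul, Pi.mul_apply, hd, hx, hg i, mul_comm]
  have hd0 : ringKrullDim (B ⧸ I) = 0 := by
    haveI : Ring.KrullDimLE 0 (B ⧸ I) := .mk₀ fun q hq => by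
      have hle : maximalIdeal (B ⧸ I) ≤ q := fun w hw => by
        obtain ⟨b, rfl⟩ := Ideal.Quotient.mk_surjective w
        have hb : b ∈ maximalIdeal B := fun hu => hw (hu.map _)
        refine hq.mem_of_pow_mem 2 ?_
        rw [pow_two, ← map_mul, Ideal.Quotient.eq_zero_iff_mem.2 (hsq b hb b hb)]
        exact q.zero_mem
      exact (maximalIdeal.isMaximal _).eq_of_le hq.ne_top hle ▸ maximalIdeal.isMaximal _
    exact (ringKrullDimZero_iff_ringKrullDim_eq_zero).1 inferInstance
  obtain ⟨s, hs0, hsm, hs⟩ := (gorenstein_iff_socSimple (B ⧸ I) hd0).1 inferInstance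
  -- two socle elements
  have hsoc : ∀ b ∈ maximalIdeal B, Ideal.Quotient.mk I b ∈ Ideal.span {s} := fun b hb =>
    hs _ fun w hw => by
      obtain ⟨c, rfl⟩ := Ideal.Quotient.mk_surjective w
      rw [← map_mul, Ideal.Quotient.eq_zero_iff_mem]
      exact hsq c (fun hu => hw (hu.map _)) b hb
  have he : ∀ i : Fin n, ∃ b, φ b = Pi.single i PowerSeries.X := fun i => mem _ fun p q => by
    have e : ∀ p, PowerSeries.constantCoeff ((Pi.single i PowerSeries.X : Fin n → PowerSeries k) p) = 0 := fun p => by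
      rcases eq_or_ne p i with rfl | h
      · simp
      · simp [h]
    rw [e p, e q]
  choose e hee using he
  have hem : ∀ i, e i ∈ maximalIdeal B := fun i hu => by
    have h1 := ((hu.map φ).map (Pi.evalRingHom (fun _ : Fin n => PowerSeries k) i))
    rw [hee] at h1
    have h2 : IsUnit (PowerSeries.X : PowerSeries k) := by simpa using h1
    rw [PowerSeries.isUnit_iff_constantCoeff, PowerSeries.constantCoeff_X] at h2
    exact not_isUnit_zero h2
  obtain ⟨a, ha⟩ := Ideal.mem_span_singleton'.1 (hsoc _ (hem i₀))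
  obtain ⟨c, hc⟩ := Ideal.mem_span_singleton'.1 (hsoc _ (hem i₁))
  obtain ⟨a, rfl⟩ := Ideal.Quotient.mk_surjective a
  obtain ⟨c, rfl⟩ := Ideal.Quotient.mk_surjective c
  have hrel : c * e i₀ - a * e i₁ ∈ I := by
    rw [← Ideal.Quotient.eq, map_mul, map_mul, ← ha, ← hc]; ring
  obtain ⟨d, hd⟩ := Ideal.mem_span_singleton'.1 hrel
  have key : ∀ i, PowerSeries.constantCoeff (φ d i) = PowerSeries.constantCoeff (φ c i) * (if i = i₀ then 1 else 0)
      - PowerSeries.constantCoeff (φ a i) * (if i = i₁ then 1 else 0) := fun i => by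
    have h0 := congrFun (congrArg φ hd) i
    simp only [map_mul, map_sub, Pi.mul_apply, Pi.sub_apply, hx, hee] at h0
    have h1 := congrArg (PowerSeries.coeff 1) h0
    rw [map_sub, PowerSeries.coeff_succ_mul_X, PowerSeries.coeff_zero_eq_constantCoeff_apply] at h1
    rw [h1]
    congr 1
    all_goals
      split_ifs with h
      · subst h
        rw [Pi.single_eq_same, PowerSeries.coeff_succ_mul_X, PowerSeries.coeff_zero_eq_constantCoeff_apply, mul_one]
      · rw [Pi.single_eq_of_ne h, mul_zero, map_zero, mul_zero]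
  have k2 := key i₂
  rw [if_neg h02, if_neg h12, mul_zero, mul_zero, sub_zero] at k2
  have k0 := key i₀
  rw [if_pos rfl, if_neg h01, mul_one, mul_zero, sub_zero, memr d i₀ i₂, k2] at k0
  have k1 := key i₁
  rw [if_pos rfl, if_neg h01.symm, mul_one, mul_zero, zero_sub, memr d i₁ i₂, k2, zero_eq_neg] at k1
  have hc0 : c ∈ maximalIdeal B := fun hu => by
    have h1 := PowerSeries.isUnit_iff_constantCoeff.1 ((hu.map φ).map (Pi.evalRingHom (fun _ : Fin n => PowerSeries k) i₀))
    rw [Pi.evalRingHom_apply, ← k0] at h1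
    exact not_isUnit_zero h1
  -- `e i₁` dies in `B/I`, impossible
  have he1 : Ideal.Quotient.mk I (e i₁) = 0 := by
    obtain ⟨s', rfl⟩ := Ideal.Quotient.mk_surjective s
    by_cases hs' : s' ∈ maximalIdeal B
    · rw [← hc, ← map_mul, Ideal.Quotient.eq_zero_iff_mem]
      exact hsq c hc0 s' hs'
    · have h1 := hsm (Ideal.Quotient.mk I (e i₁)) (fun hu => by
        haveI : IsLocalHom (Ideal.Quotient.mk I) := IsLocalHom.of_surjective _ Ideal.Quotient.mk_surjective
        exact hem i₁ ((isUnit_map_iff (Ideal.Quotient.mk I) _).1 hu))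
      exact (((IsLocalRing.notMem_maximalIdeal.1 hs').map (Ideal.Quotient.mk I)).mul_left_eq_zero).1 h1
  obtain ⟨g, hg⟩ := Ideal.mem_span_singleton'.1 (Ideal.Quotient.eq_zero_iff_mem.1 he1)
  have g1' := congrFun (congrArg φ hg) i₁
  have g2' := congrFun (congrArg φ hg) i₂
  simp only [map_mul, Pi.mul_apply, hx, hee] at g1' g2'
  have g1 := congrArg (PowerSeries.coeff 1) g1'
  have g2 := congrArg (PowerSeries.coeff 1) g2'
  rw [PowerSeries.coeff_succ_mul_X, PowerSeries.coeff_zero_eq_constantCoeff_apply,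
    Pi.single_eq_same, PowerSeries.coeff_one_X] at g1
  rw [PowerSeries.coeff_succ_mul_X, PowerSeries.coeff_zero_eq_constantCoeff_apply,
    Pi.single_eq_of_ne h12, map_zero, memr g i₂ i₁, g1] at g2
  exact one_ne_zero g2

end Groth.Agent.Goren
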