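import Mathlib.Algebra.Category.ModuleCat.Ext.Finite
import Mathlib.Algebra.Category.ModuleCat.Ext.HasExt
import Mathlib.Algebra.Category.ModuleCat.Projective
import Mathlib.Algebra.Homology.DerivedCategory.Ext.EnoughProjectives
import Mathlib.Algebra.Homology.DerivedCategory.Ext.Linear
import Mathlib.Algebra.Homology.ShortComplex.ModuleCat
import Mathlib.RingTheory.Regular.RegularSequence

/-! Rees: vanishing of `Ext` and division by a regular element. -/

set_option autoImplicit false
set_option maxHeartbeats 1000000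

universe u

open CategoryTheory Abelian

noncomputable section

namespace Groth.Agent.Goren

section General

variable {R : Type u} [CommRing R]

theorem subsingleton_of_iso {X X' Y : ModuleCat.{u} R} (e : X ≅ X') {n : ℕ}
    (h : Subsingleton (Ext X Y n)) : Subsingleton (Ext X' Y n) :=
  subsingleton_of_forall_eq 0 fun a => by
    have h1 : (Ext.mk₀ e.inv).comp ((Ext.mk₀ e.hom).comp a (zero_add n)) (zero_add n) = a := by
      rw [Ext.mk₀_comp_mk₀_assoc, e.inv_hom_id, Ext.mk₀_id_comp]
    rw [← h1, Subsingleton.elim ((Ext.mk₀ e.hom).comp a (zero_add n)) 0, Ext.comp_zero]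

theorem subsingleton_iff_shift {S : ShortComplex (ModuleCat.{u} R)} (hS : S.ShortExact) (Y : ModuleCat.{u} R)
    {n : ℕ} (h2 : Subsingleton (Ext S.X₂ Y n)) (h3 : Subsingleton (Ext S.X₂ Y (n + 1))) :
    Subsingleton (Ext S.X₃ Y (n + 1)) ↔ Subsingleton (Ext S.X₁ Y n) := by
  constructor
  · intro h
    refine subsingleton_of_forall_eq 0 fun a => ?_
    obtain ⟨b, rfl⟩ := Ext.contravariant_sequence_exact₁ hS Y a (add_comm 1 n) (Subsingleton.elim _ _)
    rw [Subsingleton.elim b 0, Ext.comp_zero]
  · intro h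
    refine subsingleton_of_forall_eq 0 fun a => ?_
    obtain ⟨b, rfl⟩ := Ext.contravariant_sequence_exact₃ hS Y a (Subsingleton.elim _ _) (add_comm 1 n)
    rw [Subsingleton.elim b 0, Ext.comp_zero]

theorem smul_ext_eq_zero {W : Type u} [AddCommGroup W] [Module R W] {x : R} (hW : ∀ w : W, x • w = 0)
    {Y : ModuleCat.{u} R} {n : ℕ} (a : Ext (ModuleCat.of R W) Y n) : x • a = 0 := by
  have h1 : (x • 𝟙 (ModuleCat.of R W) : ModuleCat.of R W ⟶ ModuleCat.of R W) = 0 :=
    ModuleCat.hom_ext (LinearMap.ext hW)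
  conv_lhs => rw [← Ext.mk₀_id_comp a]
  rw [← Ext.smul_comp, ← Ext.mk₀_smul, h1, Ext.mk₀_zero, Ext.zero_comp]

end General

section Rees

variable {R : Type u} [CommRing R] {x : R}
variable {S : Type u} [CommRing S] [Algebra R S]
variable {M Q : Type u} [AddCommGroup M] [Module R M] [AddCommGroup Q] [Module R Q] [Module S Q]
  [IsScalarTower R S Q]

/-- `0 → M → M → Q → 0`. -/
abbrev mulSeq (x : R) (π : M →ₗ[R] Q) (hπ : ∀ m, π m = 0 ↔ ∃ y, m = x • y) : ShortComplex (ModuleCat.{u} R) :=
  ShortComplex.mk (ModuleCat.ofHom (x • LinearMap.id : M →ₗ[R] M)) (ModuleCat.ofHom π)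
    (ModuleCat.hom_ext (LinearMap.ext fun m => (hπ _).2 ⟨m, rfl⟩))

omit [Module S Q] [IsScalarTower R S Q] in
theorem mulSeq_shortExact (hregM : IsSMulRegular M x) (π : M →ₗ[R] Q) (hπs : Function.Surjective π)
    (hπ : ∀ m, π m = 0 ↔ ∃ y, m = x • y) : (mulSeq x π hπ).ShortExact where
  exact := (ShortComplex.moduleCat_exact_iff _).2 fun m hm => by
    obtain ⟨y, hy⟩ := (hπ m).1 hm
    exact ⟨y, hy.symm⟩
  mono_f := (ModuleCat.mono_iff_injective _).2 hregM
  epi_g := (ModuleCat.epi_iff_surjective _).2 hπs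

variable (hregM : IsSMulRegular M x) (π : M →ₗ[R] Q) (hπs : Function.Surjective π)
  (hπ : ∀ m, π m = 0 ↔ ∃ y, m = x • y)
variable {W : Type u} [AddCommGroup W] [Module R W] (hW : ∀ w : W, x • w = 0)

/-- The connecting map `Hom(W, Q) → Ext¹(W, M)`. -/
def delta (φ : ModuleCat.of R W ⟶ ModuleCat.of R Q) : Ext (ModuleCat.of R W) (ModuleCat.of R M) 1 :=
  (Ext.mk₀ φ).comp (mulSeq_shortExact hregM π hπs hπ).extClass (zero_add 1)

include hW in
omit [Module S Q] [IsScalarTower R S Q] in
theorem delta_surjective : Function.Surjective (delta hregM π hπs hπ (W := W)) := by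
  intro a
  obtain ⟨b, hb⟩ := Ext.covariant_sequence_exact₁ _ (mulSeq_shortExact hregM π hπs hπ) a (by
    show a.comp (Ext.mk₀ _) (add_zero 1) = 0
    rw [show (mulSeq x π hπ).f = x • 𝟙 (ModuleCat.of R M) from ModuleCat.hom_ext rfl,
      ← Ext.smul_eq_comp_mk₀, smul_ext_eq_zero hW]) (zero_add 1)
  obtain ⟨φ, rfl⟩ := (Ext.mk₀_bijective _ _).2 b
  exact ⟨φ, hb⟩

include hW in
omit [Module S Q] [IsScalarTower R S Q] in
theorem delta_injective : Function.Injective (delta hregM π hπs hπ (W := W)) := by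
  intro φ ψ h
  have h0 : delta hregM π hπs hπ (φ - ψ) = 0 := by
    simp only [delta, sub_eq_add_neg, Ext.mk₀_add, Ext.mk₀_neg, Ext.add_comp, Ext.neg_comp]
    rw [← sub_eq_add_neg, sub_eq_zero]
    exact h
  obtain ⟨y, hy⟩ := Ext.covariant_sequence_exact₃ _ (mulSeq_shortExact hregM π hπs hπ) (Ext.mk₀ (φ - ψ))
    (zero_add 1) h0
  obtain ⟨g, rfl⟩ := (Ext.mk₀_bijective _ _).2 y
  have hg : g = 0 := ModuleCat.hom_ext (LinearMap.ext fun w => hregM (by
    show x • g.hom w = x • 0
    rw [← map_smul, hW, map_zero, smul_zero]))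
  rw [hg, Ext.mk₀_zero, Ext.zero_comp] at hy
  exact sub_eq_zero.1 ((Ext.mk₀_eq_zero_iff _).1 hy.symm)

variable (hS : Function.Surjective (algebraMap R S)) (hker : ∀ r, algebraMap R S r = 0 ↔ ∃ s, r = x * s)
  (hreg : IsSMulRegular R x)

include hS hker hreg in
omit [Module S Q] [IsScalarTower R S Q] in
/-- A free `S`-module has no `Ext` over `R` beyond degree one. -/
theorem subsingleton_ext_free (ι : Type u) (Y : ModuleCat.{u} R) (n : ℕ) :
    Subsingleton (Ext (ModuleCat.of R (ι →₀ S)) Y (n + 2)) := by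
  let g : (ι →₀ R) →ₗ[R] (ι →₀ S) := Finsupp.mapRange.linearMap (Algebra.linearMap R S)
  have hg : Function.Surjective g := Finsupp.mapRange_surjective _ (map_zero _) hS
  have hmem : ∀ v : ι →₀ R, x • v ∈ LinearMap.ker g := fun v => by
    rw [LinearMap.mem_ker]
    ext i
    show algebraMap R S (x * v i) = 0
    rw [map_mul, (hker x).2 ⟨1, (mul_one x).symm⟩, zero_mul]
  let j : (ι →₀ R) →ₗ[R] LinearMap.ker g := LinearMap.codRestrict _ (x • LinearMap.id) hmem
  have hj : Function.Bijective j := by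
    refine ⟨fun v w h => Finsupp.ext fun i => hreg (DFunLike.congr_fun (congrArg Subtype.val h) i), fun w => ?_⟩
    have h1 : ∀ i, ∃ s, w.1 i = x * s := fun i => (hker _).1 (DFunLike.congr_fun w.2 i)
    choose s hs using h1
    refine ⟨Finsupp.onFinset w.1.support s fun i hi => Finsupp.mem_support_iff.2 fun h0 => hi (hreg (by
      show x * s i = x * 0
      rw [mul_zero, ← hs i, h0])), Subtype.ext (Finsupp.ext fun i => ?_)⟩
    show x * s i = w.1 i
    exact (hs i).symm
  haveI : Module.Free R (LinearMap.ker g) := Module.Free.of_equiv (LinearEquiv.ofBijective j hj)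
  haveI : Projective (ModuleCat.of R (LinearMap.ker g)) := (IsProjective.iff_projective _).1 inferInstance
  haveI : Projective (ModuleCat.of R (ι →₀ R)) := (IsProjective.iff_projective _).1 inferInstance
  refine subsingleton_of_forall_eq 0 fun a => ?_
  obtain ⟨b, rfl⟩ := Ext.contravariant_sequence_exact₃ (LinearMap.shortExact_shortComplexKer hg) Y a
    (Ext.eq_zero_of_projective _) (add_comm 1 (n + 1))
  rw [Ext.eq_zero_of_projective b, Ext.comp_zero]

include hregM hπs hπ hS hker hreg in
/-- Rees's lemma, for vanishing. -/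
theorem subsingleton_ext_iff : ∀ (i : ℕ) (N : Type u) [AddCommGroup N] [Module R N] [Module S N]
    [IsScalarTower R S N], Subsingleton (Ext (ModuleCat.of R N) (ModuleCat.of R M) (i + 2)) ↔
      Subsingleton (Ext (ModuleCat.of S N) (ModuleCat.of S Q) (i + 1)) := by
  intro i
  induction i with
  | zero =>
    intro N _ _ _ _
    let gS : (N →₀ S) →ₗ[S] N := Finsupp.linearCombination S id
    have hgS : Function.Surjective gS := fun n => ⟨Finsupp.single n 1, by simp [gS]⟩
    let gR : (N →₀ S) →ₗ[R] N := gS.restrictScalars R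
    have hgR : Function.Surjective gR := hgS
    have hx : algebraMap R S x = 0 := (hker x).2 ⟨1, (mul_one x).symm⟩
    have hxF : ∀ v : N →₀ S, x • v = 0 := fun v => by rw [← algebraMap_smul S x v, hx, zero_smul]
    have hxK : ∀ v : LinearMap.ker gR, x • v = 0 := fun v => Subtype.ext (hxF v.1)
    have TR := LinearMap.shortExact_shortComplexKer hgR
    have TS := LinearMap.shortExact_shortComplexKer hgS
    haveI : Projective (ModuleCat.of S (N →₀ S)) := (IsProjective.iff_projective _).1 inferInstance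
    constructor
    · intro h
      refine subsingleton_of_forall_eq 0 fun a => ?_
      obtain ⟨b, rfl⟩ := Ext.contravariant_sequence_exact₃ TS (ModuleCat.of S Q) a
        (Ext.eq_zero_of_projective _) (add_comm 1 0)
      obtain ⟨φ, rfl⟩ := (Ext.mk₀_bijective _ _).2 b
      let φR : LinearMap.ker gR →ₗ[R] Q :=
        { toFun := fun v => φ.hom ⟨v.1, v.2⟩
          map_add' := fun v w => map_add φ.hom (⟨v.1, v.2⟩ : LinearMap.ker gS) ⟨w.1, w.2⟩
          map_smul' := fun r v => by
            simp only [RingHom.id_apply]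
            rw [← algebraMap_smul S r (φ.hom _), ← map_smul]
            exact congrArg φ.hom (Subtype.ext (algebraMap_smul S r v.1).symm) }
      obtain ⟨c, hc⟩ := Ext.contravariant_sequence_exact₁ TR (ModuleCat.of R M)
        (delta hregM π hπs hπ (ModuleCat.ofHom φR)) (add_comm 1 1) (Subsingleton.elim _ _)
      obtain ⟨ψ, rfl⟩ := delta_surjective hregM π hπs hπ hxF c
      rw [delta, Ext.mk₀_comp_mk₀_assoc] at hc
      have hψ := delta_injective hregM π hπs hπ hxK hc
      obtain ⟨ψS, hψS⟩ : ∃ ψS : (N →₀ S) →ₗ[S] Q, ∀ v, ψS v = ψ.hom v :=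
        ⟨{ toFun := ψ.hom
           map_add' := map_add ψ.hom
           map_smul' := fun s v => by
            obtain ⟨r, rfl⟩ := hS s
            rw [RingHom.id_apply, algebraMap_smul, algebraMap_smul, map_smul] }, fun v => rfl⟩
      have hφ : (Ext.mk₀ φ : Ext _ _ 0) =
          (Ext.mk₀ gS.shortComplexKer.f).comp (Ext.mk₀ (ModuleCat.ofHom ψS)) (zero_add 0) := by
        rw [Ext.mk₀_comp_mk₀]
        refine congrArg Ext.mk₀ (ModuleCat.hom_ext (LinearMap.ext fun v => ?_))
        show φ.hom v = ψS v.1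
        rw [hψS]
        exact (LinearMap.congr_fun (congrArg ModuleCat.Hom.hom hψ) ⟨v.1, v.2⟩).symm
      rw [hφ, ← Ext.comp_assoc_of_second_deg_zero, TS.extClass_comp, Ext.zero_comp]
    · intro h
      refine subsingleton_of_forall_eq 0 fun a => ?_
      obtain ⟨b, rfl⟩ := Ext.contravariant_sequence_exact₃ TR (ModuleCat.of R M) a
        (@Subsingleton.elim _ (subsingleton_ext_free hS hker hreg N _ 0) _ _) (add_comm 1 1)
      obtain ⟨φ, rfl⟩ := delta_surjective hregM π hπs hπ hxK b
      let φS : LinearMap.ker gS →ₗ[S] Q :=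
        { toFun := fun v => φ.hom ⟨v.1, v.2⟩
          map_add' := fun v w => map_add φ.hom (⟨v.1, v.2⟩ : LinearMap.ker gR) ⟨w.1, w.2⟩
          map_smul' := fun s v => by
            obtain ⟨r, rfl⟩ := hS s
            rw [RingHom.id_apply, algebraMap_smul S r (φ.hom _), ← map_smul]
            exact congrArg φ.hom (Subtype.ext (algebraMap_smul S r v.1)) }
      obtain ⟨c, hc⟩ := Ext.contravariant_sequence_exact₁ TS (ModuleCat.of S Q) (Ext.mk₀ (ModuleCat.ofHom φS))
        (add_comm 1 0) (Subsingleton.elim _ _)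
      obtain ⟨ψ, rfl⟩ := (Ext.mk₀_bijective _ _).2 c
      rw [Ext.mk₀_comp_mk₀] at hc
      have hψ := (Ext.mk₀_bijective _ _).1 hc
      have hd : delta hregM π hπs hπ φ = (Ext.mk₀ gR.shortComplexKer.f).comp
          (delta hregM π hπs hπ (ModuleCat.ofHom (ψ.hom.restrictScalars R))) (zero_add 1) := by
        rw [delta, delta, Ext.mk₀_comp_mk₀_assoc]
        congr 1
        refine congrArg Ext.mk₀ (ModuleCat.hom_ext (LinearMap.ext fun v => ?_))
        show φ.hom v = ψ.hom v.1
        exact (LinearMap.congr_fun (congrArg ModuleCat.Hom.hom hψ) ⟨v.1, v.2⟩).symm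
      rw [hd, ← Ext.comp_assoc_of_second_deg_zero, TR.extClass_comp, Ext.zero_comp]
  | succ i ih =>
    intro N _ _ _ _
    let gS : (N →₀ S) →ₗ[S] N := Finsupp.linearCombination S id
    have hgS : Function.Surjective gS := fun n => ⟨Finsupp.single n 1, by simp [gS]⟩
    let gR : (N →₀ S) →ₗ[R] N := gS.restrictScalars R
    have TR := LinearMap.shortExact_shortComplexKer (f := gR) hgS
    have TS := LinearMap.shortExact_shortComplexKer hgS
    haveI : Projective (ModuleCat.of S (N →₀ S)) := (IsProjective.iff_projective _).1 inferInstance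
    refine (subsingleton_iff_shift TR _ (subsingleton_ext_free hS hker hreg N _ i)
      (subsingleton_ext_free hS hker hreg N _ (i + 1))).trans (Iff.trans ?_
      (subsingleton_iff_shift TS _ (subsingleton_of_forall_eq 0 Ext.eq_zero_of_projective)
        (subsingleton_of_forall_eq 0 Ext.eq_zero_of_projective)).symm)
    exact ih (LinearMap.ker gS)

end Rees

end Groth.Agent.Goren
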