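import Groth.Prelude.Def_CAlg
import Groth.Agent.Goren.Rees
import Groth.Agent.SerreReg.Regular
import Groth.Agent.SerreReg.CM
import Groth.Agent.CMFlat.Localization
import Mathlib.RingTheory.Ideal.AssociatedPrime.Localization
import Mathlib.RingTheory.KrullDimension.Zero

/-! Gorenstein local rings: residue field criterion, dimension, division by a regular element. -/

set_option autoImplicit false
set_option maxHeartbeats 1000000

universe u

open CategoryTheory Abelian IsLocalRing RingTheory.Sequence

noncomputable section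

namespace Groth.Agent.Goren

variable (A : Type u) [CommRing A] [IsLocalRing A]

/-- `Ext(k, M)` vanishes from degree `n` on. -/
def ResVanish (M : Type u) [AddCommGroup M] [Module A M] (n : ℕ) : Prop :=
  ∀ i, n ≤ i → Subsingleton (Ext (ModuleCat.of A (ResidueField A)) (ModuleCat.of A M) i)

variable {A} [IsNoetherianRing A]

theorem eq_bot_of_smul_surj {E : Type u} [AddCommGroup E] [Module A E] [Module.Finite A E] {x : A}
    (hx : x ∈ maximalIdeal A) (h : ∀ a : E, ∃ b, a = x • b) : Subsingleton E := by
  have : (⊤ : Submodule A E) = ⊥ :=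
    Submodule.eq_bot_of_le_smul_of_le_jacobson_bot (maximalIdeal A) _ Module.Finite.fg_top
      (fun a _ => by
        obtain ⟨b, rfl⟩ := h a
        exact Submodule.smul_mem_smul hx Submodule.mem_top)
      (maximalIdeal_le_jacobson _)
  exact subsingleton_of_forall_eq 0 fun a => (Submodule.mem_bot A).1 (this ▸ Submodule.mem_top)

/-- The residue field detects `Ext` out of all cyclic modules. -/
theorem ext_cyclic (M : Type u) [AddCommGroup M] [Module A M] [Module.Finite A M] {n : ℕ}
    (h : ResVanish A M n) (I : Ideal A) :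
    ∀ i, n ≤ i → Subsingleton (Ext (ModuleCat.of A (A ⧸ I)) (ModuleCat.of A M) i) := by
  induction I using WellFoundedGT.induction with
  | _ I ih =>
    intro i hi
    by_cases htop : I = ⊤
    · refine subsingleton_of_forall_eq 0 fun a => ?_
      rw [← one_smul A a]
      refine smul_ext_eq_zero (fun w => ?_) a
      haveI : Subsingleton (A ⧸ I) := Ideal.Quotient.subsingleton_iff.2 htop
      exact Subsingleton.elim _ _
    by_cases hp : I.IsPrime
    · by_cases hm : I = maximalIdeal A
      · subst hm; exact h i hi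
      obtain ⟨x, hx, hxI⟩ : ∃ x ∈ maximalIdeal A, x ∉ I := by
        by_contra hc
        push Not at hc
        exact hm (le_antisymm (IsLocalRing.le_maximalIdeal htop) hc)
      let J := I ⊔ Ideal.span {x}
      have hJ : I < J := lt_of_le_of_ne le_sup_left fun he =>
        hxI (he ▸ Ideal.mem_sup_right (Ideal.mem_span_singleton_self x))
      let f : (A ⧸ I) →ₗ[A] A ⧸ I := x • LinearMap.id
      let g : (A ⧸ I) →ₗ[A] A ⧸ J := Submodule.factor hJ.le
      have hzero : g.comp f = 0 := LinearMap.ext fun w => by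
        obtain ⟨a, rfl⟩ := Submodule.Quotient.mk_surjective _ w
        show Submodule.Quotient.mk (x • a) = 0
        exact (Submodule.Quotient.mk_eq_zero _).2 (Ideal.mem_sup_right (Ideal.mul_mem_right _ _ (Ideal.mem_span_singleton_self x)))
      let T : ShortComplex (ModuleCat.{u} A) :=
        ShortComplex.mk (ModuleCat.ofHom f) (ModuleCat.ofHom g) (ModuleCat.hom_ext hzero)
      have hT : T.ShortExact :=
        { exact := (ShortComplex.moduleCat_exact_iff _).2 fun (w : A ⧸ I) (hw : g w = 0) => by
            obtain ⟨a, rfl⟩ := Submodule.Quotient.mk_surjective _ w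
            obtain ⟨p, hp', q, hq, hpq⟩ := Submodule.mem_sup.1 ((Submodule.Quotient.mk_eq_zero _).1 hw)
            obtain ⟨r, rfl⟩ := Ideal.mem_span_singleton'.1 hq
            refine ⟨Submodule.Quotient.mk r, ?_⟩
            show Submodule.Quotient.mk (x • r) = Submodule.Quotient.mk a
            rw [Submodule.Quotient.eq, smul_eq_mul]
            rw [show a = p + r * x from hpq.symm]
            have : x * r - (p + r * x) = -p := by ring
            rw [this]; exact neg_mem hp'
          mono_f := (ModuleCat.mono_iff_injective _).2 ((injective_iff_map_eq_zero f).2 fun w hw => by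
            obtain ⟨a, rfl⟩ := Submodule.Quotient.mk_surjective _ w
            have : x * a ∈ I := (Submodule.Quotient.mk_eq_zero _).1 hw
            exact (Submodule.Quotient.mk_eq_zero _).2 ((hp.mem_or_mem this).resolve_left hxI))
          epi_g := (ModuleCat.epi_iff_surjective _).2 (Submodule.factor_surjective hJ.le) }
      refine eq_bot_of_smul_surj hx fun a => ?_
      obtain ⟨b, hb⟩ := Ext.contravariant_sequence_exact₁ hT (ModuleCat.of A M) a (add_comm 1 i)
        (@Subsingleton.elim _ (ih J hJ (i + 1) (by omega)) _ _)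
      refine ⟨b, hb.symm.trans ?_⟩
      rw [show T.f = x • 𝟙 (ModuleCat.of A (A ⧸ I)) from ModuleCat.hom_ext rfl, Ext.mk₀_smul, Ext.smul_comp,
        Ext.mk₀_id_comp]
    · rw [Ideal.isPrime_iff, not_and] at hp
      obtain ⟨a, b, hab, ha, hb⟩ : ∃ a b, a * b ∈ I ∧ a ∉ I ∧ b ∉ I := by
        by_contra hc
        push Not at hc
        exact hp htop fun {a b} hab => or_iff_not_imp_left.2 (hc a b hab)
      let J₁ : Ideal A := Submodule.comap (LinearMap.mulRight A a) I
      let J₂ := I ⊔ Ideal.span {a}
      have hJ₁ : I < J₁ := lt_of_le_of_ne (fun r hr => I.mul_mem_right a hr) fun he =>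
        hb (he ▸ (show b * a ∈ I by rwa [mul_comm]))
      have hJ₂ : I < J₂ := lt_of_le_of_ne le_sup_left fun he =>
        ha (he ▸ Ideal.mem_sup_right (Ideal.mem_span_singleton_self a))
      let f : (A ⧸ J₁) →ₗ[A] A ⧸ I := Submodule.mapQ J₁ I (LinearMap.mulRight A a) le_rfl
      let g : (A ⧸ I) →ₗ[A] A ⧸ J₂ := Submodule.factor hJ₂.le
      have hzero : g.comp f = 0 := LinearMap.ext fun w => by
        obtain ⟨r, rfl⟩ := Submodule.Quotient.mk_surjective _ w
        show Submodule.Quotient.mk (r * a) = 0
        exact (Submodule.Quotient.mk_eq_zero _).2 (Ideal.mem_sup_right (Ideal.mul_mem_left _ _ (Ideal.mem_span_singleton_self a)))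
      let T : ShortComplex (ModuleCat.{u} A) :=
        ShortComplex.mk (ModuleCat.ofHom f) (ModuleCat.ofHom g) (ModuleCat.hom_ext hzero)
      have hT : T.ShortExact :=
        { exact := (ShortComplex.moduleCat_exact_iff _).2 fun (w : A ⧸ I) (hw : g w = 0) => by
            obtain ⟨c, rfl⟩ := Submodule.Quotient.mk_surjective _ w
            obtain ⟨p, hp', q, hq, hpq⟩ := Submodule.mem_sup.1 ((Submodule.Quotient.mk_eq_zero _).1 hw)
            obtain ⟨r, rfl⟩ := Ideal.mem_span_singleton'.1 hq
            refine ⟨Submodule.Quotient.mk r, ?_⟩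
            show Submodule.Quotient.mk (r * a) = Submodule.Quotient.mk c
            rw [Submodule.Quotient.eq, show c = p + r * a from hpq.symm]
            have : r * a - (p + r * a) = -p := by ring
            rw [this]; exact neg_mem hp'
          mono_f := (ModuleCat.mono_iff_injective _).2 ((injective_iff_map_eq_zero f).2 fun w hw => by
            obtain ⟨r, rfl⟩ := Submodule.Quotient.mk_surjective _ w
            exact (Submodule.Quotient.mk_eq_zero _).2 ((Submodule.Quotient.mk_eq_zero I).1 (show (Submodule.Quotient.mk (r * a) : A ⧸ I) = 0 from hw)))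
          epi_g := (ModuleCat.epi_iff_surjective _).2 (Submodule.factor_surjective hJ₂.le) }
      refine subsingleton_of_forall_eq 0 fun e => ?_
      obtain ⟨c, rfl⟩ := Ext.contravariant_sequence_exact₂ hT (ModuleCat.of A M) e
        (@Subsingleton.elim _ (ih J₁ hJ₁ i hi) _ _)
      rw [@Subsingleton.elim _ (ih J₂ hJ₂ i hi) c 0, Ext.comp_zero]

/-- Injective dimension from the residue field. -/
theorem hasInjectiveDimensionLE (M : Type u) [AddCommGroup M] [Module A M] [Module.Finite A M] {n : ℕ}
    (h : ResVanish A M (n + 1)) : HasInjectiveDimensionLE (ModuleCat.of A M) n :=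
  SerreReg.hasInjectiveDimensionLE_of_cyclic n _ fun I => ext_cyclic M h I (n + 1) le_rfl

omit [IsNoetherianRing A] in
theorem resVanish_of_lt (M : Type u) [AddCommGroup M] [Module A M] {n : ℕ}
    [HasInjectiveDimensionLT (ModuleCat.of A M) n] : ResVanish A M n := fun i hi =>
  HasInjectiveDimensionLT.subsingleton _ n i hi _

theorem exists_resVanish_iff (M : Type u) [AddCommGroup M] [Module A M] [Module.Finite A M] :
    (∃ n : ℕ, HasInjectiveDimensionLT (ModuleCat.of A M) n) ↔ ∃ N : ℕ, ResVanish A M N :=
  ⟨fun ⟨n, hn⟩ => ⟨n, resVanish_of_lt M⟩, fun ⟨N, hN⟩ => ⟨N + 1,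
    hasInjectiveDimensionLE M fun i hi => hN i (by omega)⟩⟩

variable (A) in
theorem isGorensteinLocalRing_iff : LocCoh.IsGorensteinLocalRing A ↔ ∃ N : ℕ, ResVanish A A N :=
  ⟨fun h => (exists_resVanish_iff A).1 h.exists_hasInjectiveDimensionLT,
    fun h => { exists_hasInjectiveDimensionLT := (exists_resVanish_iff A).2 h }⟩

section Quotient

variable (x : A)

/-- The residue field of a quotient is the residue field. -/
def residueEquiv [IsLocalRing (A ⧸ Ideal.span {x})] :
    ResidueField A ≃ₗ[A] ResidueField (A ⧸ Ideal.span {x}) :=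
  let f : A →ₗ[A] ResidueField (A ⧸ Ideal.span {x}) := Algebra.linearMap A _
  have hker : LinearMap.ker f = maximalIdeal A := by
    ext a
    rw [LinearMap.mem_ker]
    show residue (A ⧸ Ideal.span {x}) (Ideal.Quotient.mk _ a) = 0 ↔ _
    rw [residue_eq_zero_iff]
    haveI : IsLocalHom (Ideal.Quotient.mk (Ideal.span {x})) := IsLocalHom.of_surjective _ Ideal.Quotient.mk_surjective
    exact map_mem_nonunits_iff (Ideal.Quotient.mk (Ideal.span {x})) a
  (Submodule.quotEquivOfEq _ _ hker.symm).trans (f.quotKerEquivOfSurjective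
    ((residue_surjective (R := A ⧸ Ideal.span {x})).comp Ideal.Quotient.mk_surjective))

omit [IsNoetherianRing A] in
theorem resVanish_quot_iff [IsLocalRing (A ⧸ Ideal.span {x})] (hreg : IsSMulRegular A x) (n : ℕ) :
    ResVanish A A (n + 2) ↔ ResVanish (A ⧸ Ideal.span {x}) (A ⧸ Ideal.span {x}) (n + 1) := by
  have h := subsingleton_ext_iff (R := A) (x := x) (M := A) (Q := A ⧸ Ideal.span {x}) hreg
    (Algebra.linearMap A _) Ideal.Quotient.mk_surjective (SerreReg.mk_eq_zero_iff_dvd x) Ideal.Quotient.mk_surjective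
    (SerreReg.mk_eq_zero_iff_dvd x) hreg
  constructor
  · intro hv i hi
    obtain ⟨j, rfl⟩ : ∃ j, i = j + 1 := ⟨i - 1, by omega⟩
    exact (h j (ResidueField (A ⧸ Ideal.span {x}))).1
      (subsingleton_of_iso (residueEquiv x).toModuleIso (hv (j + 2) (by omega)))
  · intro hv i hi
    obtain ⟨j, rfl⟩ : ∃ j, i = j + 2 := ⟨i - 2, by omega⟩
    exact subsingleton_of_iso (residueEquiv x).symm.toModuleIso
      ((h j (ResidueField (A ⧸ Ideal.span {x}))).2 (hv (j + 1) (by omega)))

theorem gorenstein_iff_quot (hx : x ∈ maximalIdeal A) (hreg : IsSMulRegular A x) :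
    LocCoh.IsGorensteinLocalRing A ↔ LocCoh.IsGorensteinLocalRing (A ⧸ Ideal.span {x}) := by
  haveI := SerreReg.isLocalRing_quot hx
  rw [isGorensteinLocalRing_iff A, isGorensteinLocalRing_iff (A ⧸ Ideal.span {x})]
  constructor
  · rintro ⟨N, hN⟩
    exact ⟨N + 1, (resVanish_quot_iff x hreg N).1 fun i hi => hN i (by omega)⟩
  · rintro ⟨N, hN⟩
    exact ⟨N + 2, (resVanish_quot_iff x hreg N).2 fun i hi => hN i (by omega)⟩

end Quotient

/-- If the residue field embeds in `A`, vanishing improves down to degree one. -/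
theorem resVanish_one (hass : maximalIdeal A ∈ associatedPrimes A A) {n : ℕ} (h : ResVanish A A (n + 1)) :
    ResVanish A A 1 := by
  induction n with
  | zero => exact h
  | succ m ih =>
    refine ih fun i hi => ?_
    rcases Nat.lt_or_ge i (m + 2) with hlt | hge
    swap
    · exact h i hge
    obtain rfl : i = m + 1 := by omega
    obtain ⟨f, hf⟩ := (isAssociatedPrime_iff_exists_injective_linearMap (R := A) _ A).1
      (AssociatedPrimes.mem_iff.1 hass) |>.2
    let J : Ideal A := LinearMap.range f
    let T : ShortComplex (ModuleCat.{u} A) :=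
      ShortComplex.mk (X₁ := ModuleCat.of A (ResidueField A)) (ModuleCat.ofHom f) (ModuleCat.ofHom (Submodule.mkQ J))
        (ModuleCat.hom_ext (LinearMap.ext fun w => (Submodule.Quotient.mk_eq_zero _).2 ⟨w, rfl⟩))
    have hT : T.ShortExact :=
      { exact := (ShortComplex.moduleCat_exact_iff _).2 fun (w : A) (hw : Submodule.mkQ J w = 0) => by
          obtain ⟨v, hv⟩ := (Submodule.Quotient.mk_eq_zero _).1 hw
          exact ⟨v, hv⟩
        mono_f := (ModuleCat.mono_iff_injective _).2 hf
        epi_g := (ModuleCat.epi_iff_surjective _).2 (Submodule.mkQ_surjective J) }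
    haveI : Projective (ModuleCat.of A A) := (IsProjective.iff_projective _).1 inferInstance
    refine subsingleton_of_forall_eq 0 fun e => ?_
    obtain ⟨b, rfl⟩ := Ext.contravariant_sequence_exact₁ hT (ModuleCat.of A A) e (add_comm 1 (m + 1))
      (@Subsingleton.elim _ (ext_cyclic A h J (m + 2) le_rfl) _ _)
    rw [show b = 0 from Ext.eq_zero_of_projective b, Ext.comp_zero]

/-- Multiplication by an element regular on `A/I` is onto on homomorphisms when `Ext¹` vanishes. -/
theorem dvd_of_resVanish_one (h : ResVanish A A 1) {I : Ideal A} {x : A} (hreg : IsSMulRegular (A ⧸ I) x)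
    (φ : (A ⧸ I) →ₗ[A] A) : ∃ ψ : (A ⧸ I) →ₗ[A] A, φ = x • ψ := by
  let J := I ⊔ Ideal.span {x}
  let f : (A ⧸ I) →ₗ[A] A ⧸ I := x • LinearMap.id
  let g : (A ⧸ I) →ₗ[A] A ⧸ J := Submodule.factor le_sup_left
  have hzero : g.comp f = 0 := LinearMap.ext fun w => by
    obtain ⟨a, rfl⟩ := Submodule.Quotient.mk_surjective _ w
    show Submodule.Quotient.mk (x • a) = 0
    exact (Submodule.Quotient.mk_eq_zero _).2 (Ideal.mem_sup_right (Ideal.mul_mem_right _ _ (Ideal.mem_span_singleton_self x)))
  let T : ShortComplex (ModuleCat.{u} A) :=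
    ShortComplex.mk (ModuleCat.ofHom f) (ModuleCat.ofHom g) (ModuleCat.hom_ext hzero)
  have hT : T.ShortExact :=
    { exact := (ShortComplex.moduleCat_exact_iff _).2 fun (w : A ⧸ I) (hw : g w = 0) => by
        obtain ⟨a, rfl⟩ := Submodule.Quotient.mk_surjective _ w
        obtain ⟨p, hp', q, hq, hpq⟩ := Submodule.mem_sup.1 ((Submodule.Quotient.mk_eq_zero _).1 hw)
        obtain ⟨r, rfl⟩ := Ideal.mem_span_singleton'.1 hq
        refine ⟨Submodule.Quotient.mk r, ?_⟩
        show Submodule.Quotient.mk (x • r) = Submodule.Quotient.mk a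
        rw [Submodule.Quotient.eq, smul_eq_mul]
        rw [show a = p + r * x from hpq.symm]
        have : x * r - (p + r * x) = -p := by ring
        rw [this]; exact neg_mem hp'
      mono_f := (ModuleCat.mono_iff_injective _).2 hreg
      epi_g := (ModuleCat.epi_iff_surjective _).2 (Submodule.factor_surjective (le_sup_left : I ≤ J)) }
  obtain ⟨b, hb⟩ := Ext.contravariant_sequence_exact₁ hT (ModuleCat.of A A) (Ext.mk₀ (ModuleCat.ofHom φ))
    (add_comm 1 0) (@Subsingleton.elim _ (ext_cyclic A h J 1 le_rfl) _ _)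
  obtain ⟨ψ, rfl⟩ := (Ext.mk₀_bijective _ _).2 b
  rw [Ext.mk₀_comp_mk₀] at hb
  refine ⟨ψ.hom, ?_⟩
  have := congrArg ModuleCat.Hom.hom ((Ext.mk₀_bijective _ _).1 hb)
  rw [← show ψ.hom.comp f = φ from this]
  exact LinearMap.ext fun w => map_smul ψ.hom x w

theorem ringKrullDim_eq_zero (h : ResVanish A A 1) : ringKrullDim A = 0 := by
  have hmin : ∀ p ∈ minimalPrimes A, p = maximalIdeal A := by
    intro p hp
    haveI : p.IsPrime := hp.1.1
    by_contra hne
    obtain ⟨x, hx, hxp⟩ : ∃ x ∈ maximalIdeal A, x ∉ p := by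
      by_contra hc
      push Not at hc
      exact hne (le_antisymm (IsLocalRing.le_maximalIdeal ‹p.IsPrime›.ne_top) hc)
    have hreg : IsSMulRegular (A ⧸ p) x := isSMulRegular_iff_right_eq_zero_of_smul.2 fun w hw => by
      obtain ⟨a, rfl⟩ := Submodule.Quotient.mk_surjective _ w
      have : x * a ∈ p := (Submodule.Quotient.mk_eq_zero _).1 hw
      exact (Submodule.Quotient.mk_eq_zero _).2 ((Ideal.IsPrime.mem_or_mem ‹_› this).resolve_left hxp)
    haveI : Subsingleton ((A ⧸ p) →ₗ[A] A) := eq_bot_of_smul_surj hx fun φ => dvd_of_resVanish_one h hreg φ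
    have hass : p ∈ associatedPrimes A A :=
      Module.associatedPrimes.minimalPrimes_annihilator_subset_associatedPrimes A A (by
        rwa [Module.annihilator_eq_bot.2 inferInstance])
    obtain ⟨f, hf⟩ := (isAssociatedPrime_iff_exists_injective_linearMap (R := A) _ A).1
      (AssociatedPrimes.mem_iff.1 hass) |>.2
    rw [Subsingleton.elim f 0] at hf
    exact ‹p.IsPrime›.ne_top ((Ideal.eq_top_iff_one _).2 ((Submodule.Quotient.mk_eq_zero p).1 (hf (a₁ := Submodule.Quotient.mk 1) (a₂ := 0) rfl)))
  haveI : Ring.KrullDimLE 0 A := .mk₀ fun q hq => by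
    obtain ⟨p, hp, hpq⟩ := Ideal.exists_minimalPrimes_le (I := ⊥) (J := q) bot_le
    rw [hmin p hp] at hpq
    exact Ideal.IsMaximal.eq_of_le (maximalIdeal.isMaximal A) hq.ne_top hpq ▸ maximalIdeal.isMaximal A
  exact (ringKrullDimZero_iff_ringKrullDim_eq_zero).1 inferInstance

/-- A Gorenstein local ring has a regular sequence as long as its dimension, which bounds the
injective dimension. -/
theorem structure_of_resVanish : ∀ (n : ℕ) (A : Type u) [CommRing A] [IsLocalRing A] [IsNoetherianRing A],
    ResVanish A A (n + 1) → ∃ rs : List A, IsWeaklyRegular A rs ∧ (∀ r ∈ rs, r ∈ maximalIdeal A) ∧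
      ringKrullDim A = rs.length ∧ rs.length ≤ n ∧ ResVanish A A (rs.length + 1) := by
  intro n
  induction n with
  | zero =>
    intro A _ _ _ h
    refine ⟨[], IsWeaklyRegular.nil A A, by simp, ?_, le_rfl, h⟩
    simpa using ringKrullDim_eq_zero h
  | succ n ih =>
    intro A _ _ _ h
    by_cases hass : maximalIdeal A ∈ associatedPrimes A A
    · have h1 := resVanish_one hass h
      exact ⟨[], IsWeaklyRegular.nil A A, by simp, by simpa using ringKrullDim_eq_zero h1, by simp, by simpa using h1⟩
    · obtain ⟨x, hx, hxp⟩ := CMSop.exists_notMem_of_finite (associatedPrimes.finite A A)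
        (fun p hp => ⟨(AssociatedPrimes.mem_iff.1 hp).isPrime, fun h => hass (h ▸ hp)⟩)
      have hreg : IsSMulRegular A x := CMSop.isSMulRegular_of_forall hxp
      haveI := SerreReg.isLocalRing_quot hx
      obtain ⟨rs, hw, hm, hd, hle, hv⟩ := ih (A ⧸ Ideal.span {x}) ((resVanish_quot_iff x hreg n).1 h)
      obtain ⟨rs', rfl⟩ : ∃ rs' : List A, rs'.map (algebraMap A (A ⧸ Ideal.span {x})) = rs :=
        ⟨rs.map (Function.surjInv Ideal.Quotient.mk_surjective), by
          rw [List.map_map]
          exact List.map_id'' (fun a => Function.surjInv_eq Ideal.Quotient.mk_surjective a) rs⟩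
      rw [List.length_map] at hd hle hv
      refine ⟨x :: rs', (isWeaklyRegular_cons_iff A x rs').2 ⟨hreg, ?_⟩, ?_, ?_, by simpa using hle,
        by simpa using (resVanish_quot_iff x hreg rs'.length).2 hv⟩
      · have e : QuotSMulTop x A ≃ₗ[A] A ⧸ Ideal.span {x} := Submodule.quotEquivOfEq _ _ (by
          rw [← Submodule.ideal_span_singleton_smul, smul_eq_mul, Ideal.mul_top])
        exact (e.isWeaklyRegular_congr rs').2
          ((isWeaklyRegular_map_algebraMap_iff (S := A ⧸ Ideal.span {x}) (A ⧸ Ideal.span {x}) rs').1 hw)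
      · intro r hr
        rcases List.mem_cons.1 hr with rfl | hr
        · exact hx
        · haveI : IsLocalHom (Ideal.Quotient.mk (Ideal.span {x})) := IsLocalHom.of_surjective _ Ideal.Quotient.mk_surjective
          exact (map_mem_nonunits_iff (Ideal.Quotient.mk (Ideal.span {x})) r).1 (hm _ (List.mem_map.2 ⟨r, hr, rfl⟩))
      · rw [← ringKrullDim_quotient_span_singleton_succ_eq_ringKrullDim hreg hx, hd, List.length_cons]
        push_cast; rfl

/-- A Gorenstein local ring is Cohen–Macaulay. -/
theorem isCohenMacaulay (A : Type u) [CommRing A] [LocCoh.IsGorensteinLocalRing A] :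
    LocCoh.IsCohenMacaulayLocalRing A := by
  obtain ⟨N, hN⟩ := (isGorensteinLocalRing_iff A).1 inferInstance
  obtain ⟨rs, hw, hm, hd, -, -⟩ := structure_of_resVanish N A fun i hi => hN i (by omega)
  exact CMFlat.isCohenMacaulayLocalRing_of_dim_le_depth hd (CMFlat.le_depth_of_isWeaklyRegular hw hm)

/-- The injective dimension of a Gorenstein local ring is at most its dimension. -/
theorem resVanish_dim (A : Type u) [CommRing A] [LocCoh.IsGorensteinLocalRing A] {d : ℕ}
    (hd : ringKrullDim A = d) : ResVanish A A (d + 1) := by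
  obtain ⟨N, hN⟩ := (isGorensteinLocalRing_iff A).1 inferInstance
  obtain ⟨rs, -, -, hd', -, hv⟩ := structure_of_resVanish N A fun i hi => hN i (by omega)
  obtain rfl : d = rs.length := by exact_mod_cast hd.symm.trans hd'
  exact hv

theorem dim_le_of_resVanish {n : ℕ} (h : ResVanish A A (n + 1)) : ringKrullDim A ≤ n := by
  obtain ⟨rs, -, -, hd, hle, -⟩ := structure_of_resVanish n A h
  rw [hd]; exact_mod_cast hle

/-- A regular local ring is Gorenstein. -/
theorem isGorenstein_of_regular (A : Type u) [CommRing A] [IsRegularLocalRing A] :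
    LocCoh.IsGorensteinLocalRing A := by
  obtain ⟨d, hd⟩ := SerreReg.exists_dim A
  refine { exists_hasInjectiveDimensionLT := ⟨d + 1, ?_⟩ }
  exact SerreReg.hasInjectiveDimensionLE_of_cyclic d _ fun I =>
    haveI : HasProjectiveDimensionLE (ModuleCat.of A (A ⧸ I)) d := SerreReg.pdLE_finite d A hd _
    HasProjectiveDimensionLT.subsingleton _ (d + 1) _ le_rfl _

end Groth.Agent.Goren
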