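import Groth.Agent.Goren.MCM
import Groth.Agent.Goren.Local
import Groth.Agent.SerreReg.CM

/-! Depth and reflexive modules over Gorenstein rings. -/

set_option autoImplicit false
set_option maxHeartbeats 1000000

universe u

open CategoryTheory Abelian IsLocalRing RingTheory.Sequence

noncomputable section

namespace Groth.Agent.Goren

theorem ext_subsingleton_of_injective {A : Type u} [CommRing A] {P M N : Type u} [AddCommGroup P] [Module A P]
    [AddCommGroup M] [Module A M] [AddCommGroup N] [Module A N] (f : P →ₗ[A] M) (hf : Function.Injective f)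
    {n : ℕ} (hM : Subsingleton (Ext (ModuleCat.of A M) (ModuleCat.of A N) n))
    (hC : Subsingleton (Ext (ModuleCat.of A (M ⧸ LinearMap.range f)) (ModuleCat.of A N) (n + 1))) :
    Subsingleton (Ext (ModuleCat.of A P) (ModuleCat.of A N) n) := by
  let T : ShortComplex (ModuleCat.{u} A) :=
    ShortComplex.mk (X₁ := ModuleCat.of A P) (ModuleCat.ofHom f) (ModuleCat.ofHom (LinearMap.range f).mkQ)
      (ModuleCat.hom_ext (LinearMap.ext fun w => (Submodule.Quotient.mk_eq_zero _).2 ⟨w, rfl⟩))
  have hT : T.ShortExact :=
    { exact := (ShortComplex.moduleCat_exact_iff _).2 fun (w : M) (hw : (LinearMap.range f).mkQ w = 0) => by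
        obtain ⟨v, hv⟩ := (Submodule.Quotient.mk_eq_zero _).1 hw
        exact ⟨v, hv⟩
      mono_f := (ModuleCat.mono_iff_injective _).2 hf
      epi_g := (ModuleCat.epi_iff_surjective _).2 (Submodule.mkQ_surjective _) }
  refine subsingleton_of_forall_eq 0 fun e => ?_
  obtain ⟨b, rfl⟩ := Ext.contravariant_sequence_exact₁ hT (ModuleCat.of A N) e (add_comm 1 n)
    (@Subsingleton.elim _ hC _ _)
  rw [@Subsingleton.elim _ hM b 0, Ext.comp_zero]

theorem depth_pos_iff_exists {A : Type u} [CommRing A] [IsLocalRing A] [IsNoetherianRing A] (M : Type u)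
    [AddCommGroup M] [Module A M] [Module.Finite A M] [Nontrivial M] :
    0 < LocCoh.depth A M ↔ ∃ x ∈ maximalIdeal A, IsSMulRegular M x := by
  constructor
  · intro h
    obtain ⟨x, hx, hreg, -⟩ := SerreReg.hasRegSeq_of_depth_module (M := M) (n := 1)
      (by exact_mod_cast Order.one_le_iff_pos.2 h)
    exact ⟨x, hx, hreg⟩
  · rintro ⟨x, hx, hreg⟩
    rw [LocCoh.depth, LocCoh.idealDepth]
    split_ifs with h
    · exact WithTop.top_pos
    · refine lt_of_lt_of_le zero_lt_one (le_iSup₂_of_le [x] ⟨(isWeaklyRegular_singleton_iff _ _).2 hreg, ?_⟩ (by simp))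
      intro r hr
      rwa [List.mem_singleton.1 hr]

theorem depth_pos_iff_ext {A : Type u} [CommRing A] [LocCoh.IsGorensteinLocalRing A] (n : ℕ)
    (hn : ringKrullDim A = n) (M : Type u) [AddCommGroup M] [Module A M] [Module.Finite A M] [Nontrivial M] :
    0 < LocCoh.depth A M ↔ Subsingleton (Ext (ModuleCat.of A M) (ModuleCat.of A A) n) := by
  rw [depth_pos_iff_exists]
  constructor
  · rintro ⟨x, hx, hreg⟩
    exact ext_eq_zero_of_regular hn [x] M ((isWeaklyRegular_singleton_iff _ _).2 hreg)
      (fun r hr => by rwa [List.mem_singleton.1 hr]) n (by simp)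
  · intro hE
    by_contra hc
    push Not at hc
    have hass : maximalIdeal A ∈ associatedPrimes A M := by
      by_contra hnot
      obtain ⟨x, hx, hxp⟩ := CMSop.exists_notMem_of_finite (associatedPrimes.finite A M)
        (fun p hp => ⟨(AssociatedPrimes.mem_iff.1 hp).isPrime, fun h => hnot (h ▸ hp)⟩)
      exact hc x hx (CMSop.isSMulRegular_of_forall hxp)
    obtain ⟨f, hf⟩ := (isAssociatedPrime_iff_exists_injective_linearMap (R := A) _ M).1
      (AssociatedPrimes.mem_iff.1 hass) |>.2
    haveI := hasInjectiveDimensionLE A (resVanish_dim A hn)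
    have hk : Subsingleton (Ext (ModuleCat.of A (ResidueField A)) (ModuleCat.of A A) n) :=
      ext_subsingleton_of_injective f hf hE (HasInjectiveDimensionLT.subsingleton _ (n + 1) (n + 1) le_rfl _)
    have hv : ResVanish A A n := fun i hi => by
      rcases eq_or_lt_of_le hi with rfl | hlt
      · exact hk
      · exact resVanish_dim A hn i hlt
    cases n with
    | zero =>
      haveI : Ring.KrullDimLE 0 A := (ringKrullDimZero_iff_ringKrullDim_eq_zero).2 (by simpa using hn)
      have hm : maximalIdeal A ∈ associatedPrimes A A :=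
        Module.associatedPrimes.minimalPrimes_annihilator_subset_associatedPrimes A A (by
          rw [Module.annihilator_eq_bot.2 inferInstance]
          exact (Ring.KrullDimLE.minimalPrimes_eq_setOf_isPrime (R := A)).symm.subset
            (maximalIdeal.isMaximal A).isPrime)
      obtain ⟨g, hg⟩ := (isAssociatedPrime_iff_exists_injective_linearMap (R := A) _ A).1
        (AssociatedPrimes.mem_iff.1 hm) |>.2
      have h0 := (Ext.mk₀_bijective (ModuleCat.of A (ResidueField A)) (ModuleCat.of A A)).1
        (@Subsingleton.elim _ hk (Ext.mk₀ (ModuleCat.ofHom g)) (Ext.mk₀ 0))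
      have hg0 : g = 0 := congrArg ModuleCat.Hom.hom h0
      subst hg0
      exact (zero_ne_one (α := ResidueField A)) (hg (a₁ := (0 : ResidueField A)) (a₂ := (1 : ResidueField A)) rfl)
    | succ m =>
      have h1 := dim_le_of_resVanish hv
      rw [hn] at h1
      exact absurd (show m + 1 ≤ m by exact_mod_cast h1) (by omega)

theorem ext_one_reflexive (S : Type u) [CommRing S] [LocCoh.IsGorensteinRing S] (hdim : ringKrullDim S = 1)
    (M : Type u) [AddCommGroup M] [Module S M] [Module.Finite S M] [Module.IsReflexive S M] :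
    Subsingleton (Ext (ModuleCat.of S M) (ModuleCat.of S S) 1) := by
  obtain ⟨n, π, hπ⟩ := Module.Finite.exists_fin' S (Module.Dual S M)
  have hinj : Function.Injective ((LinearMap.pi fun i => Module.Dual.eval S M |>.flip (π (Pi.single i 1)) : M →ₗ[S] Fin n → S)) := by
    rw [injective_iff_map_eq_zero]
    intro m hm
    refine (Module.bijective_dual_eval S M).1 ((map_zero (Module.Dual.eval S M)).symm ▸ ?_)
    refine LinearMap.ext fun φ => ?_
    obtain ⟨c, rfl⟩ := hπ φ
    rw [pi_eq_sum_univ' c, map_sum, map_sum]
    refine Finset.sum_eq_zero fun i _ => ?_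
    rw [map_smul, map_smul]
    have := congrFun hm i
    simp only [LinearMap.pi_apply, LinearMap.flip_apply, Pi.zero_apply] at this
    rw [this, smul_zero]
  haveI : Projective (ModuleCat.of S (Fin n → S)) := (IsProjective.iff_projective _).1 inferInstance
  have h1 : HasInjectiveDimensionLE (ModuleCat.of S S) 1 := by
    refine (ModuleCat.hasInjectiveDimensionLE_iff_forall_maximalSpectrum 1 (ModuleCat.of S S)).2 fun m => ?_
    obtain ⟨k, hk⟩ := SerreReg.exists_dim_nat (Localization.AtPrime m.1)
    haveI := (‹LocCoh.IsGorensteinRing S›).isGorensteinLocalRing_localization m.1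
    have hk1 : k ≤ 1 := by
      have h1 := (ringKrullDim_le_iff_height_le (1 : WithBot ℕ∞)).1 hdim.le (Ideal.IsMaximal.isPrime' m.1)
      rw [← IsLocalization.AtPrime.ringKrullDim_eq_height m.1 (Localization.AtPrime m.1), hk] at h1
      exact_mod_cast h1
    have h3 : HasInjectiveDimensionLE (ModuleCat.of (Localization.AtPrime m.1) (Localization.AtPrime m.1)) 1 :=
      hasInjectiveDimensionLE (Localization.AtPrime m.1) fun i hi =>
        resVanish_dim (Localization.AtPrime m.1) hk i (by omega)
    exact hasInjectiveDimensionLT_of_iso (locSelfIso m.1.primeCompl).symm 2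
  exact ext_subsingleton_of_injective _ hinj
    (subsingleton_of_forall_eq 0 fun e => Ext.eq_zero_of_projective e)
    (HasInjectiveDimensionLT.subsingleton _ 2 2 le_rfl _)

end Groth.Agent.Goren
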