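import Groth.Agent.Goren.Liaison
import Groth.Agent.CMFlat.Localization

/-! Colon ideals modulo a Gorenstein ideal. -/

set_option autoImplicit false
set_option maxHeartbeats 1000000

universe u

open IsLocalRing CategoryTheory Abelian

noncomputable section

namespace Groth.Agent.Goren

variable {R : Type u} [CommRing R] [IsNoetherianRing R]

omit [IsNoetherianRing R] in
theorem isCohenMacaulayRing_of_gorenstein (A : Type u) [CommRing A] [LocCoh.IsGorensteinRing A] :
    LocCoh.IsCohenMacaulayRing A :=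
  { isCohenMacaulayLocalRing_localization := fun p _ => by
      haveI := LocCoh.IsGorensteinRing.isGorensteinLocalRing_localization (A := A) p
      exact isCohenMacaulay _ }

theorem minimal_of_associated (C : Ideal R) [LocCoh.IsCohenMacaulayRing (R ⧸ C)] {p : Ideal R}
    (hp : p ∈ associatedPrimes R (R ⧸ C)) : p ∈ C.minimalPrimes := by
  obtain ⟨hpp, x, hx⟩ := Submodule.isAssociatedPrime_iff.1 hp
  haveI := hpp
  have hmem : ∀ s, s ∈ p ↔ Ideal.Quotient.mk C s * x = 0 := fun s => by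
    rw [hx, Submodule.mem_colon_singleton, Submodule.mem_bot, Algebra.smul_def]
    rfl
  have hCp : C ≤ p := fun s hs => (hmem s).2 (by rw [Ideal.Quotient.eq_zero_iff_mem.2 hs, zero_mul])
  have hker : RingHom.ker (Ideal.Quotient.mk C) ≤ p := by rwa [Ideal.mk_ker]
  set p' := p.map (Ideal.Quotient.mk C)
  haveI : p'.IsPrime := Ideal.map_isPrime_of_surjective Ideal.Quotient.mk_surjective hker
  have hcomap : p'.comap (Ideal.Quotient.mk C) = p := by
    rw [Ideal.comap_map_of_surjective' _ Ideal.Quotient.mk_surjective, sup_eq_left.2 hker]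
  set T := Localization.AtPrime p'
  haveI : LocCoh.IsCohenMacaulayLocalRing T := LocCoh.IsCohenMacaulayRing.isCohenMacaulayLocalRing_localization p'
  have hass : maximalIdeal T ∈ associatedPrimes T T := by
    refine Submodule.isAssociatedPrime_iff.2 ⟨inferInstance, algebraMap _ T x, ?_⟩
    refine le_antisymm ?_ (IsLocalRing.le_maximalIdeal ?_)
    · rw [← Localization.AtPrime.map_eq_maximalIdeal, Ideal.map_le_iff_le_comap]
      intro z hz
      obtain ⟨s, hs, rfl⟩ := (Ideal.mem_map_iff_of_surjective _ Ideal.Quotient.mk_surjective).1 hz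
      rw [Ideal.mem_comap, Submodule.mem_colon_singleton, Submodule.mem_bot, smul_eq_mul, ← map_mul,
        (hmem s).1 hs, map_zero]
    · intro h
      have h1 : (1 : T) ∈ (⊥ : Submodule T T).colon {algebraMap _ T x} := h ▸ Submodule.mem_top
      rw [Submodule.mem_colon_singleton, Submodule.mem_bot, one_smul,
        IsLocalization.map_eq_zero_iff p'.primeCompl] at h1
      obtain ⟨⟨z, hz⟩, hzx⟩ := h1
      obtain ⟨s, rfl⟩ := Ideal.Quotient.mk_surjective z
      exact hz (Ideal.mem_map_of_mem _ ((hmem s).2 hzx))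
  have hmin := CMFlat.associatedPrimes_subset_minimalPrimes T hass
  refine ⟨⟨inferInstance, hCp⟩, fun q hq hqp => ?_⟩
  haveI := hq.1
  have hkq : RingHom.ker (Ideal.Quotient.mk C) ≤ q := by rw [Ideal.mk_ker]; exact hq.2
  haveI : (q.map (Ideal.Quotient.mk C)).IsPrime := Ideal.map_isPrime_of_surjective Ideal.Quotient.mk_surjective hkq
  have hle : q.map (Ideal.Quotient.mk C) ≤ p' := Ideal.map_mono hqp
  have hd : Disjoint (p'.primeCompl : Set (R ⧸ C)) (q.map (Ideal.Quotient.mk C) : Set (R ⧸ C)) :=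
    Set.disjoint_left.2 fun z hz hzq => hz (hle hzq)
  haveI := IsLocalization.isPrime_of_isPrime_disjoint p'.primeCompl T _ ‹_› hd
  have h2 : maximalIdeal T ≤ (q.map (Ideal.Quotient.mk C)).map (algebraMap _ T) :=
    hmin.2 ⟨inferInstance, bot_le⟩ (IsLocalRing.le_maximalIdeal Ideal.IsPrime.ne_top')
  intro s hs
  have h3 : algebraMap _ T (Ideal.Quotient.mk C s) ∈ (q.map (Ideal.Quotient.mk C)).map (algebraMap _ T) :=
    h2 (by rw [← Localization.AtPrime.map_eq_maximalIdeal]; exact Ideal.mem_map_of_mem _ (Ideal.mem_map_of_mem _ hs))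
  rw [← Ideal.mem_comap, ← Ideal.under_def, IsLocalization.under_map_of_isPrime_disjoint p'.primeCompl _ ‹_› hd,
    ← Ideal.mem_comap, Ideal.comap_map_of_surjective' _ Ideal.Quotient.mk_surjective, sup_eq_left.2 hkq] at h3
  exact h3

theorem associated_colon (C I : Ideal R) {p : Ideal R}
    (hp : p ∈ associatedPrimes R (R ⧸ C.colon (I : Set R))) : p ∈ associatedPrimes R (R ⧸ C) := by
  classical
  obtain ⟨hpp, x, hx⟩ := Submodule.isAssociatedPrime_iff.1 hp
  obtain ⟨x, rfl⟩ := Ideal.Quotient.mk_surjective x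
  obtain ⟨G, hG⟩ := IsNoetherian.noetherian I
  have hmem : ∀ s, s ∈ p ↔ ∀ g ∈ G, s ∈ (⊥ : Submodule R (R ⧸ C)).colon {Ideal.Quotient.mk C (x * g)} := fun s => by
    have h1 : s ∈ p ↔ s * x ∈ C.colon (I : Set R) := by
      rw [hx, Submodule.mem_colon_singleton, Submodule.mem_bot]
      exact Ideal.Quotient.eq_zero_iff_mem
    rw [h1, ← hG, show Submodule.span R (G : Set R) = Ideal.span (G : Set R) from rfl]
    simp only [Submodule.mem_colon_singleton, Submodule.mem_bot, Algebra.smul_def, Ideal.Quotient.algebraMap_eq,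
      ← map_mul, Ideal.Quotient.eq_zero_iff_mem]
    rw [Submodule.mem_colon]
    refine ⟨fun h g hg => by simpa [mul_assoc] using h g (Ideal.subset_span hg), fun h i hi => ?_⟩
    have hle : Ideal.span (G : Set R) ≤ C.colon {s * x} := Ideal.span_le.2 fun g hg => by
      rw [SetLike.mem_coe, Submodule.mem_colon_singleton, smul_eq_mul, mul_comm, mul_assoc]
      exact h g hg
    have := hle hi
    rw [Submodule.mem_colon_singleton, smul_eq_mul] at this
    rw [smul_eq_mul, mul_comm]
    exact this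
  have hp' : p = G.inf fun g => (⊥ : Submodule R (R ⧸ C)).colon {Ideal.Quotient.mk C (x * g)} := by
    ext s; rw [hmem, Submodule.mem_finsetInf]
  obtain ⟨g, hg, hgp⟩ := (Ideal.IsPrime.inf_le' hpp).1 hp'.ge
  exact Submodule.isAssociatedPrime_iff.2 ⟨hpp, _, le_antisymm (fun s hs => (hmem s).1 hs g hg) hgp⟩

/-- Double annihilator in a zero-dimensional Gorenstein local ring. -/
theorem mem_of_ann_ann (A : Type u) [CommRing A] [LocCoh.IsGorensteinLocalRing A] (hd : ringKrullDim A = 0)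
    (J : Ideal A) (x : A) (hx : ∀ y, (∀ j ∈ J, y * j = 0) → y * x = 0) : x ∈ J := by
  haveI : HasInjectiveDimensionLT (ModuleCat.of A A) 1 :=
    hasInjectiveDimensionLE (n := 0) A (resVanish_dim A (d := 0) (by simpa using hd))
  haveI : Injective (ModuleCat.of A A) := injective_iff_hasInjectiveDimensionLT_one.2 inferInstance
  haveI : Ring.KrullDimLE 0 A := ringKrullDimZero_iff_ringKrullDim_eq_zero.2 hd
  by_contra hxJ
  have hass : maximalIdeal A ∈ associatedPrimes A A := by
    obtain ⟨q, hq⟩ := associatedPrimes.nonempty A A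
    haveI := (AssociatedPrimes.mem_iff.1 hq).isPrime
    rwa [← (Ring.KrullDimLE.eq_maximalIdeal_of_isPrime q : q = maximalIdeal A)]
  obtain ⟨-, z, hz⟩ := Submodule.isAssociatedPrime_iff.1 (AssociatedPrimes.mem_iff.1 hass)
  have hzm : ∀ a ∈ maximalIdeal A, a * z = 0 := fun a ha => by
    rw [hz, Submodule.mem_colon_singleton, Submodule.mem_bot] at ha
    exact ha
  have hz0 : z ≠ 0 := by
    rintro rfl
    exact (maximalIdeal.isMaximal A).ne_top (eq_top_iff.2 fun a _ => by
      rw [hz, Submodule.mem_colon_singleton, smul_zero]; exact zero_mem _)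
  -- the map `a ↦ a x` into `A/J`, and `a ↦ a z`
  let L : A →ₗ[A] A ⧸ J := LinearMap.toSpanSingleton A _ (Submodule.Quotient.mk x)
  have hker : LinearMap.ker L ≤ LinearMap.ker (LinearMap.toSpanSingleton A A z) := fun a ha => by
    rw [LinearMap.mem_ker, LinearMap.toSpanSingleton_apply] at ha ⊢
    refine hzm a (IsLocalRing.le_maximalIdeal (J := LinearMap.ker L) (fun htop => hxJ ?_) ha)
    have h1 : L 1 = 0 := LinearMap.mem_ker.1 (htop ▸ Submodule.mem_top)
    rw [LinearMap.toSpanSingleton_apply, one_smul] at h1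
    exact (Submodule.Quotient.mk_eq_zero J).1 h1
  let φ : (A ⧸ LinearMap.ker L) →ₗ[A] A := Submodule.liftQ _ _ hker
  let i : (A ⧸ LinearMap.ker L) →ₗ[A] A ⧸ J := Submodule.liftQ _ L le_rfl
  haveI : Mono (ModuleCat.ofHom i) := (ModuleCat.mono_iff_injective _).2 (LinearMap.ker_eq_bot.1 (Submodule.ker_liftQ_eq_bot _ _ _ le_rfl))
  let ψ : ModuleCat.of A (A ⧸ J) ⟶ ModuleCat.of A A := Injective.factorThru (ModuleCat.ofHom φ) (ModuleCat.ofHom i)
  have hψ : ψ.hom (Submodule.Quotient.mk x) = z := by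
    have h : ψ.hom (i (Submodule.Quotient.mk 1)) = φ (Submodule.Quotient.mk 1) :=
      congrArg (fun f : ModuleCat.of A (A ⧸ LinearMap.ker L) ⟶ ModuleCat.of A A => f.hom (Submodule.Quotient.mk 1))
        (Injective.comp_factorThru (ModuleCat.ofHom φ) (ModuleCat.ofHom i))
    have h1 : i (Submodule.Quotient.mk 1) = Submodule.Quotient.mk x := by
      change L 1 = _
      rw [LinearMap.toSpanSingleton_apply, one_smul]
    have h2 : φ (Submodule.Quotient.mk 1) = z := by
      change LinearMap.toSpanSingleton A A z 1 = z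
      rw [LinearMap.toSpanSingleton_apply, one_smul]
    rw [h1, h2] at h
    exact h
  have hsm : ∀ a : A, ψ.hom (Submodule.Quotient.mk a) = a * ψ.hom (Submodule.Quotient.mk 1) := fun a => by
    rw [← smul_eq_mul, ← map_smul, ← Submodule.Quotient.mk_smul, smul_eq_mul, mul_one]
  apply hz0
  rw [← hψ, hsm, mul_comm]
  refine hx _ fun j hj => ?_
  rw [mul_comm, ← hsm, (Submodule.Quotient.mk_eq_zero J).2 hj, map_zero]

theorem colon_colon_mem (C I : Ideal R) [LocCoh.IsGorensteinRing (R ⧸ C)] (hCI : C ≤ I)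
    (hI : ∀ p ∈ associatedPrimes R (R ⧸ I), p ∈ C.minimalPrimes) :
    C.colon ((C.colon (I : Set R) : Ideal R) : Set R) = I := by
  classical
  refine le_antisymm (fun x hx => ?_) fun i hi => ?_
  swap
  · rw [Submodule.mem_colon]
    intro k hk
    rw [smul_eq_mul, mul_comm]
    exact (Submodule.mem_colon.1 hk) i hi
  by_contra hxI
  have hne : (Ideal.Quotient.mk I x) ≠ 0 := fun h => hxI (Ideal.Quotient.eq_zero_iff_mem.1 h)
  obtain ⟨p, hp, hann⟩ := exists_le_isAssociatedPrime_of_isNoetherianRing R (Ideal.Quotient.mk I x) hne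
  have hpC := hI p hp
  haveI := hpC.isPrime
  have hker : RingHom.ker (Ideal.Quotient.mk C) ≤ p := by rw [Ideal.mk_ker]; exact hpC.1.2
  set p' := p.map (Ideal.Quotient.mk C)
  haveI : p'.IsPrime := Ideal.map_isPrime_of_surjective Ideal.Quotient.mk_surjective hker
  have hcomap : p'.comap (Ideal.Quotient.mk C) = p := by
    rw [Ideal.comap_map_of_surjective' _ Ideal.Quotient.mk_surjective, sup_eq_left.2 hker]
  have hmin : p' ∈ minimalPrimes (R ⧸ C) := by
    refine ⟨⟨inferInstance, bot_le⟩, fun q hq hqp => Ideal.map_le_iff_le_comap.2 ?_⟩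
    haveI := hq.1
    refine hpC.2 ⟨inferInstance, fun c hc => ?_⟩ ((Ideal.comap_mono hqp).trans hcomap.le)
    rw [Ideal.mem_comap, Ideal.Quotient.eq_zero_iff_mem.2 hc]; exact zero_mem _
  set T := Localization.AtPrime p'
  haveI := LocCoh.IsGorensteinRing.isGorensteinLocalRing_localization (A := R ⧸ C) p'
  have hd : ringKrullDim T = 0 := by
    rw [IsLocalization.AtPrime.ringKrullDim_eq_height p' T, Ideal.height_eq_zero_iff.2 hmin]
    rfl
  let φ : R →+* T := (algebraMap (R ⧸ C) T).comp (Ideal.Quotient.mk C)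
  have hφu : ∀ s, s ∉ p → IsUnit (φ s) := fun s hs =>
    IsLocalization.map_units T (⟨Ideal.Quotient.mk C s, fun h => hs (hcomap ▸ h)⟩ : p'.primeCompl)
  have hφsurj : ∀ y : T, ∃ r s : R, s ∉ p ∧ y * φ s = φ r := fun y => by
    obtain ⟨⟨r, ⟨s, hs⟩⟩, he⟩ := IsLocalization.surj p'.primeCompl y
    obtain ⟨r, rfl⟩ := Ideal.Quotient.mk_surjective r
    obtain ⟨s, rfl⟩ := Ideal.Quotient.mk_surjective s
    exact ⟨r, s, fun h => hs (Ideal.mem_map_of_mem _ h), he⟩
  have hφz : ∀ r : R, φ r = 0 → ∃ t ∉ p, t * r ∈ C := fun r hr => by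
    obtain ⟨⟨t, ht⟩, he⟩ := (IsLocalization.map_eq_zero_iff p'.primeCompl T _).1 hr
    obtain ⟨t, rfl⟩ := Ideal.Quotient.mk_surjective t
    exact ⟨t, fun h => ht (Ideal.mem_map_of_mem _ h), Ideal.Quotient.eq_zero_iff_mem.1 (by rw [map_mul]; exact he)⟩
  have key : φ x ∈ I.map φ := by
    refine mem_of_ann_ann T hd _ _ fun y hy => ?_
    obtain ⟨r, s, hs, hys⟩ := hφsurj y
    obtain ⟨G, hG⟩ := IsNoetherian.noetherian I
    have hex : ∀ g ∈ G, ∃ t ∉ p, t * (r * g) ∈ C := fun g hg => hφz _ (by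
      rw [map_mul, ← hys, mul_right_comm, hy _ (Ideal.mem_map_of_mem _ (hG ▸ Ideal.subset_span hg)), zero_mul])
    choose! t ht htC using hex
    have hT : (∏ g ∈ G, t g) ∉ p := fun h => by
      obtain ⟨g, hg, hgp⟩ := hpC.isPrime.prod_mem_iff.1 h
      exact ht g hg hgp
    have hk : (∏ g ∈ G, t g) * r ∈ C.colon (I : Set R) := by
      have hle : I ≤ C.colon {(∏ g ∈ G, t g) * r} := hG ▸ Ideal.span_le.2 fun g hg => by
        rw [SetLike.mem_coe, Submodule.mem_colon_singleton, smul_eq_mul]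
        obtain ⟨w, hw⟩ := Finset.dvd_prod_of_mem t hg
        rw [hw, show g * (t g * w * r) = w * (t g * (r * g)) by ring]
        exact Ideal.mul_mem_left _ _ (htC g hg)
      rw [Submodule.mem_colon]
      intro i hi
      have := hle hi
      rw [Submodule.mem_colon_singleton, smul_eq_mul] at this
      rwa [smul_eq_mul, mul_comm]
    have h1 : φ (x * ((∏ g ∈ G, t g) * r)) = 0 := by
      change algebraMap (R ⧸ C) T (Ideal.Quotient.mk C _) = 0
      have h2 : x * ((∏ g ∈ G, t g) * r) ∈ C := (Submodule.mem_colon.1 hx) _ hk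
      rw [Ideal.Quotient.eq_zero_iff_mem.2 h2, map_zero]
    rw [map_mul, map_mul, ← hys, show φ x * (φ (∏ g ∈ G, t g) * (y * φ s)) = (y * φ x) * (φ (∏ g ∈ G, t g) * φ s) by ring] at h1
    exact ((hφu _ hT).mul (hφu s hs)).mul_left_eq_zero.1 h1
  have hIC : (I.map (Ideal.Quotient.mk C)).comap (Ideal.Quotient.mk C) = I := by
    rw [Ideal.comap_map_of_surjective' _ Ideal.Quotient.mk_surjective, Ideal.mk_ker, sup_eq_left.2 hCI]
  rw [← Ideal.map_map] at key
  obtain ⟨⟨t, ht⟩, htx⟩ := (IsLocalization.algebraMap_mem_map_algebraMap_iff p'.primeCompl _ _ _).1 key |> fun ⟨m, hm, h⟩ =>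
    (⟨⟨m, hm⟩, h⟩ : ∃ m : p'.primeCompl, (m : R ⧸ C) * Ideal.Quotient.mk C x ∈ I.map (Ideal.Quotient.mk C))
  obtain ⟨t, rfl⟩ := Ideal.Quotient.mk_surjective t
  rw [← map_mul, ← Ideal.mem_comap, hIC] at htx
  refine ht (Ideal.mem_map_of_mem _ (hann ?_))
  rw [Submodule.mem_colon_singleton, Submodule.mem_bot, Algebra.smul_def, Ideal.Quotient.algebraMap_eq, ← map_mul]
  exact Ideal.Quotient.eq_zero_iff_mem.2 htx

theorem inf_eq_of_disjoint (C I J : Ideal R) [LocCoh.IsGorensteinRing (R ⧸ C)] (hIJ : C.colon (I : Set R) = J)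
    (hJI : C.colon (J : Set R) = I)
    (hdisj : Disjoint (associatedPrimes R (R ⧸ I)) (associatedPrimes R (R ⧸ J))) : I ⊓ J = C := by
  haveI := isCohenMacaulayRing_of_gorenstein (R ⧸ C)
  have hCI : C ≤ I := fun c hc => hJI ▸ Submodule.mem_colon.2 fun j _ => by
    rw [smul_eq_mul]; exact Ideal.mul_mem_right _ _ hc
  have hCJ : C ≤ J := fun c hc => hIJ ▸ Submodule.mem_colon.2 fun j _ => by
    rw [smul_eq_mul]; exact Ideal.mul_mem_right _ _ hc
  refine le_antisymm (fun x hx => ?_) (le_inf hCI hCJ)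
  by_contra hxC
  obtain ⟨p, hp, hann⟩ := exists_le_isAssociatedPrime_of_isNoetherianRing R (Ideal.Quotient.mk C x)
    fun h => hxC (Ideal.Quotient.eq_zero_iff_mem.1 h)
  haveI := hp.isPrime
  have hpC := minimal_of_associated C hp
  have hkill : ∀ y ∈ I ⊔ J, y ∈ p := fun y hy => hann (by
    rw [Submodule.mem_colon_singleton, Submodule.mem_bot, Algebra.smul_def, Ideal.Quotient.algebraMap_eq, ← map_mul,
      Ideal.Quotient.eq_zero_iff_mem]
    obtain ⟨i, hi, j, hj, rfl⟩ := Submodule.mem_sup.1 hy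
    rw [add_mul]
    refine add_mem ?_ ?_
    · have hxJ : x ∈ C.colon (I : Set R) := hIJ.symm ▸ (hx.2 : x ∈ J)
      simpa [mul_comm] using (Submodule.mem_colon.1 hxJ) i hi
    · have hxI : x ∈ C.colon (J : Set R) := hJI.symm ▸ (hx.1 : x ∈ I)
      simpa [mul_comm] using (Submodule.mem_colon.1 hxI) j hj)
  have hmem : ∀ L : Ideal R, C ≤ L → L ≤ p → p ∈ associatedPrimes R (R ⧸ L) := fun L h1 h2 =>
    Module.associatedPrimes.minimalPrimes_annihilator_subset_associatedPrimes R (R ⧸ L) (by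
      rw [Ideal.annihilator_quotient]
      exact ⟨⟨inferInstance, h2⟩, fun q hq hqp => hpC.2 ⟨hq.1, h1.trans hq.2⟩ hqp⟩)
  exact Set.disjoint_left.1 hdisj (hmem I hCI fun y hy => hkill y (Ideal.mem_sup_left hy))
    (hmem J hCJ fun y hy => hkill y (Ideal.mem_sup_right hy))

end Groth.Agent.Goren
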