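import Groth.Agent.Goren.Basic
import Mathlib.Algebra.Category.ModuleCat.ChangeOfRings
import Mathlib.Algebra.Homology.DerivedCategory.Ext.MapBijective

/-! Gorenstein is invariant under ring isomorphisms; quotient by regular sequences. -/

set_option autoImplicit false

universe u

open CategoryTheory Abelian IsLocalRing RingTheory.Sequence

noncomputable section

namespace Groth.Agent.Goren

theorem isGorenstein_of_equiv {A B : Type u} [CommRing A] [CommRing B] (e : A ≃+* B)
    [LocCoh.IsGorensteinLocalRing A] : LocCoh.IsGorensteinLocalRing B := by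
  haveI : IsLocalRing B := e.isLocalRing
  haveI : IsNoetherianRing B := isNoetherianRing_of_ringEquiv A e
  obtain ⟨N, hN⟩ := ‹LocCoh.IsGorensteinLocalRing A›.exists_hasInjectiveDimensionLT
  let F := ModuleCat.restrictScalars.{u} e.toRingHom
  haveI : F.IsEquivalence := ModuleCat.restrictScalars_isEquivalence_of_ringEquiv e
  haveI : F.PreservesInjectiveObjects := Functor.preservesInjectiveObjects_of_adjunction_of_preservesMonomorphisms F.asEquivalence.symm.toAdjunction
  haveI : HasInjectiveDimensionLT (F.obj (ModuleCat.of B B)) N :=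
    hasInjectiveDimensionLT_of_iso (ModuleCat.restrictScalarsIsoOfEquiv e).symm N
  refine { exists_hasInjectiveDimensionLT := ⟨N + 1, ?_⟩ }
  refine SerreReg.hasInjectiveDimensionLE_of_cyclic N _ fun I => ?_
  haveI : Subsingleton (Ext (F.obj (ModuleCat.of B (B ⧸ I))) (F.obj (ModuleCat.of B B)) (N + 1)) :=
    HasInjectiveDimensionLT.subsingleton _ N _ (by omega) _
  exact (F.mapExt_bijective_of_preservesInjectiveObjects (ModuleCat.of B (B ⧸ I)) (ModuleCat.of B B) (N + 1)).injective.subsingleton

theorem gorenstein_equiv_iff {A B : Type u} [CommRing A] [CommRing B] (e : A ≃+* B) :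
    LocCoh.IsGorensteinLocalRing A ↔ LocCoh.IsGorensteinLocalRing B :=
  ⟨fun _ => isGorenstein_of_equiv e, fun _ => isGorenstein_of_equiv e.symm⟩

/-- Division by a regular sequence. -/
theorem gorenstein_iff_quot_list : ∀ (n : ℕ) (A : Type u) [CommRing A] [IsLocalRing A] [IsNoetherianRing A]
    (rs : List A), rs.length = n → IsWeaklyRegular A rs → (∀ r ∈ rs, r ∈ maximalIdeal A) →
      (LocCoh.IsGorensteinLocalRing A ↔ LocCoh.IsGorensteinLocalRing (A ⧸ Ideal.ofList rs)) := by
  intro n
  induction n with
  | zero =>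
    intro A _ _ _ rs hlen _ _
    rw [List.length_eq_zero_iff] at hlen
    subst hlen
    exact gorenstein_equiv_iff ((RingEquiv.quotientBot A).symm.trans (Ideal.quotEquivOfEq (Ideal.ofList_nil).symm))
  | succ n ih =>
    intro A _ _ _ rs hlen hw hm
    obtain _ | ⟨x, rs'⟩ := rs
    · simp at hlen
    have hx : x ∈ maximalIdeal A := hm x List.mem_cons_self
    obtain ⟨hreg, hw'⟩ := (isWeaklyRegular_cons_iff A x rs').1 hw
    haveI := SerreReg.isLocalRing_quot hx
    have e : QuotSMulTop x A ≃ₗ[A] A ⧸ Ideal.span {x} := Submodule.quotEquivOfEq _ _ (by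
      rw [← Submodule.ideal_span_singleton_smul, smul_eq_mul, Ideal.mul_top])
    rw [gorenstein_iff_quot x hx hreg, ih (A ⧸ Ideal.span {x}) (rs'.map (algebraMap A _))
      (by simpa using hlen)
      ((isWeaklyRegular_map_algebraMap_iff (S := A ⧸ Ideal.span {x}) (A ⧸ Ideal.span {x}) rs').2
        ((e.isWeaklyRegular_congr rs').1 hw')) (fun r hr => by
        obtain ⟨s, hs, rfl⟩ := List.mem_map.mp hr
        haveI : IsLocalHom (Ideal.Quotient.mk (Ideal.span {x})) := IsLocalHom.of_surjective _ Ideal.Quotient.mk_surjective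
        exact (map_mem_nonunits_iff (Ideal.Quotient.mk (Ideal.span {x})) s).2 (hm s (List.mem_cons_of_mem _ hs)))]
    refine gorenstein_equiv_iff ((Ideal.quotEquivOfEq ?_).trans ((DoubleQuot.quotQuotEquivQuotSup (Ideal.span {x}) (Ideal.ofList rs')).trans
      (Ideal.quotEquivOfEq (Ideal.ofList_cons x rs').symm)))
    rw [Ideal.map_ofList]
    rfl

end Groth.Agent.Goren
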