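import Groth.Agent.Goren.Colon

/-! Linkage preserves the Cohen–Macaulay property. -/

set_option autoImplicit false
set_option maxHeartbeats 1000000

universe u

open IsLocalRing RingTheory.Sequence

noncomputable section

namespace Groth.Agent.Goren

theorem cm_quot_ann (A : Type u) [CommRing A] [LocCoh.IsGorensteinLocalRing A] (I : Ideal A)
    (hI : ringKrullDim (A ⧸ I) = ringKrullDim A) [LocCoh.IsCohenMacaulayLocalRing (A ⧸ I)]
    (hJ : Submodule.annihilator I ≠ ⊤) : LocCoh.IsCohenMacaulayLocalRing (A ⧸ Submodule.annihilator I) := by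
  set J := Submodule.annihilator I
  haveI := isCohenMacaulay A
  obtain ⟨rs, hw, hm, hd⟩ := exists_regSeq A
  have h := ext_quot_eq_zero I hI
  have hJw : IsWeaklyRegular (A ⧸ J) rs := isWeaklyRegular_quot _ _ fun i hi => by
    refine regular_ann_sup h ?_ ?_
    · have := hw
      rw [← List.take_append_drop i rs, isWeaklyRegular_append_iff] at this
      exact this.1
    · exact (regular_quot_iff _ _).1 (((isWeaklyRegular_iff _ _).1 hw) i hi)
  haveI : Nontrivial (A ⧸ J) := Ideal.Quotient.nontrivial_iff.2 hJ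
  haveI : IsLocalRing (A ⧸ J) := .of_surjective' (Ideal.Quotient.mk J) Ideal.Quotient.mk_surjective
  have hwJ := (isWeaklyRegular_quot_mk J rs).2 hJw
  have hmJ : ∀ r ∈ rs.map (Ideal.Quotient.mk J), r ∈ maximalIdeal (A ⧸ J) := fun r hr => by
    obtain ⟨s, hs, rfl⟩ := List.mem_map.1 hr
    haveI : IsLocalHom (Ideal.Quotient.mk J) := IsLocalHom.of_surjective _ Ideal.Quotient.mk_surjective
    exact (map_mem_nonunits_iff (Ideal.Quotient.mk J) s).2 (hm s hs)
  haveI := nontrivial_quot_list hmJ
  obtain ⟨k, hk⟩ := SerreReg.exists_dim_nat (A ⧸ J)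
  refine CMFlat.isCohenMacaulayLocalRing_of_dim_le_depth hk ?_
  have hle : k ≤ rs.length := by
    have h1 := ringKrullDim_quotient_le (R := A) J
    rw [hk, hd] at h1
    exact_mod_cast h1
  refine le_trans ?_ (CMFlat.le_depth_of_isWeaklyRegular hwJ hmJ)
  rw [List.length_map]
  exact_mod_cast hle

theorem isCohenMacaulayRing_of_ringEquiv {R R' : Type u} [CommRing R] [CommRing R'] (e : R ≃+* R')
    [LocCoh.IsCohenMacaulayRing R] : LocCoh.IsCohenMacaulayRing R' :=
  haveI := isNoetherianRing_of_ringEquiv R e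
  { isCohenMacaulayLocalRing_localization := fun p _ => by
      haveI : (p.comap (e : R →+* R')).IsPrime := Ideal.comap_isPrime _ _
      have hR := LocCoh.IsCohenMacaulayRing.isCohenMacaulayLocalRing_localization (p.comap (e : R →+* R'))
      refine @CMChart.isCohenMacaulayLocalRing_of_ringEquiv _ _ _ _ (IsLocalization.ringEquivOfRingEquiv (M := (p.comap (e : R →+* R')).primeCompl) (T := p.primeCompl)
        (Localization.AtPrime (p.comap (e : R →+* R'))) (Localization.AtPrime p) e ?_) hR
      ext x
      simp only [Submonoid.mem_map, Ideal.mem_primeCompl_iff, Ideal.mem_comap]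
      constructor
      · rintro ⟨y, hy, rfl⟩; exact hy
      · intro hx; exact ⟨e.symm x, by simpa using hx, by simp⟩ }

variable {R : Type u} [CommRing R] [IsNoetherianRing R]

theorem cm_linked (C I J : Ideal R) [LocCoh.IsGorensteinRing (R ⧸ C)] (hIJ : C.colon (I : Set R) = J)
    (hJI : C.colon (J : Set R) = I) [LocCoh.IsCohenMacaulayRing (R ⧸ I)] : LocCoh.IsCohenMacaulayRing (R ⧸ J) := by
  classical
  haveI := isCohenMacaulayRing_of_gorenstein (R ⧸ C)
  have hCI : C ≤ I := fun c hc => hJI ▸ Submodule.mem_colon.2 fun j _ => by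
    rw [smul_eq_mul]; exact Ideal.mul_mem_right _ _ hc
  have hCJ : C ≤ J := fun c hc => hIJ ▸ Submodule.mem_colon.2 fun j _ => by
    rw [smul_eq_mul]; exact Ideal.mul_mem_right _ _ hc
  set A := R ⧸ C
  set I' := I.map (Ideal.Quotient.mk C)
  set J' := J.map (Ideal.Quotient.mk C)
  haveI : LocCoh.IsCohenMacaulayRing (A ⧸ I') :=
    isCohenMacaulayRing_of_ringEquiv (DoubleQuot.quotQuotEquivQuotOfLE hCI).symm
  suffices LocCoh.IsCohenMacaulayRing (A ⧸ J') from
    isCohenMacaulayRing_of_ringEquiv (DoubleQuot.quotQuotEquivQuotOfLE hCJ)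
  refine { isCohenMacaulayLocalRing_localization := fun Q hQ => ?_ }
  obtain ⟨e⟩ := quot_localization A J' Q
  refine @CMChart.isCohenMacaulayLocalRing_of_ringEquiv _ _ _ _ e ?_
  set P := Q.comap (Ideal.Quotient.mk J')
  set T := Localization.AtPrime P
  have hJP : J' ≤ P := fun x hx => by
    rw [Ideal.mem_comap, Ideal.Quotient.eq_zero_iff_mem.2 hx]; exact zero_mem _
  haveI := LocCoh.IsGorensteinRing.isGorensteinLocalRing_localization (A := A) P
  haveI := isCohenMacaulay T
  have hann : J'.map (algebraMap A T) = Submodule.annihilator (I'.map (algebraMap A T)) := by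
    refine le_antisymm ?_ fun y hy => ?_
    · rw [Ideal.map_le_iff_le_comap]
      intro j hj
      obtain ⟨j, hj', rfl⟩ := (Ideal.mem_map_iff_of_surjective _ Ideal.Quotient.mk_surjective).1 hj
      rw [Ideal.mem_comap, Submodule.mem_annihilator]
      intro z hz
      have hle : (I'.map (algebraMap A T)) ≤ (⊥ : Ideal T).colon {algebraMap A T (Ideal.Quotient.mk C j)} := by
        rw [Ideal.map_le_iff_le_comap, Ideal.map_le_iff_le_comap]
        intro i hi
        have hji : j * i ∈ C := (Submodule.mem_colon.1 (hIJ.symm ▸ hj' : j ∈ C.colon (I : Set R))) i hi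
        rw [Ideal.mem_comap, Ideal.mem_comap, Submodule.mem_colon_singleton, Submodule.mem_bot, smul_eq_mul, ← map_mul,
          ← map_mul, mul_comm, Ideal.Quotient.eq_zero_iff_mem.2 hji, map_zero]
      have := hle hz
      rw [Submodule.mem_colon_singleton, Submodule.mem_bot] at this
      rw [smul_eq_mul, mul_comm]
      exact this
    · obtain ⟨G, hG⟩ := IsNoetherian.noetherian I
      obtain ⟨⟨r, s⟩, hys⟩ := IsLocalization.surj P.primeCompl y
      obtain ⟨r, rfl⟩ := Ideal.Quotient.mk_surjective r
      have hex : ∀ g ∈ G, ∃ t : R, Ideal.Quotient.mk C t ∉ P ∧ t * (r * g) ∈ C := fun g hg => by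
        have h0 : y * algebraMap A T (Ideal.Quotient.mk C g) = 0 := by
          have := Submodule.mem_annihilator.1 hy _ (Ideal.mem_map_of_mem (algebraMap A T)
            (Ideal.mem_map_of_mem (Ideal.Quotient.mk C) (hG ▸ Ideal.subset_span hg : g ∈ I)))
          exact this
        have h1 : algebraMap A T (Ideal.Quotient.mk C (r * g)) = 0 := by
          rw [map_mul, map_mul, ← hys, mul_right_comm, h0, zero_mul]
        obtain ⟨⟨t, ht⟩, he⟩ := (IsLocalization.map_eq_zero_iff P.primeCompl T _).1 h1
        obtain ⟨t, rfl⟩ := Ideal.Quotient.mk_surjective t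
        exact ⟨t, ht, Ideal.Quotient.eq_zero_iff_mem.1 (by rw [map_mul]; exact he)⟩
      choose! t ht htC using hex
      have hT : Ideal.Quotient.mk C (∏ g ∈ G, t g) ∉ P := fun h => by
        rw [map_prod] at h
        obtain ⟨g, hg, hgp⟩ := (inferInstance : P.IsPrime).prod_mem_iff.1 h
        exact ht g hg hgp
      have hk : (∏ g ∈ G, t g) * r ∈ J := by
        have hle : I ≤ C.colon {(∏ g ∈ G, t g) * r} := hG ▸ Ideal.span_le.2 fun g hg => by
          rw [SetLike.mem_coe, Submodule.mem_colon_singleton, smul_eq_mul]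
          obtain ⟨w, hw⟩ := Finset.dvd_prod_of_mem t hg
          rw [hw, show g * (t g * w * r) = w * (t g * (r * g)) by ring]
          exact Ideal.mul_mem_left _ _ (htC g hg)
        rw [← hIJ, Submodule.mem_colon]
        intro i hi
        have := hle hi
        rw [Submodule.mem_colon_singleton, smul_eq_mul] at this
        rwa [smul_eq_mul, mul_comm]
      have hu : IsUnit (algebraMap A T (Ideal.Quotient.mk C (∏ g ∈ G, t g)) * algebraMap A T (s : A)) :=
        (IsLocalization.map_units T (⟨_, hT⟩ : P.primeCompl)).mul (IsLocalization.map_units T s)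
      rw [← Ideal.mul_unit_mem_iff_mem _ hu]
      have h2 := Ideal.mem_map_of_mem (algebraMap A T) (Ideal.mem_map_of_mem (Ideal.Quotient.mk C) hk)
      rw [map_mul, map_mul, ← hys] at h2
      rwa [mul_left_comm]
  rw [hann]
  by_cases htop : I'.map (algebraMap A T) = ⊤
  · rw [htop, Submodule.annihilator_top, Module.annihilator_eq_bot.2 inferInstance]
    exact CMChart.isCohenMacaulayLocalRing_of_ringEquiv (R := T) (R' := T ⧸ (⊥ : Ideal T)) (RingEquiv.quotientBot T).symm (isCohenMacaulay T)
  have hIP : I' ≤ P := fun x hx => by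
    by_contra hxP
    exact htop (Ideal.eq_top_of_isUnit_mem _ (Ideal.mem_map_of_mem _ hx) (IsLocalization.map_units T (⟨x, hxP⟩ : P.primeCompl)))
  haveI : LocCoh.IsCohenMacaulayLocalRing (T ⧸ I'.map (algebraMap A T)) := cm_quot_localized I' P hIP
  have hJT : Submodule.annihilator (I'.map (algebraMap A T)) ≠ ⊤ := by
    rw [← hann]
    refine ne_top_of_le_ne_top (maximalIdeal.isMaximal T).ne_top ?_
    rw [← Localization.AtPrime.map_eq_maximalIdeal]
    exact Ideal.map_mono hJP
  -- a minimal prime above `I`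
  obtain ⟨q, hq, hqP⟩ := Ideal.exists_minimalPrimes_le hIP
  haveI := hq.isPrime
  set p := q.comap (Ideal.Quotient.mk C)
  have hpI : p ∈ I.minimalPrimes := by
    have h := Ideal.comap_minimalPrimes_eq_of_surjective (Ideal.Quotient.mk_surjective (I := C)) I'
    rw [Ideal.comap_map_of_surjective' _ Ideal.Quotient.mk_surjective, Ideal.mk_ker, sup_eq_left.2 hCI] at h
    exact h ▸ ⟨q, hq, rfl⟩
  have hassI : p ∈ associatedPrimes R (R ⧸ C.colon (J : Set R)) := by
    rw [hJI]
    exact Module.associatedPrimes.minimalPrimes_annihilator_subset_associatedPrimes R (R ⧸ I) (by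
      rwa [Ideal.annihilator_quotient])
  have hpC := minimal_of_associated C (associated_colon C J hassI)
  have hqmin : q ∈ minimalPrimes A := by
    refine ⟨⟨inferInstance, bot_le⟩, fun q' hq' hle => ?_⟩
    haveI := hq'.1
    rw [← Ideal.comap_le_comap_iff_of_surjective _ (Ideal.Quotient.mk_surjective (I := C))]
    refine hpC.2 ⟨inferInstance, fun c hc => ?_⟩ (Ideal.comap_mono hle)
    rw [Ideal.mem_comap, Ideal.Quotient.eq_zero_iff_mem.2 hc]; exact zero_mem _
  have hd : Disjoint (P.primeCompl : Set A) (q : Set A) := Set.disjoint_left.2 fun x hx hxq => hx (hqP hxq)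
  haveI := IsLocalization.isPrime_of_isPrime_disjoint P.primeCompl T q ‹_› hd
  have hcat := Catenary.height_add_dim (q.map (algebraMap A T))
  rw [IsLocalization.height_map_of_disjoint P.primeCompl q hd, Ideal.height_eq_zero_iff.2 hqmin] at hcat
  refine cm_quot_ann T _ (le_antisymm (ringKrullDim_quotient_le _) ?_) hJT
  have h1 : ringKrullDim (T ⧸ q.map (algebraMap A T)) = ringKrullDim T := by simpa using hcat
  rw [← h1]
  exact ringKrullDim_le_of_surjective (Ideal.Quotient.factor (Ideal.map_mono hq.1.2))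
    (Ideal.Quotient.factor_surjective _)

end Groth.Agent.Goren
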