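import Groth.Agent.Goren.Artin
import Groth.Agent.CMFlat.Local
import Mathlib.RingTheory.TensorProduct.Quotient

/-! Gorenstein property along flat local homomorphisms. -/

set_option autoImplicit false
set_option maxHeartbeats 1000000
set_option maxSynthPendingDepth 3

universe u

open IsLocalRing RingTheory.Sequence

noncomputable section

namespace Groth.Agent.Goren

/-- In a flat algebra, the annihilator of `(f i)` is generated by that of the base. -/
theorem mem_map_ann {R S : Type u} [CommRing R] [CommRing S] [Algebra R S] [Module.Flat R S] {n : ℕ} (f : Fin n → R)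
    {b : S} (hb : ∀ i, algebraMap R S (f i) * b = 0) :
    b ∈ Ideal.map (algebraMap R S) (LinearMap.ker (LinearMap.pi fun i => LinearMap.mulLeft R (f i)) : Ideal R) := by
  let L : R →ₗ[R] (Fin n → R) := LinearMap.pi fun i => LinearMap.mulLeft R (f i)
  let F : TensorProduct R S (Fin n → R) ≃ₗ[R] (Fin n → S) := TensorProduct.piScalarRight R R S (Fin n)
  have h0 : LinearMap.lTensor S L (b ⊗ₜ[R] (1 : R)) = 0 := F.injective (funext fun i => by
    rw [map_zero, LinearMap.lTensor_tmul]
    simp [F, L, Algebra.smul_def, hb i])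
  obtain ⟨z, hz⟩ := (Module.Flat.lTensor_exact S (LinearMap.exact_subtype_ker_map L) _).1 h0
  have h1 : TensorProduct.rid R S (LinearMap.lTensor S (LinearMap.ker L).subtype z) = b := by
    rw [hz]; simp
  rw [← h1]
  clear hz h1 h0
  induction z using TensorProduct.induction_on with
  | zero => simp
  | tmul s a =>
    rw [LinearMap.lTensor_tmul, TensorProduct.rid_tmul, Algebra.smul_def]
    exact Ideal.mul_mem_right _ _ (Ideal.mem_map_of_mem _ a.2)
  | add x y hx hy => simp only [map_add]; exact add_mem hx hy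

section Artinian

variable {R S : Type u} [CommRing R] [CommRing S] [IsLocalRing R] [IsLocalRing S] [IsNoetherianRing R]
  [Algebra R S] [IsLocalHom (algebraMap R S)] [Module.Flat R S]

set_option quotPrecheck false in
local notation "F" => S ⧸ (maximalIdeal R).map (algebraMap R S)

theorem socSimple_fibre_iff [IsLocalRing F] (hsocR : ∃ t : R, t ≠ 0 ∧ ∀ x ∈ maximalIdeal R, x * t = 0)
    (hsocF : ∃ σ : F, σ ≠ 0 ∧ ∀ x ∈ maximalIdeal F, x * σ = 0) :
    SocSimple S ↔ SocSimple R ∧ SocSimple F := by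
  let mk := Ideal.Quotient.mk ((maximalIdeal R).map (algebraMap R S))
  haveI : IsLocalHom mk := IsLocalHom.of_surjective _ Ideal.Quotient.mk_surjective
  have hmemF : ∀ x : S, mk x ∈ maximalIdeal F ↔ x ∈ maximalIdeal S := fun x => map_mem_nonunits_iff mk x
  have hmem : ∀ (b : S), (b ∈ (maximalIdeal R).map (algebraMap R S)) → ∀ {t : R}, (∀ x ∈ maximalIdeal R, x * t = 0) →
      algebraMap R S t * b = 0 := fun b hb t ht => by
    have h : (maximalIdeal R).map (algebraMap R S) ≤ LinearMap.ker (LinearMap.mulLeft S (algebraMap R S t)) :=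
      Ideal.map_le_iff_le_comap.2 fun x hx => by
        show algebraMap R S t * algebraMap R S x = 0
        rw [← map_mul, mul_comm, ht x hx, map_zero]
    exact h hb
  have hkill : ∀ {t : R}, t ≠ 0 → ∀ b : S, algebraMap R S t * b = 0 → b ∈ (maximalIdeal R).map (algebraMap R S) :=
    fun ht b hb => by
      have := CMFlat.mem_smul_of_socle (A := R) ht (m := b) (by rw [Algebra.smul_def]; exact hb)
      rwa [Ideal.smul_top_eq_map, Submodule.restrictScalars_mem] at this
  -- socle elements of `S` from socle elements of `R` and `F`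
  have hprod : ∀ {t : R}, (∀ x ∈ maximalIdeal R, x * t = 0) → ∀ {σ : S}, (∀ x ∈ maximalIdeal F, x * mk σ = 0) →
      ∀ x ∈ maximalIdeal S, x * (algebraMap R S t * σ) = 0 := fun ht σ hσ x hx => by
    rw [mul_left_comm]
    exact hmem _ (Ideal.Quotient.eq_zero_iff_mem.1 ((map_mul mk x σ).trans (hσ _ ((hmemF x).2 hx)))) ht
  constructor
  · rintro ⟨s, hs0, hsm, hs⟩
    obtain ⟨t, ht0, htm⟩ := hsocR
    obtain ⟨σ', hσ0, hσm⟩ := hsocF
    obtain ⟨σ, rfl⟩ := Ideal.Quotient.mk_surjective σ'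
    have hσ0' : σ ∉ (maximalIdeal R).map (algebraMap R S) := fun h => hσ0 (Ideal.Quotient.eq_zero_iff_mem.2 h)
    have hne : algebraMap R S t * σ ≠ 0 := fun h => hσ0' (hkill ht0 σ h)
    have hcomp : ∀ a : S, (∀ x ∈ maximalIdeal S, x * a = 0) → ∃ w, a = w * (algebraMap R S t * σ) := fun a ha => by
      obtain ⟨u, hu⟩ := Ideal.mem_span_singleton'.1 (hs _ (hprod htm hσm))
      obtain ⟨v, hv⟩ := Ideal.mem_span_singleton'.1 (hs a ha)
      have hu' : IsUnit u := IsLocalRing.notMem_maximalIdeal.1 fun hu' => hne (hu ▸ hsm u hu')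
      refine ⟨v * ↑hu'.unit⁻¹, ?_⟩
      rw [← hu, ← hv, mul_assoc v, ← mul_assoc _ u s, IsUnit.val_inv_mul, one_mul]
    refine ⟨⟨t, ht0, htm, fun t' ht' => ?_⟩, ⟨mk σ, hσ0, hσm, fun a ha => ?_⟩⟩
    · by_contra hnot
      obtain ⟨w, hw⟩ := hcomp _ (hprod ht' hσm)
      have hrel : ∑ i : Fin 2, ![t', t] i • ![σ, -(w * σ)] i = 0 := by
        simp only [Fin.sum_univ_two, Matrix.cons_val_zero, Matrix.cons_val_one, Algebra.smul_def]
        rw [hw]; ring
      obtain ⟨k, c, y, hy, hc⟩ := Module.Flat.isTrivialRelation_of_sum_smul_eq_zero (R := R) (M := S) hrel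
      have h0 : σ = ∑ j, c 0 j • y j := hy 0
      refine hσ0' (h0 ▸ Ideal.sum_mem _ fun j _ => ?_)
      rw [Algebra.smul_def]
      refine Ideal.mul_mem_right _ _ (Ideal.mem_map_of_mem _ ?_)
      by_contra hu
      have h := hc j
      simp only [Fin.sum_univ_two, Matrix.cons_val_zero, Matrix.cons_val_one] at h
      refine hnot (Ideal.mem_span_singleton'.2 ⟨-c 1 j * ↑(IsLocalRing.notMem_maximalIdeal.1 hu).unit⁻¹, ?_⟩)
      have h2 : t' * c 0 j * ↑(IsLocalRing.notMem_maximalIdeal.1 hu).unit⁻¹ = t' := by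
        rw [mul_assoc, IsUnit.mul_val_inv, mul_one]
      linear_combination h2 - (↑(IsLocalRing.notMem_maximalIdeal.1 hu).unit⁻¹ : R) * h
    · obtain ⟨a, rfl⟩ := Ideal.Quotient.mk_surjective a
      obtain ⟨w, hw⟩ := hcomp _ (hprod htm ha)
      refine Ideal.mem_span_singleton'.2 ⟨mk w, ?_⟩
      rw [← map_mul, eq_comm, Ideal.Quotient.eq]
      refine hkill ht0 _ ?_
      rw [mul_sub, hw]; ring
  · rintro ⟨⟨t, ht0, htm, ht⟩, ⟨σ', hσ0, hσm, hσ⟩⟩
    obtain ⟨σ, rfl⟩ := Ideal.Quotient.mk_surjective σ'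
    refine ⟨algebraMap R S t * σ, fun h => hσ0 (Ideal.Quotient.eq_zero_iff_mem.2 (hkill ht0 σ h)),
      hprod htm hσm, fun a ha => ?_⟩
    obtain ⟨n, f, hf⟩ := Submodule.fg_iff_exists_fin_generating_family.1 (IsNoetherian.noetherian (maximalIdeal R))
    have hle : (LinearMap.ker (LinearMap.pi fun i => LinearMap.mulLeft R (f i)) : Ideal R) ≤ Ideal.span {t} := by
      intro c hc
      refine ht c fun x hx => ?_
      rw [← hf] at hx
      induction hx using Submodule.span_induction with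
      | mem y hy => obtain ⟨i, rfl⟩ := hy; exact congrFun hc i
      | zero => exact zero_mul _
      | add y z _ _ hy hz => rw [add_mul, hy, hz, add_zero]
      | smul r y _ hy => rw [smul_eq_mul, mul_assoc, hy, mul_zero]
    have hfm : ∀ i, f i ∈ maximalIdeal R := fun i => hf ▸ Submodule.subset_span ⟨i, rfl⟩
    have hmap := Ideal.map_mono (f := algebraMap R S) hle (mem_map_ann f (b := a) fun i =>
      ha _ (Ideal.mem_comap.1 ((maximalIdeal_comap (algebraMap R S)).ge (hfm i))))
    rw [Ideal.map_span, Set.image_singleton] at hmap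
    obtain ⟨b, rfl⟩ := Ideal.mem_span_singleton'.1 hmap
    have hb : mk b ∈ Ideal.span {mk σ} := hσ _ fun x hx => by
      obtain ⟨x, rfl⟩ := Ideal.Quotient.mk_surjective x
      rw [← map_mul]
      refine Ideal.Quotient.eq_zero_iff_mem.2 (hkill ht0 _ ?_)
      rw [← ha x ((hmemF x).1 hx)]; ring
    obtain ⟨w, hw⟩ := Ideal.mem_span_singleton'.1 hb
    obtain ⟨w, rfl⟩ := Ideal.Quotient.mk_surjective w
    rw [← map_mul, Ideal.Quotient.eq] at hw
    refine Ideal.mem_span_singleton'.2 ⟨w, ?_⟩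
    have := hmem _ hw htm
    linear_combination this

end Artinian

theorem exists_socle {T : Type u} [CommRing T] [IsLocalRing T] [IsNoetherianRing T] (hd : ringKrullDim T = 0) :
    ∃ t : T, t ≠ 0 ∧ ∀ x ∈ maximalIdeal T, x * t = 0 := by
  haveI : Ring.KrullDimLE 0 T := ringKrullDimZero_iff_ringKrullDim_eq_zero.2 hd
  haveI : IsArtinianRing T := isArtinianRing_iff_isNoetherianRing_krullDimLE_zero.2 ⟨inferInstance, inferInstance⟩
  obtain ⟨p, hp⟩ := associatedPrimes.nonempty T T
  haveI := (AssociatedPrimes.mem_iff.1 hp).isPrime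
  rw [IsLocalRing.eq_maximalIdeal (IsArtinianRing.isMaximal_of_isPrime p)] at hp
  obtain ⟨-, t, ht⟩ := isAssociatedPrime_iff.1 (AssociatedPrimes.mem_iff.1 hp)
  refine ⟨t, fun h0 => (maximalIdeal.isMaximal T).ne_top ?_, fun x hx => ?_⟩
  · rw [ht, h0, Ideal.eq_top_iff_one, Submodule.mem_colon_singleton, smul_zero]
    exact zero_mem _
  · rw [ht, Submodule.mem_colon_singleton, Submodule.mem_bot] at hx
    exact hx

section Local

variable {R S : Type u} [CommRing R] [CommRing S] [IsLocalRing R] [IsLocalRing S] [IsNoetherianRing R]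
  [IsNoetherianRing S] [Algebra R S] [IsLocalHom (algebraMap R S)] [Module.Flat R S]

set_option quotPrecheck false in
local notation "F" => S ⧸ (maximalIdeal R).map (algebraMap R S)

theorem gorenstein_iff_artinian (hR : ringKrullDim R = 0) (hF : ringKrullDim F = 0) :
    LocCoh.IsGorensteinLocalRing S ↔ LocCoh.IsGorensteinLocalRing R ∧ LocCoh.IsGorensteinLocalRing F := by
  haveI : Nontrivial F := (Ideal.Quotient.nontrivial_iff.mpr
    fun h => (maximalIdeal.isMaximal S).ne_top (top_le_iff.mp (h.ge.trans CMFlat.map_le)))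
  haveI : IsLocalRing F := IsLocalRing.of_surjective' _ Ideal.Quotient.mk_surjective
  obtain ⟨c, e, hc, he, hce⟩ := CMFlat.dims (R := R) (S := S)
  have h0 : c = 0 ∧ e = 0 := ⟨by rw [hR] at hc; exact_mod_cast hc.symm, by rw [hF] at he; exact_mod_cast he.symm⟩
  have hS : ringKrullDim S = 0 := by rw [hce, h0.1, h0.2]; simp
  rw [gorenstein_iff_socSimple S hS, gorenstein_iff_socSimple R hR, gorenstein_iff_socSimple F hF]
  exact socSimple_fibre_iff (exists_socle hR) (exists_socle hF)

theorem exists_regSeq (T : Type u) [CommRing T] [LocCoh.IsCohenMacaulayLocalRing T] :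
    ∃ rs : List T, IsWeaklyRegular T rs ∧ (∀ r ∈ rs, r ∈ maximalIdeal T) ∧ ringKrullDim T = rs.length := by
  obtain ⟨k, hk⟩ := SerreReg.exists_dim_nat T
  obtain ⟨rs, hl, hw, hm⟩ := SerreReg.exists_list_of_hasRegSeq k (CMFlat.hasRegSeq_of_cm hk)
  exact ⟨rs, hw, hm, hl ▸ hk⟩

theorem nontrivial_quot_list {T : Type u} [CommRing T] [IsLocalRing T] {rs : List T}
    (hm : ∀ r ∈ rs, r ∈ maximalIdeal T) : Nontrivial (T ⧸ Ideal.ofList rs) :=
  Ideal.Quotient.nontrivial_iff.2 fun h => (maximalIdeal.isMaximal T).ne_top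
    (top_le_iff.1 (h.ge.trans (Ideal.span_le.2 fun r hr => hm r hr)))

theorem dim_quot_list : ∀ (n : ℕ) (T : Type u) [CommRing T] [IsLocalRing T] [IsNoetherianRing T] (rs : List T),
    rs.length = n → IsWeaklyRegular T rs → (∀ r ∈ rs, r ∈ maximalIdeal T) →
      ringKrullDim (T ⧸ Ideal.ofList rs) + n = ringKrullDim T := by
  intro n
  induction n with
  | zero =>
    intro T _ _ _ rs hlen _ _
    rw [List.length_eq_zero_iff] at hlen
    subst hlen
    rw [Nat.cast_zero, add_zero]
    exact ringKrullDim_eq_of_ringEquiv ((Ideal.quotEquivOfEq Ideal.ofList_nil).trans (RingEquiv.quotientBot T))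
  | succ n ih =>
    intro T _ _ _ rs hlen hw hm
    obtain _ | ⟨x, rs'⟩ := rs
    · simp at hlen
    have hx : x ∈ maximalIdeal T := hm x List.mem_cons_self
    obtain ⟨hreg, hw'⟩ := (isWeaklyRegular_cons_iff T x rs').1 hw
    haveI := SerreReg.isLocalRing_quot hx
    have e : QuotSMulTop x T ≃ₗ[T] T ⧸ Ideal.span {x} := Submodule.quotEquivOfEq _ _ (by
      rw [← Submodule.ideal_span_singleton_smul, smul_eq_mul, Ideal.mul_top])
    have h1 := ih (T ⧸ Ideal.span {x}) (rs'.map (algebraMap T _)) (by simpa using hlen)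
      ((isWeaklyRegular_map_algebraMap_iff (S := T ⧸ Ideal.span {x}) (T ⧸ Ideal.span {x}) rs').2
        ((e.isWeaklyRegular_congr rs').1 hw')) (fun r hr => by
        obtain ⟨s, hs, rfl⟩ := List.mem_map.mp hr
        haveI : IsLocalHom (Ideal.Quotient.mk (Ideal.span {x})) := IsLocalHom.of_surjective _ Ideal.Quotient.mk_surjective
        exact (map_mem_nonunits_iff (Ideal.Quotient.mk (Ideal.span {x})) s).2 (hm s (List.mem_cons_of_mem _ hs)))
    rw [ringKrullDim_eq_of_ringEquiv ((Ideal.quotEquivOfEq (Ideal.map_ofList (algebraMap T (T ⧸ Ideal.span {x})) rs').symm).trans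
      ((DoubleQuot.quotQuotEquivQuotSup (Ideal.span {x}) (Ideal.ofList rs')).trans
      (Ideal.quotEquivOfEq (Ideal.ofList_cons x rs').symm)))] at h1
    rw [← ringKrullDim_quotient_span_singleton_succ_eq_ringKrullDim hreg hx, ← h1, Nat.cast_succ, add_assoc]

theorem dim_quot_zero {T : Type u} [CommRing T] [IsLocalRing T] [IsNoetherianRing T] {rs : List T}
    (hw : IsWeaklyRegular T rs) (hm : ∀ r ∈ rs, r ∈ maximalIdeal T) (hd : ringKrullDim T = rs.length) :
    ringKrullDim (T ⧸ Ideal.ofList rs) = 0 := by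
  have h := dim_quot_list _ T rs rfl hw hm
  rw [hd] at h
  haveI := nontrivial_quot_list hm
  haveI : IsLocalRing (T ⧸ Ideal.ofList rs) := IsLocalRing.of_surjective' _ Ideal.Quotient.mk_surjective
  obtain ⟨k, hk⟩ := SerreReg.exists_dim_nat (T ⧸ Ideal.ofList rs)
  rw [hk] at h ⊢
  have : k + rs.length = rs.length := by exact_mod_cast h
  rw [show k = 0 by omega, Nat.cast_zero]

omit [IsNoetherianRing R] [IsNoetherianRing S] [IsLocalHom (algebraMap R S)] [Module.Flat R S] [IsLocalRing S] in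
theorem map_maximalIdeal_quot (I : Ideal R) [IsLocalRing (R ⧸ I)] (K : Ideal S) [Algebra (R ⧸ I) (S ⧸ K)]
    (h : ∀ r, algebraMap (R ⧸ I) (S ⧸ K) (Ideal.Quotient.mk I r) = Ideal.Quotient.mk K (algebraMap R S r)) :
    (maximalIdeal (R ⧸ I)).map (algebraMap (R ⧸ I) (S ⧸ K)) =
      ((maximalIdeal R).map (algebraMap R S)).map (Ideal.Quotient.mk K) := by
  rw [← IsLocalRing.map_maximalIdeal_of_surjective (Ideal.Quotient.mk I) Ideal.Quotient.mk_surjective,
    Ideal.map_map, Ideal.map_map]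
  congr 1
  exact RingHom.ext h

theorem gorenstein_iff_cm [LocCoh.IsCohenMacaulayLocalRing R] [LocCoh.IsCohenMacaulayLocalRing F] :
    LocCoh.IsGorensteinLocalRing S ↔ LocCoh.IsGorensteinLocalRing R ∧ LocCoh.IsGorensteinLocalRing F := by
  obtain ⟨rR, hwR, hmR, hdR⟩ := exists_regSeq R
  obtain ⟨rF, hwF, hmF, hdF⟩ := exists_regSeq F
  haveI := nontrivial_quot_list hmR
  haveI : IsLocalRing (R ⧸ Ideal.ofList rR) := IsLocalRing.of_surjective' _ Ideal.Quotient.mk_surjective
  obtain ⟨y, rfl⟩ : ∃ y : List S, y.map (Ideal.Quotient.mk _) = rF :=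
    ⟨rF.map (Function.surjInv Ideal.Quotient.mk_surjective), by
      rw [List.map_map]; exact List.map_id'' (Function.surjInv_eq _) rF⟩
  have hym : ∀ s ∈ y, s ∈ maximalIdeal S := fun s hs => by
    haveI : IsLocalHom (Ideal.Quotient.mk ((maximalIdeal R).map (algebraMap R S))) :=
      IsLocalHom.of_surjective _ Ideal.Quotient.mk_surjective
    exact (map_mem_nonunits_iff (Ideal.Quotient.mk ((maximalIdeal R).map (algebraMap R S))) s).1
      (hmF _ (List.mem_map_of_mem hs))
  haveI := nontrivial_quot_list hym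
  haveI : IsLocalRing (S ⧸ Ideal.ofList y) := IsLocalRing.of_surjective' _ Ideal.Quotient.mk_surjective
  have hy : IsWeaklyRegular (S ⧸ ((maximalIdeal R).map (algebraMap R S) • (⊤ : Submodule S S))) y := by
    refine ((Submodule.quotEquivOfEq _ _ (show ((maximalIdeal R).map (algebraMap R S) • ⊤ : Submodule S S) =
      (maximalIdeal R).map (algebraMap R S) by rw [smul_eq_mul, Ideal.mul_top])).isWeaklyRegular_congr y).2 ?_
    exact (isWeaklyRegular_map_algebraMap_iff (S := F) F y).1 (by rw [Ideal.Quotient.algebraMap_eq]; exact hwF)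
  obtain ⟨hyw, hyf⟩ := InjFibre.regSeq_noeth (A := R) S y hy
  have hyfl := hyf y.length le_rfl
  rw [List.take_length] at hyfl
  haveI : Module.Flat R (S ⧸ Ideal.ofList y) := Module.Flat.of_linearEquiv ((Submodule.quotEquivOfEq _ _
    (show (Ideal.ofList y • ⊤ : Submodule S S) = Ideal.ofList y by
      rw [smul_eq_mul, Ideal.mul_top])).restrictScalars R).symm
  -- first cut by `y`, then by `rR`
  let S₁ := S ⧸ Ideal.ofList y
  let rS : List S₁ := rR.map (algebraMap R S₁)
  haveI : IsLocalHom (Ideal.Quotient.mk (Ideal.ofList y)) := IsLocalHom.of_surjective _ Ideal.Quotient.mk_surjective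
  have hmS : ∀ s ∈ rS, s ∈ maximalIdeal S₁ := fun s hs => by
    obtain ⟨r, hr, rfl⟩ := List.mem_map.mp hs
    exact (map_mem_nonunits_iff (Ideal.Quotient.mk (Ideal.ofList y)) (algebraMap R S r)).2
      (CMFlat.map_le (Ideal.mem_map_of_mem _ (hmR r hr)))
  have hwS : IsWeaklyRegular S₁ rS := hwR.of_flat
  rw [gorenstein_iff_quot_list _ S y rfl hyw hym, gorenstein_iff_quot_list _ S₁ rS rfl hwS hmS,
    gorenstein_iff_quot_list _ R rR rfl hwR hmR, gorenstein_iff_quot_list _ F _ rfl hwF hmF]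
  let K : Ideal S₁ := (Ideal.ofList rR).map (algebraMap R S₁)
  have hK : K = Ideal.ofList rS := Ideal.map_ofList _ _
  haveI : Nontrivial (S₁ ⧸ K) := hK ▸ nontrivial_quot_list hmS
  haveI : IsLocalRing (S₁ ⧸ K) := IsLocalRing.of_surjective' _ Ideal.Quotient.mk_surjective
  haveI : IsLocalHom (Ideal.Quotient.mk K) := IsLocalHom.of_surjective _ Ideal.Quotient.mk_surjective
  haveI : Module.Flat (R ⧸ Ideal.ofList rR) (S₁ ⧸ K) :=
    Module.Flat.of_linearEquiv (Algebra.TensorProduct.quotIdealMapEquivQuotTensor S₁ (Ideal.ofList rR)).toLinearEquiv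
  haveI : IsLocalHom (algebraMap (R ⧸ Ideal.ofList rR) (S₁ ⧸ K)) := ⟨fun a ha => by
    obtain ⟨r, rfl⟩ := Ideal.Quotient.mk_surjective a
    have h1 : IsUnit (algebraMap R S₁ r) :=
      isUnit_of_map_unit (Ideal.Quotient.mk K) _ ha
    have h2 : IsUnit (algebraMap R S r) := isUnit_of_map_unit (Ideal.Quotient.mk (Ideal.ofList y)) _ h1
    exact (isUnit_of_map_unit (algebraMap R S) r h2).map _⟩
  -- the fibre after cutting
  have hfib : (maximalIdeal (R ⧸ Ideal.ofList rR)).map (algebraMap (R ⧸ Ideal.ofList rR) (S₁ ⧸ K)) =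
      ((maximalIdeal R).map (algebraMap R S₁)).map (Ideal.Quotient.mk K) :=
    map_maximalIdeal_quot (Ideal.ofList rR) K fun r => rfl
  have hKle : K ≤ (maximalIdeal R).map (algebraMap R S₁) := Ideal.map_mono (Ideal.span_le.2 fun r hr => hmR r hr)
  let e₀ : ((S₁ ⧸ K) ⧸ (maximalIdeal (R ⧸ Ideal.ofList rR)).map (algebraMap (R ⧸ Ideal.ofList rR) (S₁ ⧸ K))) ≃+*
      F ⧸ Ideal.ofList (y.map (Ideal.Quotient.mk ((maximalIdeal R).map (algebraMap R S)))) :=
    (Ideal.quotEquivOfEq hfib).trans <| (DoubleQuot.quotQuotEquivQuotOfLE hKle).trans <|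
      (Ideal.quotEquivOfEq (Ideal.map_map (I := maximalIdeal R) (algebraMap R S) (Ideal.Quotient.mk (Ideal.ofList y))).symm).trans <|
      (DoubleQuot.quotQuotEquivComm (Ideal.ofList y) ((maximalIdeal R).map (algebraMap R S))).trans <|
      (Ideal.quotEquivOfEq (Ideal.map_ofList _ y))
  rw [gorenstein_equiv_iff (Ideal.quotEquivOfEq hK.symm), ← gorenstein_equiv_iff e₀]
  have hd0 : ringKrullDim (R ⧸ Ideal.ofList rR) = 0 := dim_quot_zero hwR hmR hdR
  refine gorenstein_iff_artinian hd0 ?_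
  rw [ringKrullDim_eq_of_ringEquiv e₀]
  exact dim_quot_zero hwF hmF hdF

theorem gorenstein_flat_iff :
    LocCoh.IsGorensteinLocalRing S ↔ LocCoh.IsGorensteinLocalRing R ∧ LocCoh.IsGorensteinLocalRing F := by
  constructor
  · intro h
    haveI := isCohenMacaulay S
    obtain ⟨_, _⟩ := CMFlat.isCohenMacaulayLocalRing_descend (R := R) (S := S)
    exact gorenstein_iff_cm.1 h
  · rintro ⟨h₁, h₂⟩
    haveI := isCohenMacaulay R
    haveI := isCohenMacaulay F
    exact gorenstein_iff_cm.2 ⟨h₁, h₂⟩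

end Local

end Groth.Agent.Goren
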