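import Groth.Agent.Goren.LinkLocal
import Groth.Agent.Goren.LCI
import Groth.Agent.Catenary.CM
import Groth.Agent.CMChart.Scheme
import Groth.Agent.SegreDim.Ischebeck
import Groth.Agent.CIBertini.Main
import Groth.Prelude.Def_GrSyz
import Mathlib.RingTheory.GradedAlgebra.Radical

/-! Gorenstein linkage for homogeneous ideals. -/

set_option autoImplicit false
set_option maxHeartbeats 1000000
set_option maxSynthPendingDepth 3

universe u

open IsLocalRing RingTheory.Sequence

noncomputable section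

namespace Groth.Agent.Goren

theorem dim_minimal {M : Type u} [CommRing M] [LocCoh.IsCohenMacaulayLocalRing M] (K : Ideal M)
    [LocCoh.IsCohenMacaulayLocalRing (M ⧸ K)] {q : Ideal M} (hq : q ∈ K.minimalPrimes) :
    ringKrullDim (M ⧸ q) = ringKrullDim (M ⧸ K) := by
  haveI := hq.isPrime
  let q' := q.map (Ideal.Quotient.mk K)
  have hker : RingHom.ker (Ideal.Quotient.mk K) ≤ q := by rw [Ideal.mk_ker]; exact hq.1.2
  haveI : q'.IsPrime := Ideal.map_isPrime_of_surjective Ideal.Quotient.mk_surjective hker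
  have hmem : q' ∈ minimalPrimes (M ⧸ K) := by
    refine ⟨⟨inferInstance, bot_le⟩, fun r hr hrq => Ideal.map_le_iff_le_comap.2 (hq.2 ⟨hr.1.comap _, fun x hx => by
      rw [Ideal.mem_comap, Ideal.Quotient.eq_zero_iff_mem.2 hx]; exact zero_mem _⟩ ?_)⟩
    refine (Ideal.comap_mono hrq).trans ?_
    rw [Ideal.comap_map_of_surjective' _ Ideal.Quotient.mk_surjective, sup_eq_left.2 hker]
  have hass : q' ∈ associatedPrimes (M ⧸ K) (M ⧸ K) :=
    Module.associatedPrimes.minimalPrimes_annihilator_subset_associatedPrimes (M ⧸ K) (M ⧸ K) (by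
      rwa [Module.annihilator_eq_bot.2 inferInstance])
  have h1 := SegreDim.depth_le_dim q' hass
  rw [← LocCoh.IsCohenMacaulayLocalRing.supportDim_eq_depth, Module.supportDim_self_eq_ringKrullDim] at h1
  rw [← ringKrullDim_eq_of_ringEquiv (DoubleQuot.quotQuotEquivQuotOfLE hq.1.2)]
  exact le_antisymm (ringKrullDim_quotient_le _) h1

theorem dim_add_height {M : Type u} [CommRing M] [LocCoh.IsCohenMacaulayLocalRing M] (K : Ideal M)
    [LocCoh.IsCohenMacaulayLocalRing (M ⧸ K)] {q : Ideal M} (hq : q ∈ K.minimalPrimes) :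
    ringKrullDim (M ⧸ K) + (q.height : WithBot ℕ∞) = ringKrullDim M := by
  haveI := hq.isPrime
  rw [← dim_minimal K hq]
  exact Catenary.height_add_dim q

section Poly

variable {R : Type u} [CommRing R] [IsNoetherianRing R]

/-- Data at a prime: the local ring, and the image of a minimal prime. -/
theorem minimal_localized (I : Ideal R) {q : Ideal R} (hq : q ∈ I.minimalPrimes) (P : Ideal R) [P.IsPrime]
    (hqP : q ≤ P) : q.map (algebraMap R (Localization.AtPrime P)) ∈ (I.map (algebraMap R (Localization.AtPrime P))).minimalPrimes ∧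
      (q.map (algebraMap R (Localization.AtPrime P))).height = q.height := by
  haveI := hq.isPrime
  have hd : Disjoint (P.primeCompl : Set R) (q : Set R) :=
    Set.disjoint_left.2 fun x hx hxq => hx (hqP hxq)
  refine ⟨?_, IsLocalization.height_map_of_disjoint P.primeCompl q hd⟩
  rw [IsLocalization.minimalPrimes_map P.primeCompl, Set.mem_preimage,
    IsLocalization.under_map_of_isPrime_disjoint P.primeCompl _ ‹_› hd]
  exact hq

theorem cm_quot_localized (I : Ideal R) [LocCoh.IsCohenMacaulayRing (R ⧸ I)] (P : Ideal R) [P.IsPrime] (hIP : I ≤ P) :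
    LocCoh.IsCohenMacaulayLocalRing (Localization.AtPrime P ⧸ I.map (algebraMap R (Localization.AtPrime P))) := by
  have hker : RingHom.ker (Ideal.Quotient.mk I) ≤ P := by rwa [Ideal.mk_ker]
  haveI : (P.map (Ideal.Quotient.mk I)).IsPrime := Ideal.map_isPrime_of_surjective Ideal.Quotient.mk_surjective hker
  have hP : (P.map (Ideal.Quotient.mk I)).comap (Ideal.Quotient.mk I) = P := by
    rw [Ideal.comap_map_of_surjective' _ Ideal.Quotient.mk_surjective, sup_eq_left.2 hker]
  obtain ⟨e⟩ := quot_localization R I (P.map (Ideal.Quotient.mk I))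
  have h := CMChart.isCohenMacaulayLocalRing_of_ringEquiv e.symm
    (LocCoh.IsCohenMacaulayRing.isCohenMacaulayLocalRing_localization _)
  revert h
  rw! [hP]
  exact id

variable [LocCoh.IsGorensteinRing R]

theorem cm_localization (P : Ideal R) [P.IsPrime] : LocCoh.IsCohenMacaulayLocalRing (Localization.AtPrime P) := by
  haveI := LocCoh.IsGorensteinRing.isGorensteinLocalRing_localization (A := R) P
  exact isCohenMacaulay _

/-- All minimal primes have the height of `I`, once they lie in a common prime. -/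
theorem height_minimal (I : Ideal R) [LocCoh.IsCohenMacaulayRing (R ⧸ I)] (m : Ideal R) [m.IsPrime]
    (hm : ∀ q ∈ I.minimalPrimes, q ≤ m) (hI : I ≠ ⊤) {q : Ideal R} (hq : q ∈ I.minimalPrimes) :
    q.height = I.height := by
  haveI := cm_localization m
  haveI := cm_quot_localized I m (hq.1.2.trans (hm q hq))
  have key : ∀ p ∈ I.minimalPrimes, p.height = q.height := fun p hp => by
    obtain ⟨h1, h1'⟩ := minimal_localized I hp m (hm p hp)
    obtain ⟨h2, h2'⟩ := minimal_localized I hq m (hm q hq)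
    have e1 := dim_add_height _ h1
    have e2 := dim_add_height _ h2
    rw [h1'] at e1
    rw [h2', ← e1] at e2
    obtain ⟨n, hn⟩ := SerreReg.exists_dim_nat (Localization.AtPrime m ⧸ I.map (algebraMap R (Localization.AtPrime m)))
    rw [hn] at e2
    have e3 : ((n : ℕ∞) + q.height) = (n : ℕ∞) + p.height := by exact_mod_cast e2
    exact ((ENat.add_right_injective_of_ne_top (ENat.coe_ne_top n)) e3).symm
  rw [I.height_eq_inf_minimalPrimes]
  refine le_antisymm (le_iInf₂ fun p hp => ?_) (iInf₂_le_of_le q hq ?_)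
  · exact (key p hp).ge
  · exact le_rfl

theorem dim_add (I : Ideal R) [LocCoh.IsCohenMacaulayRing (R ⧸ I)] {c : ℕ}
    (hc : ∀ q ∈ I.minimalPrimes, q.height = c) (P : Ideal R) [P.IsPrime] (hIP : I ≤ P) :
    ringKrullDim (Localization.AtPrime P ⧸ I.map (algebraMap R (Localization.AtPrime P))) + (c : WithBot ℕ∞) =
      ringKrullDim (Localization.AtPrime P) := by
  haveI := cm_localization P
  haveI := cm_quot_localized I P hIP
  obtain ⟨q, hq, hqP⟩ := Ideal.exists_minimalPrimes_le hIP
  obtain ⟨h1, h1'⟩ := minimal_localized I hq P hqP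
  have e := dim_add_height _ h1
  rw [h1', hc q hq] at e
  exact_mod_cast e

/-- A complete intersection is locally Gorenstein of the expected dimension. -/
theorem gorenstein_ci {c : ℕ} (g : Fin c → R) (hc : ((c : ℕ∞)) ≤ (Ideal.span (Set.range g)).height)
    (P : Ideal R) [P.IsPrime] (hP : Ideal.span (Set.range g) ≤ P) :
    LocCoh.IsGorensteinLocalRing (Localization.AtPrime P ⧸ (Ideal.span (Set.range g)).map (algebraMap R (Localization.AtPrime P))) ∧
    ringKrullDim (Localization.AtPrime P ⧸ (Ideal.span (Set.range g)).map (algebraMap R (Localization.AtPrime P))) + (c : WithBot ℕ∞) =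
      ringKrullDim (Localization.AtPrime P) := by
  set T := Localization.AtPrime P
  set C := Ideal.span (Set.range g)
  haveI := cm_localization P
  haveI := LocCoh.IsGorensteinRing.isGorensteinLocalRing_localization (A := R) P
  set rs := List.ofFn fun i => algebraMap R T (g i) with hrs
  have hC : C.map (algebraMap R T) = Ideal.ofList rs := by
    rw [CMFlat.ofList_ofFn, Ideal.map_span, ← Set.range_comp]; rfl
  have hm : ∀ r ∈ rs, r ∈ maximalIdeal T := fun r hr => by
    obtain ⟨i, rfl⟩ := List.mem_ofFn.1 hr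
    rw [← Localization.AtPrime.map_eq_maximalIdeal]
    exact Ideal.mem_map_of_mem _ (hP (Ideal.subset_span ⟨i, rfl⟩))
  have hne : Ideal.ofList rs ≠ ⊤ := ne_top_of_le_ne_top (maximalIdeal.isMaximal _).ne_top (Ideal.span_le.2 hm)
  haveI := nontrivial_quot_list hm
  haveI : IsLocalRing (T ⧸ Ideal.ofList rs) := .of_surjective' _ Ideal.Quotient.mk_surjective
  have hlen : rs.length = c := List.length_ofFn
  have hle : ringKrullDim (T ⧸ Ideal.ofList rs) + (c : WithBot ℕ∞) ≤ ringKrullDim T := by
    obtain ⟨p, hp, hdp⟩ := CIBertini.exists_minimalPrime_dim _ hne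
    haveI := hp.isPrime
    rw [← hC, IsLocalization.minimalPrimes_map P.primeCompl] at hp
    have hpc : ((c : ℕ∞)) ≤ p.height := by
      rw [← IsLocalization.height_under P.primeCompl p]
      refine hc.trans (Ideal.height_mono ?_)
      exact (Set.mem_preimage.1 hp).1.2
    refine le_trans (add_le_add hdp ?_) (Catenary.height_add_dim p).le
    exact_mod_cast hpc
  have hge : ringKrullDim T ≤ ringKrullDim (T ⧸ Ideal.ofList rs) + (c : WithBot ℕ∞) := by
    classical
    have h1 := ringKrullDim_le_ringKrullDim_quotient_add_card (R := T) rs.toFinset (fun r hr => by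
      rw [Ring.jacobson_eq_sInf_isMaximal]
      refine Submodule.mem_sInf.2 fun M hM => ?_
      rw [IsLocalRing.eq_maximalIdeal hM]
      exact hm r (List.mem_toFinset.1 hr))
    rw [show Ideal.span ((rs.toFinset : Finset T) : Set T) = Ideal.ofList rs by
      rw [List.coe_toFinset]] at h1
    exact h1.trans (by gcongr; exact_mod_cast (List.toFinset_card_le rs).trans hlen.le)
  have hdim := le_antisymm hle hge
  have hw : IsWeaklyRegular T rs := by
    refine FlatLift.isWeaklyRegular_of_dim_cm rs hne ?_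
    rw [hlen, add_comm]
    exact hdim
  rw [hC]
  exact ⟨(gorenstein_iff_quot_list _ T rs rfl hw hm).1 inferInstance, hdim⟩

theorem map_colon_singleton (C : Ideal R) (f : R) (P : Ideal R) [P.IsPrime] :
    (C.colon ({f} : Set R)).map (algebraMap R (Localization.AtPrime P)) =
      (C.map (algebraMap R (Localization.AtPrime P))).colon ({algebraMap R _ f} : Set (Localization.AtPrime P)) := by
  refine le_antisymm (Ideal.map_le_iff_le_comap.2 fun x hx => ?_) fun y hy => ?_
  · rw [Ideal.mem_comap, Submodule.mem_colon_singleton, smul_eq_mul, ← map_mul]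
    rw [Submodule.mem_colon_singleton, smul_eq_mul] at hx
    exact Ideal.mem_map_of_mem _ hx
  · obtain ⟨⟨x, s⟩, rfl⟩ := IsLocalization.mk'_surjective P.primeCompl y
    rw [Submodule.mem_colon_singleton, smul_eq_mul] at hy
    have hy' := Ideal.mul_mem_left _ (algebraMap R (Localization.AtPrime P) s) hy
    rw [← mul_assoc, IsLocalization.mk'_spec', ← map_mul,
      IsLocalization.algebraMap_mem_map_algebraMap_iff P.primeCompl] at hy'
    obtain ⟨u, hu, hux⟩ := hy'
    rw [IsLocalization.mk'_mem_map_algebraMap_iff P.primeCompl]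
    exact ⟨u, hu, by rw [Submodule.mem_colon_singleton, smul_eq_mul, mul_assoc]; exact hux⟩

theorem colon_sup_singleton (C : Ideal R) (f : R) :
    C.colon ((C ⊔ Ideal.span {f} : Ideal R) : Set R) = C.colon ({f} : Set R) := by
  ext x
  rw [Submodule.mem_colon_singleton, Submodule.mem_colon]
  refine ⟨fun h => h f (Ideal.mem_sup_right (Ideal.mem_span_singleton_self f)), fun h y hy => ?_⟩
  obtain ⟨a, ha, b, hb, rfl⟩ := Submodule.mem_sup.1 hy
  obtain ⟨r, rfl⟩ := Ideal.mem_span_singleton'.1 hb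
  rw [smul_eq_mul, mul_add, mul_left_comm]
  exact add_mem (C.mul_mem_left _ ha) (C.mul_mem_left _ h)

theorem quot_ann_local {T : Type u} [CommRing T] (CT : Ideal T) (f : T) :
    Nonempty ((T ⧸ CT) ⧸ Submodule.annihilator (Ideal.span {Ideal.Quotient.mk CT f}) ≃+*
      T ⧸ CT.colon ({f} : Set T)) := by
  have e : Submodule.annihilator (Ideal.span {Ideal.Quotient.mk CT f}) =
      (CT.colon ({f} : Set T)).map (Ideal.Quotient.mk CT) := by
    ext w
    obtain ⟨x, rfl⟩ := Ideal.Quotient.mk_surjective w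
    rw [Submodule.mem_annihilator_span_singleton, smul_eq_mul, ← map_mul, Ideal.Quotient.eq_zero_iff_mem,
      ← Ideal.mem_comap, Ideal.comap_map_of_surjective' _ Ideal.Quotient.mk_surjective, Ideal.mk_ker]
    rw [sup_eq_left.2 (fun y hy => by rw [Submodule.mem_colon_singleton, smul_eq_mul]; exact CT.mul_mem_right _ hy),
      Submodule.mem_colon_singleton, smul_eq_mul]
  exact ⟨(Ideal.quotEquivOfEq e).trans (DoubleQuot.quotQuotEquivQuotOfLE fun y hy => by
    rw [Submodule.mem_colon_singleton, smul_eq_mul]; exact CT.mul_mem_right _ hy)⟩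

/-- Linkage to an almost complete intersection, at a prime. -/
theorem link_aci {c : ℕ} (g : Fin c → R) (f : R) (hc : ((c : ℕ∞)) ≤ (Ideal.span (Set.range g)).height)
    [LocCoh.IsCohenMacaulayRing (R ⧸ (Ideal.span (Set.range g) ⊔ Ideal.span {f}))]
    (hI : ∀ q ∈ (Ideal.span (Set.range g) ⊔ Ideal.span {f}).minimalPrimes, q.height = c)
    (P : Ideal R) [P.IsPrime] (hP : (Ideal.span (Set.range g)).colon ({f} : Set R) ≤ P) :
    LocCoh.IsGorensteinLocalRing (Localization.AtPrime P ⧸
        ((Ideal.span (Set.range g)).colon ({f} : Set R)).map (algebraMap R (Localization.AtPrime P))) ∧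
      ringKrullDim (Localization.AtPrime P ⧸
        ((Ideal.span (Set.range g)).colon ({f} : Set R)).map (algebraMap R (Localization.AtPrime P))) + (c : WithBot ℕ∞) =
        ringKrullDim (Localization.AtPrime P) := by
  set C := Ideal.span (Set.range g)
  set T := Localization.AtPrime P
  have hCP : C ≤ P := le_trans (fun y hy => by
    rw [Submodule.mem_colon_singleton, smul_eq_mul]; exact C.mul_mem_right _ hy) hP
  obtain ⟨hG, hdA⟩ := gorenstein_ci g hc P hCP
  haveI := hG
  set CT := C.map (algebraMap R T)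
  set fT := Ideal.Quotient.mk CT (algebraMap R T f)
  have hJ := map_colon_singleton C f P
  have hne : CT.colon ({algebraMap R T f} : Set T) ≠ ⊤ := by
    rw [← hJ]
    refine ne_top_of_le_ne_top (maximalIdeal.isMaximal _).ne_top ?_
    rw [← Localization.AtPrime.map_eq_maximalIdeal]
    exact Ideal.map_mono hP
  have hf0 : fT ≠ 0 := fun h0 => hne (by
    rw [Ideal.eq_top_iff_one, Submodule.mem_colon_singleton, one_smul]
    exact Ideal.Quotient.eq_zero_iff_mem.1 h0)
  rw [hJ]
  obtain ⟨e⟩ := quot_ann_local CT (algebraMap R T f)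
  by_cases hfP : f ∈ P
  · have hIP : C ⊔ Ideal.span {f} ≤ P := sup_le hCP ((Ideal.span_singleton_le_iff_mem _).2 hfP)
    haveI := cm_quot_localized (C ⊔ Ideal.span {f}) P hIP
    have hmap : (C ⊔ Ideal.span {f}).map (algebraMap R T) = CT ⊔ Ideal.span {algebraMap R T f} := by
      rw [Ideal.map_sup, Ideal.map_span (algebraMap R T) ({f} : Set R), Set.image_singleton]
    let e' : (T ⧸ (C ⊔ Ideal.span {f}).map (algebraMap R T)) ≃+* (T ⧸ CT) ⧸ Ideal.span {fT} :=
      (Ideal.quotEquivOfEq hmap).trans ((DoubleQuot.quotQuotEquivQuotSup CT _).symm.trans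
        (Ideal.quotEquivOfEq (by rw [Ideal.map_span, Set.image_singleton])))
    haveI := CMChart.isCohenMacaulayLocalRing_of_ringEquiv e' inferInstance
    have hd := dim_add _ hI P hIP
    have hdd : ringKrullDim ((T ⧸ CT) ⧸ Ideal.span {fT}) = ringKrullDim (T ⧸ CT) := by
      rw [← ringKrullDim_eq_of_ringEquiv e']
      obtain ⟨a, ha⟩ := SerreReg.exists_dim_nat (T ⧸ (C ⊔ Ideal.span {f}).map (algebraMap R T))
      obtain ⟨b, hb⟩ := SerreReg.exists_dim_nat (T ⧸ CT)
      rw [ha, ← hdA, hb] at hd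
      rw [ha, hb]
      have : a + c = b + c := by exact_mod_cast hd
      rw [Nat.add_right_cancel this]
    obtain ⟨h1, h2⟩ := gorenstein_quot_ann fT hf0 hdd
    exact ⟨(gorenstein_equiv_iff e).1 h1, by rw [← ringKrullDim_eq_of_ringEquiv e, h2]; exact hdA⟩
  · have hu : IsUnit (algebraMap R T f) := IsLocalization.map_units (M := P.primeCompl) T ⟨f, hfP⟩
    have hcol : CT.colon ({algebraMap R T f} : Set T) = CT := by
      ext x
      rw [Submodule.mem_colon_singleton, smul_eq_mul, CT.mul_unit_mem_iff_mem hu]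
    rw [hcol]
    exact ⟨hG, hdA⟩

theorem isGorensteinRing_quot_of_local (J : Ideal R)
    (h : ∀ (P : Ideal R) [P.IsPrime], J ≤ P →
      LocCoh.IsGorensteinLocalRing (Localization.AtPrime P ⧸ J.map (algebraMap R (Localization.AtPrime P)))) :
    LocCoh.IsGorensteinRing (R ⧸ J) := by
  refine { isGorensteinLocalRing_localization := fun P _ => ?_ }
  obtain ⟨e⟩ := quot_localization R J P
  refine (gorenstein_equiv_iff e).1 (h _ fun x hx => ?_)
  rw [Ideal.mem_comap, Ideal.Quotient.eq_zero_iff_mem.2 hx]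
  exact zero_mem _

theorem height_eq_of_dim (J : Ideal R) (hJ : J ≠ ⊤) {c : ℕ}
    (h : ∀ (P : Ideal R) [P.IsPrime], J ≤ P →
      ringKrullDim (Localization.AtPrime P ⧸ J.map (algebraMap R (Localization.AtPrime P))) + (c : WithBot ℕ∞) =
        ringKrullDim (Localization.AtPrime P)) : J.height = c := by
  have key : ∀ q ∈ J.minimalPrimes, q.height = c := fun q hq => by
    haveI := hq.isPrime
    set T := Localization.AtPrime q
    have hle : J.map (algebraMap R T) ≤ maximalIdeal T := by
      rw [← Localization.AtPrime.map_eq_maximalIdeal]; exact Ideal.map_mono hq.1.2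
    have hmin : maximalIdeal T ∈ (J.map (algebraMap R T)).minimalPrimes := by
      rw [← Localization.AtPrime.map_eq_maximalIdeal]
      exact (minimal_localized J hq q le_rfl).1
    haveI : Nontrivial (T ⧸ J.map (algebraMap R T)) :=
      Ideal.Quotient.nontrivial_iff.2 (ne_top_of_le_ne_top (maximalIdeal.isMaximal _).ne_top hle)
    haveI : Ring.KrullDimLE 0 (T ⧸ J.map (algebraMap R T)) := .mk₀ fun p hp => by
      haveI : IsLocalRing (T ⧸ J.map (algebraMap R T)) := .of_surjective' _ Ideal.Quotient.mk_surjective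
      have h1 : p.comap (Ideal.Quotient.mk _) = maximalIdeal T := le_antisymm
        (IsLocalRing.le_maximalIdeal (hp.comap _).ne_top) (hmin.2 ⟨hp.comap _, fun x hx => by
          rw [Ideal.mem_comap, Ideal.Quotient.eq_zero_iff_mem.2 hx]; exact zero_mem _⟩
          (IsLocalRing.le_maximalIdeal (hp.comap _).ne_top))
      have h2 : p = maximalIdeal (T ⧸ J.map (algebraMap R T)) := le_antisymm (IsLocalRing.le_maximalIdeal hp.ne_top)
        fun w hw => by
          obtain ⟨b, rfl⟩ := Ideal.Quotient.mk_surjective w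
          rw [← Ideal.mem_comap, h1]
          exact fun hu => hw (hu.map _)
      exact h2 ▸ maximalIdeal.isMaximal _
    have h0 : ringKrullDim (T ⧸ J.map (algebraMap R T)) = 0 :=
      (ringKrullDimZero_iff_ringKrullDim_eq_zero).1 inferInstance
    have h3 := h q hq.1.2
    rw [h0, zero_add, IsLocalization.AtPrime.ringKrullDim_eq_height q T] at h3
    exact_mod_cast h3.symm
  rw [Ideal.height_eq_inf_minimalPrimes]
  obtain ⟨q, hq⟩ := Ideal.nonempty_minimalPrimes (I := J) hJ
  exact le_antisymm (iInf₂_le_of_le q hq (key q hq).le) (le_iInf₂ fun p hp => (key p hp).ge)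

/-- Geometric linkage, at a prime. -/
theorem link_geom {c : ℕ} (I₁ I₂ : Ideal R) [LocCoh.IsCohenMacaulayRing (R ⧸ I₁)]
    [LocCoh.IsCohenMacaulayRing (R ⧸ I₂)] [LocCoh.IsGorensteinRing (R ⧸ (I₁ ⊓ I₂))]
    (h₁ : ∀ q ∈ I₁.minimalPrimes, q.height = c) (h₂ : ∀ q ∈ I₂.minimalPrimes, q.height = c)
    (hdisj : Disjoint I₁.minimalPrimes I₂.minimalPrimes)
    (P : Ideal R) [P.IsPrime] (hP : I₁ ⊔ I₂ ≤ P) :
    LocCoh.IsGorensteinLocalRing (Localization.AtPrime P ⧸ (I₁ ⊔ I₂).map (algebraMap R (Localization.AtPrime P))) ∧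
      ringKrullDim (Localization.AtPrime P ⧸ (I₁ ⊔ I₂).map (algebraMap R (Localization.AtPrime P))) + ((c + 1 : ℕ) : WithBot ℕ∞) =
        ringKrullDim (Localization.AtPrime P) := by
  set T := Localization.AtPrime P
  have hP0 : I₁ ⊓ I₂ ≤ P := inf_le_left.trans (le_sup_left.trans hP)
  set N := (I₁ ⊓ I₂).map (algebraMap R T) with hN
  haveI hG : LocCoh.IsGorensteinLocalRing (T ⧸ N) := by
    have hker : RingHom.ker (Ideal.Quotient.mk (I₁ ⊓ I₂)) ≤ P := by rwa [Ideal.mk_ker]
    haveI : (P.map (Ideal.Quotient.mk (I₁ ⊓ I₂))).IsPrime :=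
      Ideal.map_isPrime_of_surjective Ideal.Quotient.mk_surjective hker
    have hP' : (P.map (Ideal.Quotient.mk (I₁ ⊓ I₂))).comap (Ideal.Quotient.mk (I₁ ⊓ I₂)) = P := by
      rw [Ideal.comap_map_of_surjective' _ Ideal.Quotient.mk_surjective, sup_eq_left.2 hker]
    obtain ⟨e⟩ := quot_localization R (I₁ ⊓ I₂) (P.map (Ideal.Quotient.mk (I₁ ⊓ I₂)))
    have h := (gorenstein_equiv_iff e).2 (LocCoh.IsGorensteinRing.isGorensteinLocalRing_localization _)
    revert h
    rw! [hP']
    exact id
  haveI := cm_quot_localized I₁ P (le_sup_left.trans hP)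
  haveI := cm_quot_localized I₂ P (le_sup_right.trans hP)
  set K₁ := I₁.map (algebraMap R T)
  set K₂ := I₂.map (algebraMap R T)
  have hK : N = K₁ ⊓ K₂ := IsLocalization.map_inf P.primeCompl T I₁ I₂
  have h1le : N ≤ K₁ := hK.le.trans inf_le_left
  have h2le : N ≤ K₂ := hK.le.trans inf_le_right
  set I := K₁.map (Ideal.Quotient.mk N) with hIdef
  set J := K₂.map (Ideal.Quotient.mk N) with hJdef
  let eI : ((T ⧸ N) ⧸ I) ≃+* T ⧸ K₁ := DoubleQuot.quotQuotEquivQuotOfLE h1le
  let eJ : ((T ⧸ N) ⧸ J) ≃+* T ⧸ K₂ := DoubleQuot.quotQuotEquivQuotOfLE h2le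
  haveI := CMChart.isCohenMacaulayLocalRing_of_ringEquiv eI.symm inferInstance
  haveI := CMChart.isCohenMacaulayLocalRing_of_ringEquiv eJ.symm inferInstance
  have cI : ∀ {K : Ideal T}, N ≤ K → (K.map (Ideal.Quotient.mk N)).comap (Ideal.Quotient.mk N) = K := fun {K} h => by
    rw [Ideal.comap_map_of_surjective' _ Ideal.Quotient.mk_surjective, Ideal.mk_ker, sup_eq_left.2 h]
  have hIJ : I ⊓ J = ⊥ := by
    refine eq_bot_iff.2 fun w hw => ?_
    obtain ⟨x, rfl⟩ := Ideal.Quotient.mk_surjective w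
    rw [Submodule.mem_bot, Ideal.Quotient.eq_zero_iff_mem, hK]
    exact ⟨(cI h1le).le hw.1, (cI h2le).le hw.2⟩
  obtain ⟨a, ha⟩ := SerreReg.exists_dim_nat (T ⧸ K₁)
  obtain ⟨b, hb⟩ := SerreReg.exists_dim_nat (T ⧸ K₂)
  obtain ⟨d, hd⟩ := SerreReg.exists_dim_nat (T ⧸ N)
  have hd₁ := dim_add I₁ h₁ P (le_sup_left.trans hP)
  have hd₂ := dim_add I₂ h₂ P (le_sup_right.trans hP)
  rw [ha] at hd₁
  rw [hb, ← hd₁] at hd₂
  have hab : a = b := by
    have : b + c = a + c := by exact_mod_cast hd₂
    omega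
  haveI := isCohenMacaulay (T ⧸ N)
  have hda : d = a := by
    refine le_antisymm ?_ ?_
    · obtain ⟨q, hq⟩ := Ideal.nonempty_minimalPrimes (I := (⊥ : Ideal (T ⧸ N))) bot_ne_top
      haveI := hq.isPrime
      haveI : LocCoh.IsCohenMacaulayLocalRing ((T ⧸ N) ⧸ (⊥ : Ideal (T ⧸ N))) :=
        CMChart.isCohenMacaulayLocalRing_of_ringEquiv (RingEquiv.quotientBot (T ⧸ N)).symm inferInstance
      have hqd := dim_minimal _ hq
      rw [ringKrullDim_eq_of_ringEquiv (RingEquiv.quotientBot (T ⧸ N)), hd] at hqd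
      rcases (Ideal.IsPrime.mul_le ‹q.IsPrime›).1 ((Ideal.mul_le_inf.trans hIJ.le).trans bot_le) with h | h
      · have := hqd.ge.trans (ringKrullDim_le_of_surjective (Ideal.Quotient.factor h) (Ideal.Quotient.factor_surjective h))
        rw [ringKrullDim_eq_of_ringEquiv eI, ha] at this
        exact_mod_cast this
      · have := hqd.ge.trans (ringKrullDim_le_of_surjective (Ideal.Quotient.factor h) (Ideal.Quotient.factor_surjective h))
        rw [ringKrullDim_eq_of_ringEquiv eJ, hb, ← hab] at this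
        exact_mod_cast this
    · have := ringKrullDim_le_of_surjective (Ideal.Quotient.mk I) Ideal.Quotient.mk_surjective
      rw [ringKrullDim_eq_of_ringEquiv eI, ha, hd] at this
      exact_mod_cast this
  have hLeq : I ⊔ J = (K₁ ⊔ K₂).map (Ideal.Quotient.mk N) := (Ideal.map_sup _ _ _).symm
  have hLm : K₁ ⊔ K₂ ≤ maximalIdeal T := by
    rw [← Localization.AtPrime.map_eq_maximalIdeal]
    exact sup_le (Ideal.map_mono (le_sup_left.trans hP)) (Ideal.map_mono (le_sup_right.trans hP))
  have hL : I ⊔ J ≠ ⊤ := by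
    intro htop
    rw [hLeq] at htop
    have h5 : (⊤ : Ideal T) ≤ K₁ ⊔ K₂ := by
      rw [← cI (h1le.trans le_sup_left), htop, Ideal.comap_top]
    exact (maximalIdeal.isMaximal T).ne_top (top_le_iff.1 (h5.trans hLm))
  obtain ⟨s, hsL, hs⟩ : ∃ s ∈ I ⊔ J, ∀ q ∈ associatedPrimes (T ⧸ N) (T ⧸ N), s ∉ q := by
    by_contra hc
    push Not at hc
    obtain ⟨q, hq, hle⟩ := (Ideal.subset_union_prime_finite (associatedPrimes.finite (T ⧸ N) (T ⧸ N)) ⊤ ⊤
      (fun q hq _ _ => (AssociatedPrimes.mem_iff.1 hq).isPrime)).1 (fun x hx => by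
        obtain ⟨q, hq, hxq⟩ := hc x hx
        exact Set.mem_biUnion hq hxq)
    have hqmin := CMFlat.associatedPrimes_subset_minimalPrimes _ hq
    haveI : q.IsPrime := hqmin.1.1
    set Q := (q.comap (Ideal.Quotient.mk N)).comap (algebraMap R T)
    haveI : Q.IsPrime := inferInstance
    have hQmin : Q ∈ (I₁ ⊓ I₂).minimalPrimes := by
      have h4 : q.comap (Ideal.Quotient.mk N) ∈ N.minimalPrimes := by
        refine ⟨⟨inferInstance, fun x hx => ?_⟩, fun r hr hrq => ?_⟩
        · rw [Ideal.mem_comap, Ideal.Quotient.eq_zero_iff_mem.2 hx]; exact zero_mem _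
        · haveI := hr.1
          haveI : (r.map (Ideal.Quotient.mk N)).IsPrime :=
            Ideal.map_isPrime_of_surjective Ideal.Quotient.mk_surjective (by rw [Ideal.mk_ker]; exact hr.2)
          have h5 := hqmin.2 ⟨‹(r.map (Ideal.Quotient.mk N)).IsPrime›, bot_le⟩ (Ideal.map_le_iff_le_comap.2 hrq)
          exact (Ideal.comap_mono h5).trans (cI hr.2).le
      exact (IsLocalization.minimalPrimes_map P.primeCompl T (I₁ ⊓ I₂)).le h4
    have hQ : ∀ {Ki : Ideal R}, (Ki.map (algebraMap R T)).map (Ideal.Quotient.mk N) ≤ q → Ki ≤ Q := fun {Ki} h x hx =>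
      h (Ideal.mem_map_of_mem _ (Ideal.mem_map_of_mem _ hx))
    suffices h : Q ∈ I₁.minimalPrimes ∧ Q ∈ I₂.minimalPrimes from (Set.disjoint_left.1 hdisj) h.1 h.2
    constructor
    · exact ⟨⟨inferInstance, hQ (le_sup_left.trans hle)⟩, fun r hr hrQ => hQmin.2 ⟨hr.1, inf_le_left.trans hr.2⟩ hrQ⟩
    · exact ⟨⟨inferInstance, hQ (le_sup_right.trans hle)⟩, fun r hr hrQ => hQmin.2 ⟨hr.1, inf_le_right.trans hr.2⟩ hrQ⟩
  obtain ⟨hG', hdim⟩ := gorenstein_quot_sup I J hIJ (by rw [ringKrullDim_eq_of_ringEquiv eI, ha, hd, hda])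
    (by rw [ringKrullDim_eq_of_ringEquiv eJ, hb, hd, hda, hab]) hL hsL (CMSop.isSMulRegular_of_forall hs)
  let eL : ((T ⧸ N) ⧸ (I ⊔ J)) ≃+* T ⧸ (I₁ ⊔ I₂).map (algebraMap R T) :=
    (Ideal.quotEquivOfEq hLeq).trans ((DoubleQuot.quotQuotEquivQuotOfLE (h1le.trans le_sup_left)).trans
      (Ideal.quotEquivOfEq (Ideal.map_sup _ _ _).symm))
  refine ⟨(gorenstein_equiv_iff eL).1 hG', ?_⟩
  rw [← ringKrullDim_eq_of_ringEquiv eL, ← hd₁, Nat.cast_succ, add_comm (c : WithBot ℕ∞) 1, ← add_assoc, hdim, hd, hda]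

end Poly

section Graded

variable {K : Type u} [Field K] {σ : Type*}

theorem minimal_le_irrelevant (I : Ideal (MvPolynomial σ K)) (hI : I.IsHomogeneous (GrSyz.stdGr K σ))
    {q : Ideal (MvPolynomial σ K)} (hq : q ∈ I.minimalPrimes) :
    q ≤ RingHom.ker (MvPolynomial.constantCoeff : MvPolynomial σ K →+* K) := by
  haveI := hq.isPrime
  have hcore : (q.homogeneousCore (GrSyz.stdGr K σ)).toIdeal = q := le_antisymm (Ideal.toIdeal_homogeneousCore_le _ q)
    (hq.2 ⟨Ideal.IsPrime.homogeneousCore ‹q.IsPrime›,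
      hI.toIdeal_homogeneousCore_eq_self.symm.trans_le (Ideal.homogeneousCore_mono _ hq.1.2)⟩
      (Ideal.toIdeal_homogeneousCore_le _ q))
  have hhom : q.IsHomogeneous (GrSyz.stdGr K σ) := hcore ▸ HomogeneousIdeal.isHomogeneous _
  intro x hx
  rw [RingHom.mem_ker]
  by_contra hne
  have h0 := hhom 0 hx
  classical
  set y : MvPolynomial σ K := (DirectSum.decompose (GrSyz.stdGr K σ) x 0 : MvPolynomial σ K) with hy
  have hy' : y = MvPolynomial.weightedHomogeneousComponent (fun _ : σ => (1 : ℤ)) 0 x :=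
    MvPolynomial.decompose'_apply K _ x 0
  have hyC : y = MvPolynomial.C (MvPolynomial.constantCoeff x) := by
    rw [hy']
    refine MvPolynomial.ext _ _ fun d => ?_
    rw [MvPolynomial.coeff_weightedHomogeneousComponent, MvPolynomial.coeff_C]
    have hw : Finsupp.weight (fun _ : σ => (1 : ℤ)) d = 0 ↔ 0 = d := by
      rw [Finsupp.weight_apply, Finsupp.sum]
      constructor
      · intro h
        symm
        ext i
        by_contra hi
        have h1 := (Finset.sum_eq_zero_iff_of_nonneg (fun j _ => by simp)).1 h i (Finsupp.mem_support_iff.2 hi)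
        simp at h1
        exact hi (by simpa using h1)
      · rintro rfl; simp
    simp only [hw]
    split_ifs with h
    · subst h; rfl
    · rfl
  rw [hyC] at h0
  exact hq.isPrime.ne_top (q.eq_top_of_isUnit_mem h0 ((isUnit_iff_ne_zero.2 hne).map MvPolynomial.C))

theorem height_minimal_homogeneous {n : ℕ} (I : Ideal (MvPolynomial (Fin n) K))
    (hI : I.IsHomogeneous (GrSyz.stdGr K (Fin n))) [LocCoh.IsCohenMacaulayRing (MvPolynomial (Fin n) K ⧸ I)]
    {c : ℕ} (hc : I.height = c) : ∀ q ∈ I.minimalPrimes, q.height = c := by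
  intro q hq
  haveI : LocCoh.IsGorensteinRing (MvPolynomial (Fin n) K) := isGorensteinRing_mvPolynomial_fin K
    (isGorensteinRing_of_regular K inferInstance) n
  haveI : (RingHom.ker (MvPolynomial.constantCoeff : MvPolynomial (Fin n) K →+* K)).IsPrime := RingHom.ker_isPrime _
  rw [← hc]
  exact height_minimal I _ (fun p hp => minimal_le_irrelevant I hI hp)
    (fun htop => by rw [htop, Ideal.minimalPrimes_top] at hq; exact hq) hq

end Graded

end Groth.Agent.Goren
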