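import Groth.Agent.Goren.MCMFlat

/-! Linkage in a Gorenstein local ring. -/

set_option autoImplicit false
set_option maxHeartbeats 1000000

universe u

open CategoryTheory IsLocalRing RingTheory.Sequence

noncomputable section

namespace Groth.Agent.Goren

variable {A : Type u} [CommRing A]

theorem isWeaklyRegular_quot_mk (K : Ideal A) (rs : List A) :
    IsWeaklyRegular (A ⧸ K) (rs.map (Ideal.Quotient.mk K)) ↔ IsWeaklyRegular (A ⧸ K) rs :=
  isWeaklyRegular_map_algebraMap_iff (S := A ⧸ K) (A ⧸ K) rs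

theorem regular_step {K : Ideal A} {rs : List A} (h : IsWeaklyRegular (A ⧸ K) rs) (i : ℕ) (hi : i < rs.length) :
    IsSMulRegular (A ⧸ (K ⊔ Ideal.ofList (rs.take i))) rs[i] := by
  have h1 := (isWeaklyRegular_iff _ _).1 h i hi
  rw [regular_quot_iff_mem]
  intro a ha
  have key : ∀ b : A, Submodule.Quotient.mk (p := K) b ∈ (Ideal.ofList (rs.take i) • ⊤ : Submodule A (A ⧸ K)) ↔
      b ∈ K ⊔ Ideal.ofList (rs.take i) := by
    intro b
    have e : (Ideal.ofList (rs.take i) • ⊤ : Submodule A (A ⧸ K)) =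
        Submodule.map K.mkQ (Ideal.ofList (rs.take i) : Submodule A A) := by
      rw [← Submodule.range_mkQ K, ← Submodule.map_top, ← Submodule.map_smul'', smul_eq_mul, Ideal.mul_top]
    rw [e, ← Submodule.comap_map_mkQ]
    rfl
  rw [← key] at ha ⊢
  exact (Submodule.Quotient.mk_eq_zero _).1 (isSMulRegular_iff_right_eq_zero_of_smul.1 h1 _
    ((Submodule.Quotient.mk_eq_zero _).2 ha))

/-- A quotient embedded in a Gorenstein Artinian reduction is Gorenstein. -/
theorem gorenstein_quot_of_embed [LocCoh.IsGorensteinLocalRing A] (N : Ideal A) (hN : N ≠ ⊤) (rsA rs : List A)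
    (hw : IsWeaklyRegular A rsA) (hm : ∀ r ∈ rsA, r ∈ maximalIdeal A)
    (hd : ringKrullDim A = rsA.length) (hm' : ∀ r ∈ rs, r ∈ maximalIdeal A)
    (hNw : IsWeaklyRegular (A ⧸ N) rs) (hle : maximalIdeal A ≤ (N ⊔ Ideal.ofList rs).radical) (a : A)
    (hker : ∀ w, w * a ∈ Ideal.ofList rsA ↔ w ∈ N ⊔ Ideal.ofList rs) :
    LocCoh.IsGorensteinLocalRing (A ⧸ N) ∧ ringKrullDim (A ⧸ N) = rs.length := by
  haveI : Nontrivial (A ⧸ N) := Ideal.Quotient.nontrivial_iff.2 hN
  haveI : IsLocalRing (A ⧸ N) := .of_surjective' (Ideal.Quotient.mk N) Ideal.Quotient.mk_surjective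
  set rsN := rs.map (Ideal.Quotient.mk N) with hrsN
  have hmN : ∀ r ∈ rsN, r ∈ maximalIdeal (A ⧸ N) := fun r hr => by
    obtain ⟨s, hs, rfl⟩ := List.mem_map.1 hr
    haveI : IsLocalHom (Ideal.Quotient.mk N) := IsLocalHom.of_surjective _ Ideal.Quotient.mk_surjective
    exact (map_mem_nonunits_iff (Ideal.Quotient.mk N) s).2 (hm' s hs)
  have hwN : IsWeaklyRegular (A ⧸ N) rsN := (isWeaklyRegular_quot_mk N rs).2 hNw
  haveI := nontrivial_quot_list hmN
  haveI : IsLocalRing ((A ⧸ N) ⧸ Ideal.ofList rsN) := .of_surjective' _ Ideal.Quotient.mk_surjective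
  set K := N ⊔ Ideal.ofList rs
  let π : A →+* (A ⧸ N) ⧸ Ideal.ofList rsN := (Ideal.Quotient.mk _).comp (Ideal.Quotient.mk N)
  have hπ : Function.Surjective π := Ideal.Quotient.mk_surjective.comp Ideal.Quotient.mk_surjective
  have hπK : ∀ w, π w = 0 ↔ w ∈ K := fun w => by
    show Ideal.Quotient.mk _ (Ideal.Quotient.mk N w) = 0 ↔ _
    rw [Ideal.Quotient.eq_zero_iff_mem, hrsN, ← Ideal.map_ofList, ← Ideal.mem_comap,
      Ideal.comap_map_of_surjective' _ Ideal.Quotient.mk_surjective, Ideal.mk_ker, sup_comm]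
  have hd0 : ringKrullDim ((A ⧸ N) ⧸ Ideal.ofList rsN) = 0 := by
    haveI : Ring.KrullDimLE 0 ((A ⧸ N) ⧸ Ideal.ofList rsN) := .mk₀ fun q hq => by
      have hle' : maximalIdeal ((A ⧸ N) ⧸ Ideal.ofList rsN) ≤ q := fun w hw => by
        obtain ⟨b, rfl⟩ := hπ w
        have hb : b ∈ maximalIdeal A := fun hu => hw (hu.map π)
        obtain ⟨k, hk⟩ := hle hb
        exact hq.mem_of_pow_mem k (by rw [← map_pow, (hπK _).2 hk]; exact q.zero_mem)
      exact (maximalIdeal.isMaximal _).eq_of_le hq.ne_top hle' ▸ maximalIdeal.isMaximal _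
    exact (ringKrullDimZero_iff_ringKrullDim_eq_zero).1 inferInstance
  have hdim : ringKrullDim (A ⧸ N) = rs.length := by
    rw [← dim_quot_list _ (A ⧸ N) rsN rfl hwN hmN, hd0, zero_add, hrsN, List.length_map]
  refine ⟨?_, hdim⟩
  rw [gorenstein_iff_socSimple_quot (A ⧸ N) rsN hwN hmN hd0]
  haveI := nontrivial_quot_list hm
  haveI : IsLocalRing (A ⧸ Ideal.ofList rsA) := .of_surjective' _ Ideal.Quotient.mk_surjective
  obtain ⟨σ, -, hσm, hσ⟩ := (gorenstein_iff_socSimple_quot A rsA hw hm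
    (dim_quot_zero hw hm hd)).1 inferInstance
  obtain ⟨t₀, ht₀, ht₀'⟩ := exists_socle hd0
  refine ⟨t₀, ht₀, ht₀', fun t ht => ?_⟩
  have lift : ∀ v : A, (∀ x ∈ maximalIdeal ((A ⧸ N) ⧸ Ideal.ofList rsN), x * π v = 0) →
      Ideal.Quotient.mk (Ideal.ofList rsA) (v * a) ∈ Ideal.span {σ} := fun v hv => hσ _ fun y hy => by
    obtain ⟨x, rfl⟩ := Ideal.Quotient.mk_surjective y
    have hx : x ∈ maximalIdeal A := fun hu => hy (hu.map _)
    rw [← map_mul, Ideal.Quotient.eq_zero_iff_mem, ← mul_assoc, hker, ← hπK, map_mul]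
    refine hv _ ?_
    haveI : IsLocalHom π := IsLocalHom.of_surjective _ hπ
    exact (map_mem_nonunits_iff π x).2 hx
  obtain ⟨v, rfl⟩ := hπ t
  obtain ⟨v₀, rfl⟩ := hπ t₀
  obtain ⟨c, hc⟩ := Ideal.mem_span_singleton'.1 (lift v ht)
  obtain ⟨c₀, hc₀⟩ := Ideal.mem_span_singleton'.1 (lift v₀ ht₀')
  obtain ⟨c, rfl⟩ := Ideal.Quotient.mk_surjective c
  obtain ⟨c₀, rfl⟩ := Ideal.Quotient.mk_surjective c₀
  have hu : IsUnit c₀ := by
    by_contra hn
    apply ht₀
    rw [hπK, ← hker, ← Ideal.Quotient.eq_zero_iff_mem, ← hc₀]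
    haveI : IsLocalHom (Ideal.Quotient.mk (Ideal.ofList rsA)) := IsLocalHom.of_surjective _ Ideal.Quotient.mk_surjective
    exact hσm _ ((map_mem_nonunits_iff (Ideal.Quotient.mk (Ideal.ofList rsA)) c₀).2 hn)
  refine Ideal.mem_span_singleton'.2 ⟨π (c * hu.unit⁻¹.1), ?_⟩
  rw [← map_mul, ← sub_eq_zero, ← map_sub, hπK, ← hker, ← Ideal.Quotient.eq_zero_iff_mem, sub_mul, map_sub,
    sub_eq_zero, mul_assoc, map_mul, ← hc₀, ← hc, map_mul, mul_assoc, ← mul_assoc (Ideal.Quotient.mk _ _) (Ideal.Quotient.mk _ c₀) σ,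
    ← map_mul, IsUnit.val_inv_mul, map_one, one_mul]

theorem le_radical_of_regSeq [IsLocalRing A] [IsNoetherianRing A] {rs : List A} (hw : IsWeaklyRegular A rs)
    (hm : ∀ r ∈ rs, r ∈ maximalIdeal A) (hd : ringKrullDim A = rs.length) :
    maximalIdeal A ≤ (Ideal.ofList rs).radical := by
  haveI := nontrivial_quot_list hm
  haveI : Ring.KrullDimLE 0 (A ⧸ Ideal.ofList rs) := ringKrullDimZero_iff_ringKrullDim_eq_zero.2 (dim_quot_zero hw hm hd)
  rw [Ideal.radical_eq_sInf]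
  refine le_sInf fun q ⟨hq, hqp⟩ => ?_
  haveI := hqp
  haveI : (q.map (Ideal.Quotient.mk (Ideal.ofList rs))).IsPrime :=
    Ideal.map_isPrime_of_surjective Ideal.Quotient.mk_surjective (by rwa [Ideal.mk_ker])
  have h1 : (q.map (Ideal.Quotient.mk (Ideal.ofList rs))).IsMaximal := Ideal.isMaximal_of_isPrime _
  have h2 := Ideal.comap_isMaximal_of_surjective (Ideal.Quotient.mk (Ideal.ofList rs)) Ideal.Quotient.mk_surjective
    (K := q.map (Ideal.Quotient.mk (Ideal.ofList rs)))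
  rw [Ideal.comap_map_of_surjective' _ Ideal.Quotient.mk_surjective, Ideal.mk_ker, sup_eq_left.2 hq] at h2
  exact (IsLocalRing.eq_maximalIdeal h2).ge

theorem isWeaklyRegular_mcm [LocCoh.IsGorensteinLocalRing A] (I : Ideal A)
    (hI : ringKrullDim (A ⧸ I) = ringKrullDim A) [LocCoh.IsCohenMacaulayLocalRing (A ⧸ I)] {rs : List A}
    (hw : IsWeaklyRegular A rs) (hm : ∀ r ∈ rs, r ∈ maximalIdeal A) (hd : ringKrullDim A = rs.length) :
    IsWeaklyRegular (A ⧸ I) rs := by
  rw [← isWeaklyRegular_quot_mk]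
  set rsI := rs.map (Ideal.Quotient.mk I)
  have hmI : ∀ r ∈ rsI, r ∈ maximalIdeal (A ⧸ I) := fun r hr => by
    obtain ⟨s, hs, rfl⟩ := List.mem_map.1 hr
    haveI : IsLocalHom (Ideal.Quotient.mk I) := IsLocalHom.of_surjective _ Ideal.Quotient.mk_surjective
    exact (map_mem_nonunits_iff (Ideal.Quotient.mk I) s).2 (hm s hs)
  refine FlatLift.isWeaklyRegular_of_dim_cm rsI
    (ne_top_of_le_ne_top (maximalIdeal.isMaximal _).ne_top (Ideal.span_le.2 hmI)) ?_
  haveI := nontrivial_quot_list hmI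
  have h0 : ringKrullDim ((A ⧸ I) ⧸ Ideal.ofList rsI) = 0 := by
    refine le_antisymm ?_ ringKrullDim_nonneg_of_nontrivial
    rw [← dim_quot_zero hw hm hd]
    refine ringKrullDim_le_of_surjective (Ideal.Quotient.lift (Ideal.ofList rs)
      ((Ideal.Quotient.mk (Ideal.ofList rsI)).comp (Ideal.Quotient.mk I)) ?_) ?_
    · intro x hx
      exact Ideal.Quotient.eq_zero_iff_mem.2 (by rw [← Ideal.map_ofList]; exact Ideal.mem_map_of_mem _ hx)
    · exact Ideal.Quotient.lift_surjective_of_surjective _ _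
        (Ideal.Quotient.mk_surjective.comp Ideal.Quotient.mk_surjective)
  rw [h0, add_zero, hI, hd, List.length_map]

/-- The ideal linked to a Cohen–Macaulay almost complete intersection is Gorenstein. -/
theorem gorenstein_quot_ann [LocCoh.IsGorensteinLocalRing A] (f : A) (hf : f ≠ 0)
    (hdim : ringKrullDim (A ⧸ Ideal.span {f}) = ringKrullDim A)
    [LocCoh.IsCohenMacaulayLocalRing (A ⧸ Ideal.span {f})] :
    LocCoh.IsGorensteinLocalRing (A ⧸ Submodule.annihilator (Ideal.span {f})) ∧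
      ringKrullDim (A ⧸ Submodule.annihilator (Ideal.span {f})) = ringKrullDim A := by
  haveI := isCohenMacaulay A
  obtain ⟨rs, hw, hm, hd⟩ := exists_regSeq A
  have h := ext_quot_eq_zero (Ideal.span {f}) hdim
  have hker : ∀ w, w * f ∈ Ideal.ofList rs ↔ w ∈ Submodule.annihilator (Ideal.span {f}) ⊔ Ideal.ofList rs := by
    intro w
    rw [← (colon_regular h rs hw).1, Submodule.mem_colon]
    refine ⟨fun h1 y hy => ?_, fun h1 => h1 f (Ideal.mem_span_singleton_self f)⟩
    obtain ⟨r, rfl⟩ := Ideal.mem_span_singleton'.1 hy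
    rw [smul_eq_mul, mul_left_comm]
    exact Ideal.mul_mem_left _ _ h1
  rw [hd]
  refine gorenstein_quot_of_embed _ (fun htop => hf ?_) rs rs hw hm hd hm ?_
    ((le_radical_of_regSeq hw hm hd).trans (Ideal.radical_mono le_sup_right)) f hker
  · have := Submodule.mem_annihilator.1 ((Ideal.eq_top_iff_one _).1 htop) f (Ideal.mem_span_singleton_self f)
    rwa [one_smul] at this
  · refine isWeaklyRegular_quot _ _ fun i hi => ?_
    refine regular_ann_sup h ?_ ?_
    · have := hw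
      rw [← List.take_append_drop i rs, isWeaklyRegular_append_iff] at this
      exact this.1
    · exact (regular_quot_iff _ _).1 (((isWeaklyRegular_iff _ _).1 hw) i hi)

section Geometric

variable {I J K : Ideal A} {s a b : A}

theorem link_ker (hIJ : I ⊓ J = ⊥) (hK : (I ⊔ K) ⊓ (J ⊔ K) = K) (ha : a ∈ I) (hb : b ∈ J) (hab : a + b = s)
    (hsI : IsSMulRegular (A ⧸ (I ⊔ K)) s) (hsJ : IsSMulRegular (A ⧸ (J ⊔ K)) s) (w : A) :
    w * a ∈ K ⊔ Ideal.span {s} ↔ w ∈ (I ⊔ J) ⊔ K := by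
  rw [regular_quot_iff_mem] at hsI hsJ
  have hz : ∀ x y, x ∈ I → y ∈ J → x * y = 0 := fun x y hx hy =>
    (Submodule.mem_bot A).1 (hIJ ▸ ⟨I.mul_mem_right y hx, J.mul_mem_left x hy⟩)
  constructor
  · intro hw
    obtain ⟨k, hk, q, hq, hkq⟩ := Submodule.mem_sup.1 hw
    obtain ⟨u, rfl⟩ := Ideal.mem_span_singleton'.1 hq
    have h1 : (w - u) * a ∈ K := by
      rw [← hK]
      refine ⟨Ideal.mem_sup_left (Ideal.mul_mem_left _ _ ha), ?_⟩
      rw [show (w - u) * a = k + u * b by rw [← hab] at hkq; linear_combination -hkq]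
      exact add_mem (Ideal.mem_sup_right hk) (Ideal.mem_sup_left (Ideal.mul_mem_left _ _ hb))
    have h2 : u * b ∈ K := by
      rw [show u * b = (w - u) * a - k by rw [← hab] at hkq; linear_combination hkq]
      exact sub_mem h1 hk
    have h3 : w - u ∈ J ⊔ K := hsJ _ (by
      rw [← hab, show (a + b) * (w - u) = (w - u) * a + (w - u) * b by ring]
      exact add_mem (Ideal.mem_sup_right h1) (Ideal.mem_sup_left (Ideal.mul_mem_left _ _ hb)))
    have h4 : u ∈ I ⊔ K := hsI _ (by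
      rw [← hab, show (a + b) * u = u * a + u * b by ring]
      exact add_mem (Ideal.mem_sup_left (Ideal.mul_mem_left _ _ ha)) (Ideal.mem_sup_right h2))
    rw [show w = (w - u) + u by ring]
    exact add_mem ((sup_le (le_sup_right.trans le_sup_left) le_sup_right : J ⊔ K ≤ (I ⊔ J) ⊔ K) h3)
      ((sup_le (le_sup_left.trans le_sup_left) le_sup_right : I ⊔ K ≤ (I ⊔ J) ⊔ K) h4)
  · intro hw
    obtain ⟨l, hl, k, hk, rfl⟩ := Submodule.mem_sup.1 hw
    obtain ⟨i, hi, j, hj, rfl⟩ := Submodule.mem_sup.1 hl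
    rw [show (i + j + k) * a = i * s + k * a by rw [← hab]; linear_combination hz a j ha hj - hz i b hi hb]
    exact add_mem (Ideal.mem_sup_right (Ideal.mul_mem_left _ _ (Ideal.mem_span_singleton_self s)))
      (Ideal.mem_sup_left (Ideal.mul_mem_right _ _ hk))

theorem link_regular {x : A} (hker : ∀ w, w * a ∈ K ⊔ Ideal.span {s} ↔ w ∈ (I ⊔ J) ⊔ K)
    (hx : IsSMulRegular (A ⧸ (K ⊔ Ideal.span {s})) x) : IsSMulRegular (A ⧸ ((I ⊔ J) ⊔ K)) x := by
  rw [regular_quot_iff_mem] at hx ⊢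
  intro w hw
  exact (hker w).1 (hx _ (by rw [← mul_assoc]; exact (hker _).2 hw))

theorem link_inter {x : A} (hK : (I ⊔ K) ⊓ (J ⊔ K) = K) (hx : IsSMulRegular (A ⧸ ((I ⊔ J) ⊔ K)) x) :
    (I ⊔ (K ⊔ Ideal.span {x})) ⊓ (J ⊔ (K ⊔ Ideal.span {x})) = K ⊔ Ideal.span {x} := by
  refine le_antisymm ?_ (le_inf le_sup_right le_sup_right)
  rintro z ⟨hzI, hzJ⟩
  obtain ⟨i, hi, q, hq, rfl⟩ := Submodule.mem_sup.1 hzI
  obtain ⟨k, hk, q', hq', rfl⟩ := Submodule.mem_sup.1 hq
  obtain ⟨u, rfl⟩ := Ideal.mem_span_singleton'.1 hq'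
  obtain ⟨j, hj, q, hq, hjq⟩ := Submodule.mem_sup.1 hzJ
  obtain ⟨k', hk', q', hq', rfl⟩ := Submodule.mem_sup.1 hq
  obtain ⟨v, rfl⟩ := Ideal.mem_span_singleton'.1 hq'
  have h1 : v - u ∈ (I ⊔ J) ⊔ K := (regular_quot_iff_mem _ x).1 hx _ (by
    rw [show x * (v - u) = (i - j) + (k - k') by linear_combination hjq]
    exact add_mem (Ideal.mem_sup_left (sub_mem (Ideal.mem_sup_left hi) (Ideal.mem_sup_right hj)))
      (Ideal.mem_sup_right (sub_mem hk hk')))
  obtain ⟨l, hl, k'', hk'', hlk⟩ := Submodule.mem_sup.1 h1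
  obtain ⟨i', hi', j', hj', rfl⟩ := Submodule.mem_sup.1 hl
  have h2 : i - x * i' ∈ K := by
    rw [← hK]
    refine ⟨Ideal.mem_sup_left (sub_mem hi (Ideal.mul_mem_left _ _ hi')), ?_⟩
    rw [show i - x * i' = (j + x * j') + (k' - k + x * k'') by linear_combination -hjq - x * hlk]
    exact add_mem (Ideal.mem_sup_left (add_mem hj (Ideal.mul_mem_left _ _ hj')))
      (Ideal.mem_sup_right (add_mem (sub_mem hk' hk) (Ideal.mul_mem_left _ _ hk'')))
  rw [show i + (k + u * x) = (i - x * i') + k + (u + i') * x by ring]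
  exact add_mem (Ideal.mem_sup_left (add_mem h2 hk))
    (Ideal.mem_sup_right (Ideal.mul_mem_left _ _ (Ideal.mem_span_singleton_self x)))

end Geometric

/-- The intersection of geometrically linked Cohen–Macaulay subschemes is Gorenstein. -/
theorem gorenstein_quot_sup [LocCoh.IsGorensteinLocalRing A] (I J : Ideal A) (hIJ : I ⊓ J = ⊥)
    (hI : ringKrullDim (A ⧸ I) = ringKrullDim A) (hJ : ringKrullDim (A ⧸ J) = ringKrullDim A)
    [LocCoh.IsCohenMacaulayLocalRing (A ⧸ I)] [LocCoh.IsCohenMacaulayLocalRing (A ⧸ J)]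
    (hL : I ⊔ J ≠ ⊤) {s : A} (hs : s ∈ I ⊔ J) (hsA : IsSMulRegular A s) :
    LocCoh.IsGorensteinLocalRing (A ⧸ (I ⊔ J)) ∧ ringKrullDim (A ⧸ (I ⊔ J)) + 1 = ringKrullDim A := by
  have hsm : s ∈ maximalIdeal A := IsLocalRing.le_maximalIdeal hL hs
  haveI := SerreReg.isLocalRing_quot hsm
  haveI := (gorenstein_iff_quot s hsm hsA).1 inferInstance
  haveI := isCohenMacaulay (A ⧸ Ideal.span {s})
  obtain ⟨rs₀, hw₀, hm₀, hd₀⟩ := exists_regSeq (A ⧸ Ideal.span {s})
  obtain ⟨rs, rfl⟩ : ∃ rs : List A, rs.map (algebraMap A (A ⧸ Ideal.span {s})) = rs₀ :=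
    ⟨rs₀.map (Function.surjInv Ideal.Quotient.mk_surjective),
      List.map_map.trans (List.map_id'' (fun a => Function.surjInv_eq Ideal.Quotient.mk_surjective a) rs₀)⟩
  have hm : ∀ r ∈ rs, r ∈ maximalIdeal A := fun r hr => by
    haveI : IsLocalHom (Ideal.Quotient.mk (Ideal.span {s})) := IsLocalHom.of_surjective _ Ideal.Quotient.mk_surjective
    exact (map_mem_nonunits_iff (Ideal.Quotient.mk (Ideal.span {s})) r).1 (hm₀ _ (List.mem_map.2 ⟨r, hr, rfl⟩))
  have hwA : IsWeaklyRegular A (s :: rs) := by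
    refine (isWeaklyRegular_cons_iff A s rs).2 ⟨hsA, ?_⟩
    have e : QuotSMulTop s A ≃ₗ[A] A ⧸ Ideal.span {s} := Submodule.quotEquivOfEq _ _ (by
      rw [← Submodule.ideal_span_singleton_smul, smul_eq_mul, Ideal.mul_top])
    exact (e.isWeaklyRegular_congr rs).2
      ((isWeaklyRegular_map_algebraMap_iff (S := A ⧸ Ideal.span {s}) (A ⧸ Ideal.span {s}) rs).1 hw₀)
  have hmA : ∀ r ∈ s :: rs, r ∈ maximalIdeal A := List.forall_mem_cons.2 ⟨hsm, hm⟩
  have hdA : ringKrullDim A = (s :: rs).length := by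
    rw [← ringKrullDim_quotient_span_singleton_succ_eq_ringKrullDim hsA hsm, hd₀, List.length_map, List.length_cons]
    push_cast; rfl
  have hwI := isWeaklyRegular_mcm I hI hwA hmA hdA
  have hwJ := isWeaklyRegular_mcm J hJ hwA hmA hdA
  have perm : ∀ {M : Type u} [AddCommGroup M] [Module A M] [Module.Finite A M], IsWeaklyRegular M (s :: rs) →
      ∀ i, IsWeaklyRegular M (rs.take i ++ [s]) := by
    intro M _ _ _ h i
    have h1 : IsWeaklyRegular M (rs.take i ++ s :: rs.drop i) :=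
      IsLocalRing.isWeaklyRegular_of_perm_of_subset_maximalIdeal h
        (by rw [← List.take_append_drop i rs]; simpa using (List.perm_middle (a := s) (l₁ := rs.take i) (l₂ := rs.drop i)).symm) hmA
    rw [show rs.take i ++ s :: rs.drop i = (rs.take i ++ [s]) ++ rs.drop i by simp,
      isWeaklyRegular_append_iff] at h1
    exact h1.1
  have last : ∀ (N : Ideal A), IsWeaklyRegular (A ⧸ N) (s :: rs) → ∀ i, i ≤ rs.length →
      IsSMulRegular (A ⧸ (N ⊔ Ideal.ofList (rs.take i))) s := by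
    intro N h i hi
    have h1 := regular_step (perm h i) (rs.take i).length (by simp)
    rw [List.take_left] at h1
    simpa using h1
  obtain ⟨a, ha, b, hb, hab⟩ := Submodule.mem_sup.1 hs
  have inv : ∀ i, i ≤ rs.length → (I ⊔ Ideal.ofList (rs.take i)) ⊓ (J ⊔ Ideal.ofList (rs.take i)) =
      Ideal.ofList (rs.take i) := by
    intro i
    induction i with
    | zero => intro _; simpa using hIJ
    | succ i ih =>
      intro hi
      rw [List.take_succ_eq_append_getElem (by omega), ofList_concat]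
      refine link_inter (ih (by omega)) (link_regular (a := a) (s := s) ?_ ?_)
      · exact link_ker hIJ (ih (by omega)) ha hb hab (last I hwI i (by omega)) (last J hwJ i (by omega))
      · have h1 := (isWeaklyRegular_iff _ _).1 hwA (i + 1) (by simp; omega)
        rw [regular_quot_iff] at h1
        rw [List.take_succ_cons, Ideal.ofList_cons, sup_comm] at h1
        simpa using h1
  have key : ∀ i, i ≤ rs.length → ∀ w,
      w * a ∈ Ideal.ofList (rs.take i) ⊔ Ideal.span {s} ↔ w ∈ (I ⊔ J) ⊔ Ideal.ofList (rs.take i) := fun i hi =>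
    link_ker hIJ (inv i hi) ha hb hab (last I hwI i hi) (last J hwJ i hi)
  obtain ⟨hG, hd⟩ := gorenstein_quot_of_embed (I ⊔ J) hL (s :: rs) rs hwA hmA hdA hm
    (isWeaklyRegular_quot _ _ fun i hi => by
      refine link_regular (key i hi.le) ?_
      have h1 := (isWeaklyRegular_iff _ _).1 hwA (i + 1) (by simp; omega)
      rw [regular_quot_iff] at h1
      rw [List.take_succ_cons, Ideal.ofList_cons, sup_comm] at h1
      simpa using h1)
    ((le_radical_of_regSeq hwA hmA hdA).trans (Ideal.radical_mono (by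
      rw [Ideal.ofList_cons]
      exact sup_le (((Ideal.span_singleton_le_iff_mem _).2 hs).trans le_sup_left) le_sup_right)))
    a (fun w => by
      have h1 := key rs.length le_rfl w
      rw [List.take_length] at h1
      rwa [Ideal.ofList_cons, sup_comm])
  refine ⟨hG, ?_⟩
  rw [hd, hdA, List.length_cons]
  push_cast; rfl

end Groth.Agent.Goren
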