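import Groth.Agent.Goren.Flat

/-! Maximal Cohen–Macaulay modules over Gorenstein local rings. -/

set_option autoImplicit false
set_option maxHeartbeats 1000000

universe u

open CategoryTheory Abelian IsLocalRing RingTheory.Sequence
open scoped Pointwise

noncomputable section

namespace Groth.Agent.Goren

variable {A : Type u} [CommRing A]

theorem smul_top_eq (K : Ideal A) : (K • ⊤ : Submodule A A) = K := by rw [smul_eq_mul, Ideal.mul_top]

theorem regular_quot_iff (K : Ideal A) (x : A) :
    IsSMulRegular (A ⧸ (K • ⊤ : Submodule A A)) x ↔ IsSMulRegular (A ⧸ K) x :=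
  (Submodule.quotEquivOfEq _ _ (smul_top_eq K)).isSMulRegular_congr x

theorem regular_quot_iff_mem (K : Ideal A) (x : A) :
    IsSMulRegular (A ⧸ K) x ↔ ∀ a, x * a ∈ K → a ∈ K := by
  rw [isSMulRegular_iff_right_eq_zero_of_smul]
  constructor
  · intro h a ha
    exact (Submodule.Quotient.mk_eq_zero K).1 (h (Submodule.Quotient.mk a) ((Submodule.Quotient.mk_eq_zero K).2 ha))
  · intro h w hw
    obtain ⟨a, rfl⟩ := Submodule.Quotient.mk_surjective _ w
    exact (Submodule.Quotient.mk_eq_zero K).2 (h a ((Submodule.Quotient.mk_eq_zero K).1 hw))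

theorem ofList_concat (l : List A) (x : A) : Ideal.ofList (l ++ [x]) = Ideal.ofList l ⊔ Ideal.span {x} := by
  rw [Ideal.ofList_append, Ideal.ofList_singleton]

theorem isWeaklyRegular_concat (l : List A) (x : A) :
    IsWeaklyRegular A (l ++ [x]) ↔ IsWeaklyRegular A l ∧ IsSMulRegular (A ⧸ Ideal.ofList l) x := by
  rw [isWeaklyRegular_append_iff, isWeaklyRegular_singleton_iff, regular_quot_iff]

section Seq

variable (K : Ideal A) (x : A)

/-- multiplication by `x` on `A/K` -/
def mulMap : (A ⧸ K) →ₗ[A] A ⧸ K := x • LinearMap.id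

/-- the projection `A/K → A/(K + xA)` -/
def projMap : (A ⧸ K) →ₗ[A] A ⧸ (K ⊔ Ideal.span {x}) := Submodule.factor le_sup_left

/-- The sequence `A/K → A/K → A/(K + xA)`. -/
def quotSeq : ShortComplex (ModuleCat.{u} A) :=
  ShortComplex.mk (ModuleCat.ofHom (mulMap K x)) (ModuleCat.ofHom (projMap K x)) <| ModuleCat.hom_ext <|
    LinearMap.ext fun w => by
      obtain ⟨a, rfl⟩ := Submodule.Quotient.mk_surjective _ w
      show Submodule.Quotient.mk (x • a) = 0
      exact (Submodule.Quotient.mk_eq_zero _).2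
        (Ideal.mem_sup_right (Ideal.mul_mem_right _ _ (Ideal.mem_span_singleton_self x)))

theorem quotSeq_shortExact (h : IsSMulRegular (A ⧸ K) x) : (quotSeq K x).ShortExact where
  exact := (ShortComplex.moduleCat_exact_iff _).2 fun (w : A ⧸ K) (hw : projMap K x w = 0) => by
    obtain ⟨a, rfl⟩ := Submodule.Quotient.mk_surjective _ w
    obtain ⟨p, hp', q, hq, hpq⟩ := Submodule.mem_sup.1 ((Submodule.Quotient.mk_eq_zero _).1 hw)
    obtain ⟨r, rfl⟩ := Ideal.mem_span_singleton'.1 hq
    refine ⟨Submodule.Quotient.mk r, ?_⟩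
    show Submodule.Quotient.mk (x • r) = Submodule.Quotient.mk a
    rw [Submodule.Quotient.eq, smul_eq_mul, show a = p + r * x from hpq.symm]
    have : x * r - (p + r * x) = -p := by ring
    rw [this]; exact neg_mem hp'
  mono_f := (ModuleCat.mono_iff_injective _).2 h
  epi_g := (ModuleCat.epi_iff_surjective _).2
    (Submodule.factor_surjective (le_sup_left : K ≤ K ⊔ Ideal.span {x}))

end Seq

/-- A map on an ideal extends to the ring when `Ext¹(A/I, Q) = 0`. -/
theorem exists_extend {Q : Type u} [AddCommGroup Q] [Module A Q] (I : Ideal A)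
    (h : Subsingleton (Ext (ModuleCat.of A (A ⧸ I)) (ModuleCat.of A Q) 1)) (φ : I →ₗ[A] Q) :
    ∃ c : Q, ∀ y : I, φ y = (y : A) • c := by
  let T : ShortComplex (ModuleCat.{u} A) :=
    ShortComplex.mk (X₁ := ModuleCat.of A I) (ModuleCat.ofHom I.subtype) (ModuleCat.ofHom I.mkQ)
      (ModuleCat.hom_ext (LinearMap.ext fun w => (Submodule.Quotient.mk_eq_zero _).2 w.2))
  have hT : T.ShortExact :=
    { exact := (ShortComplex.moduleCat_exact_iff _).2 fun (w : A) (hw : I.mkQ w = 0) =>
        ⟨⟨w, (Submodule.Quotient.mk_eq_zero _).1 hw⟩, rfl⟩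
      mono_f := (ModuleCat.mono_iff_injective _).2 I.subtype_injective
      epi_g := (ModuleCat.epi_iff_surjective _).2 I.mkQ_surjective }
  obtain ⟨b, hb⟩ := Ext.contravariant_sequence_exact₁ hT (ModuleCat.of A Q) (Ext.mk₀ (ModuleCat.ofHom φ))
    (add_comm 1 0) (@Subsingleton.elim _ h _ _)
  obtain ⟨ψ, rfl⟩ := (Ext.mk₀_bijective _ _).2 b
  rw [Ext.mk₀_comp_mk₀] at hb
  have h2 : ψ.hom.comp I.subtype = φ := congrArg ModuleCat.Hom.hom ((Ext.mk₀_bijective _ _).1 hb)
  refine ⟨ψ.hom 1, fun y => ?_⟩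
  rw [← h2]
  show ψ.hom (y : A) = (y : A) • ψ.hom 1
  rw [← map_smul, smul_eq_mul, mul_one]

/-- `Ext^{≥1}(M, A) = 0` passes to quotients of `A` by regular sequences. -/
theorem ext_quot_regular {M : Type u} [AddCommGroup M] [Module A M]
    (h : ∀ i, 1 ≤ i → Subsingleton (Ext (ModuleCat.of A M) (ModuleCat.of A A) i)) (rs : List A)
    (hrs : IsWeaklyRegular A rs) :
    ∀ i, 1 ≤ i → Subsingleton (Ext (ModuleCat.of A M) (ModuleCat.of A (A ⧸ Ideal.ofList rs)) i) := by
  induction rs using List.reverseRecOn with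
  | nil =>
    intro i hi
    have e : ModuleCat.of A A ≅ ModuleCat.of A (A ⧸ Ideal.ofList ([] : List A)) :=
      (Submodule.quotEquivOfEqBot (Ideal.ofList ([] : List A)) Ideal.ofList_nil).symm.toModuleIso
    refine subsingleton_of_forall_eq 0 fun a => ?_
    have h1 : (a.comp (Ext.mk₀ e.inv) (add_zero i)).comp (Ext.mk₀ e.hom) (add_zero i) = a := by
      rw [Ext.comp_assoc_of_second_deg_zero, Ext.mk₀_comp_mk₀, e.inv_hom_id, Ext.comp_mk₀_id]
    rw [← h1, @Subsingleton.elim _ (h i hi) (a.comp (Ext.mk₀ e.inv) (add_zero i)) 0, Ext.zero_comp]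
  | append_singleton l x ih =>
    intro i hi
    rw [isWeaklyRegular_concat] at hrs
    rw [ofList_concat]
    refine subsingleton_of_forall_eq 0 fun a => ?_
    obtain ⟨b, hb⟩ := Ext.covariant_sequence_exact₃ (ModuleCat.of A M) (quotSeq_shortExact _ x hrs.2) a rfl
      (@Subsingleton.elim _ (ih hrs.1 (i + 1) (by omega)) _ _)
    rw [← hb, show b = 0 from @Subsingleton.elim _ (ih hrs.1 i hi) b 0]
    simp
    rfl

section Linkage

variable {I : Ideal A} (h : ∀ i, 1 ≤ i → Subsingleton (Ext (ModuleCat.of A (A ⧸ I)) (ModuleCat.of A A) i))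

include h

theorem mem_ann_sup_iff {x : A} {K : Ideal A}
    (hK : Subsingleton (Ext (ModuleCat.of A (A ⧸ I)) (ModuleCat.of A (A ⧸ K)) 1))
    (hx : IsSMulRegular (A ⧸ K) x) (hcol : Submodule.colon K (I : Set A) = Submodule.annihilator I ⊔ K) :
    Submodule.colon (K ⊔ Ideal.span {x}) (I : Set A) = Submodule.annihilator I ⊔ (K ⊔ Ideal.span {x}) := by
  refine le_antisymm (fun a ha => ?_) (sup_le ?_ ?_)
  · have hex : ∀ y : I, ∃ b : A ⧸ K, x • b = Submodule.Quotient.mk (a * y) := by
      intro y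
      obtain ⟨p, hp, q, hq, hpq⟩ := Submodule.mem_sup.1 (Submodule.mem_colon.1 ha y y.2)
      obtain ⟨r, rfl⟩ := Ideal.mem_span_singleton'.1 hq
      refine ⟨Submodule.Quotient.mk r, ?_⟩
      rw [← Submodule.Quotient.mk_smul, Submodule.Quotient.eq, smul_eq_mul,
        show a * (y : A) = p + r * x from (smul_eq_mul a (y : A)).symm.trans hpq.symm]
      have : x * r - (p + r * x) = -p := by ring
      rw [this]; exact neg_mem hp
    choose b hb using hex
    let φ : I →ₗ[A] A ⧸ K :=
      { toFun := b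
        map_add' := fun y z => hx (by
          dsimp only
          rw [smul_add, hb, hb, hb, ← Submodule.Quotient.mk_add, Submodule.coe_add, mul_add])
        map_smul' := fun r y => hx (by
          dsimp only
          rw [RingHom.id_apply, smul_comm, hb, hb, ← Submodule.Quotient.mk_smul, Submodule.coe_smul,
            smul_eq_mul, smul_eq_mul, mul_left_comm]) }
    obtain ⟨cbar, hc⟩ := exists_extend I hK φ
    obtain ⟨c, rfl⟩ := Submodule.Quotient.mk_surjective _ cbar
    have hac : a - x * c ∈ Submodule.colon K (I : Set A) := Submodule.mem_colon.2 fun y hy => by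
      have h1 := hb ⟨y, hy⟩
      rw [show b ⟨y, hy⟩ = φ ⟨y, hy⟩ from rfl, hc ⟨y, hy⟩, ← Submodule.Quotient.mk_smul,
        ← Submodule.Quotient.mk_smul, Submodule.Quotient.eq, smul_eq_mul, smul_eq_mul] at h1
      rw [smul_eq_mul, show (a - x * c) * y = -(x * (y * c) - a * y) by ring]
      exact neg_mem h1
    rw [hcol] at hac
    have h2 : x * c ∈ Submodule.annihilator I ⊔ (K ⊔ Ideal.span {x}) :=
      Ideal.mem_sup_right (Ideal.mem_sup_right (Ideal.mul_mem_right _ _ (Ideal.mem_span_singleton_self x)))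
    have h3 : Submodule.annihilator I ⊔ K ≤ Submodule.annihilator I ⊔ (K ⊔ Ideal.span {x}) :=
      sup_le_sup_left le_sup_left _
    have := add_mem (h3 hac) h2
    rwa [sub_add_cancel] at this
  · intro a ha
    exact Submodule.mem_colon.2 fun y hy => by
      rw [Submodule.mem_annihilator.1 ha y hy]; exact zero_mem _
  · intro a ha
    exact Submodule.mem_colon.2 fun y _ => by rw [smul_eq_mul]; exact Ideal.mul_mem_right _ _ ha

/-- `(rs A : I) = ann I + rs A` and `ann I ∩ rs A = rs · ann I`. -/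
theorem colon_regular (rs : List A) (hrs : IsWeaklyRegular A rs) :
    Submodule.colon (Ideal.ofList rs) (I : Set A) = Submodule.annihilator I ⊔ Ideal.ofList rs ∧
      Submodule.annihilator I ⊓ Ideal.ofList rs ≤ Ideal.ofList rs * Submodule.annihilator I := by
  induction rs using List.reverseRecOn with
  | nil =>
    rw [Ideal.ofList_nil, sup_bot_eq, inf_bot_eq]
    refine ⟨?_, bot_le⟩
    ext a
    rw [Submodule.mem_colon, Submodule.mem_annihilator]
    simp
  | append_singleton l x ih =>
    rw [isWeaklyRegular_concat] at hrs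
    obtain ⟨ih1, ih2⟩ := ih hrs.1
    rw [ofList_concat]
    refine ⟨mem_ann_sup_iff h (ext_quot_regular h l hrs.1 1 le_rfl) hrs.2 ih1, ?_⟩
    rintro a ⟨haJ, haK⟩
    obtain ⟨k, hk, q, hq, rfl⟩ := Submodule.mem_sup.1 haK
    obtain ⟨b, rfl⟩ := Ideal.mem_span_singleton'.1 hq
    have hb : b ∈ Submodule.colon (Ideal.ofList l) (I : Set A) := Submodule.mem_colon.2 fun y hy => by
      refine (regular_quot_iff_mem _ x).1 hrs.2 _ ?_
      have h1 : (k + b * x) • y = 0 := Submodule.mem_annihilator.1 haJ y hy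
      rw [smul_eq_mul] at h1 ⊢
      rw [show x * (b * y) = -(k * y) by linear_combination h1]
      exact neg_mem (Ideal.mul_mem_right _ _ hk)
    rw [ih1] at hb
    obtain ⟨j, hj, k', hk', rfl⟩ := Submodule.mem_sup.1 hb
    have h2 : k + k' * x ∈ Submodule.annihilator I ⊓ Ideal.ofList l := ⟨by
      have : k + (j + k') * x - x * j ∈ Submodule.annihilator I := sub_mem haJ (Ideal.mul_mem_left _ _ hj)
      rwa [show k + (j + k') * x - x * j = k + k' * x by ring] at this,
      add_mem hk (Ideal.mul_mem_right _ _ hk')⟩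
    rw [show k + (j + k') * x = (k + k' * x) + x * j by ring]
    exact add_mem (Ideal.mul_mono_left le_sup_left (ih2 h2))
      (Ideal.mul_mem_mul (Ideal.mem_sup_right (Ideal.mem_span_singleton_self x)) hj)

/-- An element regular modulo `K` is regular modulo `ann I + K`. -/
theorem regular_ann_sup {x : A} {l : List A} (hl : IsWeaklyRegular A l)
    (hx : IsSMulRegular (A ⧸ Ideal.ofList l) x) :
    IsSMulRegular (A ⧸ (Submodule.annihilator I ⊔ Ideal.ofList l)) x := by
  rw [regular_quot_iff_mem] at hx ⊢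
  rw [← (colon_regular h l hl).1]
  intro a ha
  exact Submodule.mem_colon.2 fun y hy => hx _ (by
    have := Submodule.mem_colon.1 ha y hy
    rw [smul_eq_mul] at this ⊢
    rwa [← mul_assoc])

end Linkage

section Depth

variable [LocCoh.IsGorensteinLocalRing A]

theorem ext_eq_zero_of_regular {d : ℕ} (hd : ringKrullDim A = d) : ∀ (rs : List A) (M : Type u)
    [AddCommGroup M] [Module A M] [Module.Finite A M], IsWeaklyRegular M rs →
    (∀ r ∈ rs, r ∈ maximalIdeal A) → ∀ i, d < i + rs.length →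
    Subsingleton (Ext (ModuleCat.of A M) (ModuleCat.of A A) i) := by
  intro rs
  induction rs with
  | nil =>
    intro M _ _ _ _ _ i hi
    haveI := hasInjectiveDimensionLE A (resVanish_dim A hd)
    exact HasInjectiveDimensionLT.subsingleton _ (d + 1) i (by simpa using hi) _
  | cons x rs ih =>
    intro M _ _ _ hw hm i hi
    obtain ⟨hreg, hw'⟩ := (isWeaklyRegular_cons_iff M x rs).1 hw
    have hT : ((ModuleCat.of A M).smulShortComplex x).ShortExact := IsSMulRegular.smulShortComplex_shortExact hreg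
    refine eq_bot_of_smul_surj (hm x List.mem_cons_self) fun a => ?_
    obtain ⟨b, hb⟩ := Ext.contravariant_sequence_exact₁ hT (ModuleCat.of A A) a (add_comm 1 i)
      (@Subsingleton.elim _ (ih (QuotSMulTop x M) hw' (fun r hr => hm r (List.mem_cons_of_mem _ hr)) (i + 1)
        (by rw [List.length_cons] at hi; omega)) _ _)
    refine ⟨b, hb.symm.trans ?_⟩
    show (Ext.mk₀ (X := ModuleCat.of A M) (Y := ModuleCat.of A M) (x • 𝟙 (ModuleCat.of A M))).comp b _ = x • b
    rw [Ext.mk₀_smul, Ext.smul_comp, Ext.mk₀_id_comp]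
    rfl

theorem ext_quot_eq_zero (I : Ideal A) (hI : ringKrullDim (A ⧸ I) = ringKrullDim A)
    [LocCoh.IsCohenMacaulayLocalRing (A ⧸ I)] :
    ∀ i, 1 ≤ i → Subsingleton (Ext (ModuleCat.of A (A ⧸ I)) (ModuleCat.of A A) i) := by
  obtain ⟨rs, hw, hm, hd⟩ := exists_regSeq (A ⧸ I)
  intro i hi
  refine ext_eq_zero_of_regular (hI ▸ hd) (rs.map (Function.surjInv Ideal.Quotient.mk_surjective)) (A ⧸ I)
    ((isWeaklyRegular_map_algebraMap_iff (S := A ⧸ I) (A ⧸ I) _).1 ?_) (fun r hr => ?_) i ?_
  · have e : (rs.map (Function.surjInv Ideal.Quotient.mk_surjective)).map (algebraMap A (A ⧸ I)) = rs :=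
      List.map_map.trans (List.map_id'' (fun a => Function.surjInv_eq Ideal.Quotient.mk_surjective a) rs)
    rwa [e]
  · obtain ⟨s, hs, rfl⟩ := List.mem_map.1 hr
    haveI : IsLocalHom (Ideal.Quotient.mk I) := IsLocalHom.of_surjective _ Ideal.Quotient.mk_surjective
    refine (map_mem_nonunits_iff (Ideal.Quotient.mk I) _).1 ?_
    rw [Function.surjInv_eq Ideal.Quotient.mk_surjective]
    exact hm s hs
  · rw [List.length_map]; omega

end Depth

end Groth.Agent.Goren
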