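import Groth.Agent.Goren.MCM
import Groth.Agent.FlatLift.RegSeq
import Groth.Agent.SerreReg.MiracleFinite

/-! Flatness of linked subschemes over a regular base. -/

set_option autoImplicit false
set_option maxHeartbeats 1000000

universe u

open CategoryTheory Abelian IsLocalRing RingTheory.Sequence

noncomputable section

namespace Groth.Agent.Goren

variable {R A : Type u} [CommRing R] [CommRing A] [Algebra R A]

theorem isLocalHom_quot [IsLocalRing R] [IsLocalRing A] [IsLocalHom (algebraMap R A)] (K : Ideal A) (hK : K ≠ ⊤) :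
    IsLocalHom (algebraMap R (A ⧸ K)) := by
  haveI : Nontrivial (A ⧸ K) := Ideal.Quotient.nontrivial_iff.2 hK
  haveI : IsLocalHom (Ideal.Quotient.mk K) := IsLocalHom.of_surjective _ Ideal.Quotient.mk_surjective
  have e : algebraMap R (A ⧸ K) = (Ideal.Quotient.mk K).comp (algebraMap R A) := rfl
  rw [e]; infer_instance

/-- A weakly regular sequence on `A` stays so on `A/K` when it is regular step by step. -/
theorem isWeaklyRegular_quot (K : Ideal A) (rs : List A)
    (h : ∀ (i : ℕ) (hi : i < rs.length), IsSMulRegular (A ⧸ (K ⊔ Ideal.ofList (rs.take i))) rs[i]) :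
    IsWeaklyRegular (A ⧸ K) rs := by
  refine (isWeaklyRegular_iff _ _).2 fun i hi => ?_
  refine isSMulRegular_iff_right_eq_zero_of_smul.2 fun w hw => ?_
  obtain ⟨q, rfl⟩ := Submodule.Quotient.mk_surjective _ w
  obtain ⟨a, rfl⟩ := Submodule.Quotient.mk_surjective _ q
  have key : ∀ b : A, Submodule.Quotient.mk (p := K) b ∈ (Ideal.ofList (rs.take i) • ⊤ : Submodule A (A ⧸ K)) ↔
      b ∈ K ⊔ Ideal.ofList (rs.take i) := by
    intro b
    have e : (Ideal.ofList (rs.take i) • ⊤ : Submodule A (A ⧸ K)) = Submodule.map K.mkQ (Ideal.ofList (rs.take i) : Submodule A A) := by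
      rw [← Submodule.range_mkQ K, ← Submodule.map_top, ← Submodule.map_smul'', smul_eq_mul, Ideal.mul_top]
    rw [e, ← Submodule.comap_map_mkQ]
    rfl
  have h1 : rs[i] * a ∈ K ⊔ Ideal.ofList (rs.take i) :=
    (key _).1 ((Submodule.Quotient.mk_eq_zero _).1 hw)
  exact (Submodule.Quotient.mk_eq_zero _).2 ((key _).2 ((regular_quot_iff_mem _ _).1 (h i hi) a h1))

variable [IsRegularLocalRing R] [LocCoh.IsGorensteinLocalRing A] [IsLocalHom (algebraMap R A)] [Module.Flat R A]

theorem flat_quot_and_ann (I : Ideal A) (hI : ringKrullDim (A ⧸ I) = ringKrullDim A)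
    [LocCoh.IsCohenMacaulayLocalRing (A ⧸ I)] :
    Module.Flat R (A ⧸ I) ∧ Module.Flat R (A ⧸ (Submodule.annihilator I)) := by
  have h := ext_quot_eq_zero I hI
  obtain ⟨d, hd⟩ := SerreReg.exists_dim_nat R
  obtain ⟨rs, hlen, hw, hspan⟩ := SerreReg.exists_regular_rsop d R hd
  have hm : ∀ r ∈ rs, r ∈ maximalIdeal R := fun r hr => hspan ▸ Ideal.subset_span hr
  have hwA : IsWeaklyRegular A (rs.map (algebraMap R A)) := hw.of_flat
  have hmA : ∀ r ∈ rs.map (algebraMap R A), r ∈ maximalIdeal A := fun r hr => by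
    obtain ⟨s, hs, rfl⟩ := List.mem_map.1 hr
    exact map_nonunit _ s (hm s hs)
  have hItop : I ≠ ⊤ := Ideal.Quotient.nontrivial_iff.1 inferInstance
  haveI := isLocalHom_quot (R := R) I hItop
  constructor
  · refine SerreReg.flat_of_regular_rsop d R hd rs hlen hw hspan (A ⧸ I) ?_
    refine (isWeaklyRegular_map_algebraMap_iff (S := A ⧸ I) (A ⧸ I) rs).1 ?_
    set rsB := rs.map (algebraMap R (A ⧸ I)) with hB
    have hrsB : rsB = (rs.map (algebraMap R A)).map (Ideal.Quotient.mk I) := by rw [hB, List.map_map]; try rfl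
    have hmB : ∀ r ∈ rsB, r ∈ maximalIdeal (A ⧸ I) := fun r hr => by
      obtain ⟨s, hs, rfl⟩ := List.mem_map.1 hr
      exact map_nonunit _ s (hm s hs)
    refine FlatLift.isWeaklyRegular_of_dim_cm rsB ?_ ?_
    · exact ne_top_of_le_ne_top (maximalIdeal.isMaximal _).ne_top (Ideal.span_le.2 hmB)
    · have hle : ringKrullDim (A ⧸ I) ≤ ringKrullDim ((A ⧸ I) ⧸ Ideal.ofList rsB) + (rsB.length : WithBot ℕ∞) := by
        classical
        have h1 := ringKrullDim_le_ringKrullDim_quotient_add_card (R := A ⧸ I) rsB.toFinset (fun r hr => by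
          rw [Ring.jacobson_eq_sInf_isMaximal]
          refine Submodule.mem_sInf.2 fun M hM => ?_
          rw [IsLocalRing.eq_maximalIdeal hM]
          exact hmB r (List.mem_toFinset.1 hr))
        rw [show Ideal.span ((rsB.toFinset : Finset (A ⧸ I)) : Set (A ⧸ I)) = Ideal.ofList rsB by
          rw [List.coe_toFinset]] at h1
        exact h1.trans (by gcongr; exact_mod_cast List.toFinset_card_le rsB)
      have hge : ringKrullDim ((A ⧸ I) ⧸ Ideal.ofList rsB) + (rsB.length : WithBot ℕ∞) ≤ ringKrullDim (A ⧸ I) := by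
        rw [hI, ← dim_quot_list _ A (rs.map (algebraMap R A)) rfl hwA hmA,
          show rsB.length = (rs.map (algebraMap R A)).length by rw [hrsB, List.length_map]]
        gcongr
        refine ringKrullDim_le_of_surjective (Ideal.Quotient.lift (Ideal.ofList (rs.map (algebraMap R A)))
          ((Ideal.Quotient.mk _).comp (Ideal.Quotient.mk I)) ?_) ?_
        · intro a ha
          refine Ideal.Quotient.eq_zero_iff_mem.2 ?_
          rw [hrsB, ← Ideal.map_ofList]
          exact Ideal.mem_map_of_mem _ ha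
        · exact Ideal.Quotient.lift_surjective_of_surjective _ _
            (Ideal.Quotient.mk_surjective.comp Ideal.Quotient.mk_surjective)
      rw [add_comm]
      exact le_antisymm hge hle
  · set J := Submodule.annihilator I
    by_cases hJ : J = ⊤
    · haveI : Subsingleton (A ⧸ J) := Ideal.Quotient.subsingleton_iff.2 hJ
      infer_instance
    haveI := isLocalHom_quot (R := R) J hJ
    haveI : Nontrivial (A ⧸ J) := Ideal.Quotient.nontrivial_iff.2 hJ
    haveI : IsLocalRing (A ⧸ J) := .of_surjective' (Ideal.Quotient.mk J) Ideal.Quotient.mk_surjective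
    refine SerreReg.flat_of_regular_rsop d R hd rs hlen hw hspan (A ⧸ J) ?_
    refine (isWeaklyRegular_map_algebraMap_iff (S := A) (A ⧸ J) rs).1 ?_
    refine isWeaklyRegular_quot J _ fun i hi => ?_
    set rsA := rs.map (algebraMap R A)
    refine regular_ann_sup h ?_ ?_
    · have := hwA
      rw [← List.take_append_drop i rsA, isWeaklyRegular_append_iff] at this
      exact this.1
    · exact (regular_quot_iff _ _).1 (((isWeaklyRegular_iff _ _).1 hwA) i hi)

end Groth.Agent.Goren
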