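import Groth.Agent.Goren.LinkLocal
import Groth.Agent.Catenary.CM
import Groth.Agent.SegreDim.Ischebeck
import Groth.Agent.Goren.Local
import Groth.Agent.CMChart.Scheme

/-! A factorial Cohen–Macaulay quotient of a regular local ring is Gorenstein. -/

set_option autoImplicit false
set_option maxHeartbeats 1000000
set_option maxSynthPendingDepth 3

universe u

open CategoryTheory IsLocalRing RingTheory.Sequence

noncomputable section

namespace Groth.Agent.Goren

theorem double_ann {T : Type u} [CommRing T] [LocCoh.IsGorensteinLocalRing T] (hd : ringKrullDim T = 0)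
    (K : Ideal T) {w : T} (hw : w ∉ K) : ∃ y, (∀ k ∈ K, y * k = 0) ∧ y * w ≠ 0 := by
  obtain ⟨σ, hσ0, hσm, hσ⟩ := (gorenstein_iff_socSimple T hd).1 inferInstance
  haveI := injective_of_socSimple T hd ⟨σ, hσ0, hσm, hσ⟩
  let L : Ideal T := Submodule.comap (LinearMap.mulRight T w) K
  have hL : L ≤ maximalIdeal T := IsLocalRing.le_maximalIdeal fun htop => hw (by
    have h : (1 : T) ∈ L := htop ▸ trivial
    simpa [L] using h)
  let f : (T ⧸ L) →ₗ[T] T ⧸ K := Submodule.mapQ L K (LinearMap.mulRight T w) le_rfl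
  have hf : Function.Injective f := (injective_iff_map_eq_zero f).2 fun v hv => by
    obtain ⟨r, rfl⟩ := Submodule.Quotient.mk_surjective _ v
    exact (Submodule.Quotient.mk_eq_zero _).2 ((Submodule.Quotient.mk_eq_zero K).1 hv)
  let g : (T ⧸ L) →ₗ[T] T := L.liftQ (LinearMap.toSpanSingleton T T σ) fun x hx => hσm x (hL hx)
  obtain ⟨φ, hφ⟩ := Module.Injective.out (R := T) f hf g
  have key : ∀ r : T, φ (Submodule.Quotient.mk r) = r * φ (Submodule.Quotient.mk 1) := fun r => by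
    rw [← smul_eq_mul r (φ _), ← map_smul, ← Submodule.Quotient.mk_smul, smul_eq_mul, mul_one]
  refine ⟨φ (Submodule.Quotient.mk 1), fun k hk => ?_, fun h0 => hσ0 ?_⟩
  · rw [mul_comm, ← key, (Submodule.Quotient.mk_eq_zero K).2 hk, map_zero]
  · have h1 := hφ (Submodule.Quotient.mk 1)
    have h2 : f (Submodule.Quotient.mk 1) = Submodule.Quotient.mk ((1 : T) * w) := rfl
    rw [h2, one_mul, key, mul_comm, h0] at h1
    have h3 : g (Submodule.Quotient.mk 1) = (1 : T) * σ := rfl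
    rw [h3, one_mul] at h1
    exact h1.symm

variable {A : Type u} [CommRing A] [LocCoh.IsGorensteinLocalRing A] {P : Ideal A} [P.IsPrime]
  (hP : P ∈ minimalPrimes A)

include hP

theorem torsionFree {j : A} (hj : j ∈ Submodule.annihilator P) {d : A} (hd : d ∉ P) (h : d * j = 0) : j = 0 := by
  by_contra hne
  obtain ⟨q, hq, hle⟩ := exists_le_isAssociatedPrime_of_isNoetherianRing A j hne
  haveI := isCohenMacaulay A
  have hqmin := CMFlat.associatedPrimes_subset_minimalPrimes A (AssociatedPrimes.mem_iff.2 hq)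
  have hPq : P ≤ q := fun p hp => hle (Submodule.mem_colon_singleton.2 (by
    have := Submodule.mem_annihilator.1 hj p hp
    rw [smul_eq_mul] at this ⊢
    rw [mul_comm, this]; exact zero_mem _))
  have hdq : d ∈ q := hle (Submodule.mem_colon_singleton.2 (by rw [smul_eq_mul, h]; exact zero_mem _))
  exact hd (hqmin.2 hP.1 hPq hdq)

theorem rank_one {j j₀ : A} (hj : j ∈ Submodule.annihilator P) (hj₀ : j₀ ∈ Submodule.annihilator P) (h0 : j₀ ≠ 0) :
    ∃ s t : A, s ∉ P ∧ s * j = t * j₀ := by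
  set L := Localization.AtPrime P
  obtain ⟨d, hd⟩ := SerreReg.exists_dim_nat A
  haveI : LocCoh.IsGorensteinLocalRing L :=
    (gorenstein_atPrime (hasInjectiveDimensionLE A (resVanish_dim A hd)) P).1
  have hd0 : ringKrullDim L = 0 := by
    rw [IsLocalization.AtPrime.ringKrullDim_eq_height P L, Ideal.height_eq_zero_iff.2 hP]; rfl
  obtain ⟨σ, -, hσm, hσ⟩ := (gorenstein_iff_socSimple L hd0).1 inferInstance
  have soc : ∀ i ∈ Submodule.annihilator P, algebraMap A L i ∈ Ideal.span {σ} := fun i hi => hσ _ fun x hx => by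
    rw [← Localization.AtPrime.map_eq_maximalIdeal] at hx
    refine Submodule.span_induction ?_ ?_ ?_ ?_ hx
    · rintro _ ⟨p, hp, rfl⟩
      have h1 := Submodule.mem_annihilator.1 hi p hp
      rw [smul_eq_mul, mul_comm] at h1
      rw [← map_mul, h1, map_zero]
    · rw [zero_mul]
    · intro a b _ _ ha hb; rw [add_mul, ha, hb, add_zero]
    · intro r a _ ha; rw [smul_eq_mul, mul_assoc, ha, mul_zero]
  obtain ⟨a, ha⟩ := Ideal.mem_span_singleton'.1 (soc j hj)
  obtain ⟨a₀, ha₀⟩ := Ideal.mem_span_singleton'.1 (soc j₀ hj₀)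
  have hu : IsUnit a₀ := by
    by_contra hn
    have h1 : algebraMap A L j₀ = 0 := ha₀.symm.trans (hσm a₀ hn)
    rw [IsLocalization.map_eq_zero_iff P.primeCompl] at h1
    obtain ⟨⟨u, hu⟩, hu'⟩ := h1
    exact h0 (torsionFree hP hj₀ hu hu')
  obtain ⟨⟨t, s⟩, hts⟩ := IsLocalization.mk'_surjective P.primeCompl (a * hu.unit⁻¹.1)
  change IsLocalization.mk' L t s = _ at hts
  refine ⟨s, t, s.2, sub_eq_zero.1 ?_⟩
  have hmem : (s : A) * j - t * j₀ ∈ Submodule.annihilator P := sub_mem (Ideal.mul_mem_left _ _ hj) (Ideal.mul_mem_left _ _ hj₀)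
  have h1 : algebraMap A L ((s : A) * j - t * j₀) = 0 := by
    rw [map_sub, map_mul, map_mul, ← ha, ← ha₀, ← IsLocalization.mk'_spec L t s, hts]
    calc algebraMap A L s * (a * σ) - a * hu.unit⁻¹.1 * algebraMap A L s * (a₀ * σ)
        = algebraMap A L s * (a * σ) * (1 - hu.unit⁻¹.1 * a₀) := by ring
      _ = 0 := by rw [IsUnit.val_inv_mul, sub_self, mul_zero]
  rw [IsLocalization.map_eq_zero_iff P.primeCompl] at h1
  obtain ⟨⟨u, hu'⟩, hu''⟩ := h1
  exact torsionFree hP hmem hu' hu''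

variable [UniqueFactorizationMonoid (A ⧸ P)]

theorem two_le_height {a b : A} (ha : a ∉ P) (hab : IsRelPrime (Ideal.Quotient.mk P a) (Ideal.Quotient.mk P b))
    (q : Ideal A) [q.IsPrime] (hq : P ⊔ Ideal.span {a, b} ≤ q) : (2 : ℕ∞) ≤ q.height := by
  have hPq : P ≤ q := le_sup_left.trans hq
  have haq : a ∈ q := hq (Ideal.mem_sup_right (Ideal.subset_span (Set.mem_insert _ _)))
  have hbq : b ∈ q := hq (Ideal.mem_sup_right (Ideal.subset_span (Set.mem_insert_of_mem _ rfl)))
  haveI : (q.map (Ideal.Quotient.mk P)).IsPrime :=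
    Ideal.map_isPrime_of_surjective Ideal.Quotient.mk_surjective (by rwa [Ideal.mk_ker])
  have hne : q.map (Ideal.Quotient.mk P) ≠ ⊥ := fun h => ha (Ideal.Quotient.eq_zero_iff_mem.1 (by
    have := Ideal.mem_map_of_mem (Ideal.Quotient.mk P) haq
    rwa [h, Submodule.mem_bot] at this))
  obtain ⟨π, hπq, hπ⟩ := Ideal.IsPrime.exists_mem_prime_of_ne_bot ‹(q.map (Ideal.Quotient.mk P)).IsPrime› hne
  haveI hπ' : (Ideal.span {π}).IsPrime := (Ideal.span_singleton_prime hπ.ne_zero).2 hπ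
  set q' := (Ideal.span {π}).comap (Ideal.Quotient.mk P)
  have h1 : P < q' := lt_of_le_of_ne (fun x hx => by
      rw [Ideal.mem_comap, Ideal.Quotient.eq_zero_iff_mem.2 hx]; exact zero_mem _) fun he => by
    obtain ⟨z, rfl⟩ := Ideal.Quotient.mk_surjective π
    exact hπ.ne_zero (Ideal.Quotient.eq_zero_iff_mem.2 (by rw [he]; exact Ideal.mem_span_singleton_self _))
  have h2 : q' ≤ q := fun x hx => by
    have hx' : Ideal.Quotient.mk P x ∈ q.map (Ideal.Quotient.mk P) :=
      (Ideal.span_singleton_le_iff_mem _).2 hπq hx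
    rw [← Ideal.mem_comap, Ideal.comap_map_of_surjective' _ Ideal.Quotient.mk_surjective, Ideal.mk_ker,
      sup_eq_left.2 hPq] at hx'
    exact hx'
  have h2' : q' < q := lt_of_le_of_ne h2 fun he => hπ.not_isUnit <| hab
    (Ideal.mem_span_singleton.1 (show a ∈ q' from he ▸ haq))
    (Ideal.mem_span_singleton.1 (show b ∈ q' from he ▸ hbq))
  haveI : q'.IsPrime := Ideal.IsPrime.comap _
  have e1 := Ideal.height_strict_mono_of_isPrime h1
  have e2 := Ideal.height_strict_mono_of_isPrime h2'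
  exact Order.add_one_le_of_lt (lt_of_le_of_lt (Order.one_le_iff_pos.2 (pos_of_gt e1)) e2)

theorem saturated {a b : A} (ha : a ∉ P) (hab : IsRelPrime (Ideal.Quotient.mk P a) (Ideal.Quotient.mk P b))
    {j j₀ : A} (hj : j ∈ Submodule.annihilator P) (hj₀ : j₀ ∈ Submodule.annihilator P) (h : a * j = b * j₀) :
    ∃ c ∈ Submodule.annihilator P, j₀ = a * c := by
  set Q := P ⊔ Ideal.span {a, b}
  have hQ : ∀ r ∈ Q, ∃ x ∈ Submodule.annihilator P, r * j₀ = a * x := fun r hr => by
    obtain ⟨p, hp, q, hq, rfl⟩ := Submodule.mem_sup.1 hr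
    obtain ⟨u, v, rfl⟩ := Ideal.mem_span_pair.1 hq
    refine ⟨u * j₀ + v * j, add_mem (Ideal.mul_mem_left _ _ hj₀) (Ideal.mul_mem_left _ _ hj), ?_⟩
    have hp0 := Submodule.mem_annihilator.1 hj₀ p hp
    rw [smul_eq_mul] at hp0
    linear_combination hp0 - v * h
  by_cases htop : Q = ⊤
  · obtain ⟨x, hx, hx'⟩ := hQ 1 (htop ▸ trivial)
    exact ⟨x, hx, by rwa [one_mul] at hx'⟩
  haveI := isCohenMacaulay A
  have hht := two_le_height hP ha hab
  obtain ⟨r₁, hr₁, hr₁'⟩ : ∃ r ∈ Q, ∀ q ∈ associatedPrimes A A, r ∉ q := by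
    by_contra hc
    push Not at hc
    obtain ⟨q, hq, hle⟩ := (Ideal.subset_union_prime_finite (associatedPrimes.finite A A) ⊤ ⊤
      (fun q hq _ _ => (AssociatedPrimes.mem_iff.1 hq).isPrime)).1 (fun x hx => by
        obtain ⟨q, hq, hxq⟩ := hc x hx
        exact Set.mem_biUnion hq hxq)
    haveI := (AssociatedPrimes.mem_iff.1 hq).isPrime
    have h2 := hht q hle
    rw [Ideal.height_eq_zero_iff.2 (CMFlat.associatedPrimes_subset_minimalPrimes A hq)] at h2
    simp at h2
  have hreg₁ : IsSMulRegular A r₁ := CMSop.isSMulRegular_of_forall hr₁'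
  have hr₁m : r₁ ∈ maximalIdeal A := IsLocalRing.le_maximalIdeal htop hr₁
  haveI := SerreReg.isLocalRing_quot hr₁m
  haveI := (gorenstein_iff_quot r₁ hr₁m hreg₁).1 inferInstance
  haveI := isCohenMacaulay (A ⧸ Ideal.span {r₁})
  obtain ⟨r₂, hr₂, hr₂'⟩ : ∃ r ∈ Q, ∀ q ∈ associatedPrimes (A ⧸ Ideal.span {r₁}) (A ⧸ Ideal.span {r₁}),
      Ideal.Quotient.mk _ r ∉ q := by
    by_contra hc
    push Not at hc
    obtain ⟨q, hq, hle⟩ := (Ideal.subset_union_prime_finite
      (associatedPrimes.finite (A ⧸ Ideal.span {r₁}) (A ⧸ Ideal.span {r₁})) ⊤ ⊤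
      (fun q hq _ _ => (AssociatedPrimes.mem_iff.1 hq).isPrime)
      (I := Q.map (Ideal.Quotient.mk (Ideal.span {r₁})))).1 (fun x hx => by
        obtain ⟨r, hr, rfl⟩ := (Ideal.mem_map_iff_of_surjective _ Ideal.Quotient.mk_surjective).1 hx
        obtain ⟨q, hq, hxq⟩ := hc r hr
        exact Set.mem_biUnion hq hxq)
    haveI := (AssociatedPrimes.mem_iff.1 hq).isPrime
    have h2 := hht (q.comap (Ideal.Quotient.mk _)) (Ideal.map_le_iff_le_comap.1 hle)
    have h4 : q.comap (Ideal.Quotient.mk _) ∈ (Ideal.span {r₁}).minimalPrimes := by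
      rw [Ideal.minimalPrimes_eq_comap]
      exact ⟨q, CMFlat.associatedPrimes_subset_minimalPrimes _ hq, rfl⟩
    exact absurd (h2.trans (Ideal.height_le_one_of_isPrincipal_of_mem_minimalPrimes _ _ h4)) (by norm_num)
  have hreg₂ := isSMulRegular_iff_right_eq_zero_of_smul.1 (CMSop.isSMulRegular_of_forall hr₂')
  obtain ⟨x, hx, hx'⟩ := hQ r₁ hr₁
  obtain ⟨y, hy, hy'⟩ := hQ r₂ hr₂
  have h5 : r₂ * x - r₁ * y = 0 := torsionFree hP (sub_mem (Ideal.mul_mem_left _ _ hx) (Ideal.mul_mem_left _ _ hy)) ha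
    (by linear_combination r₁ * hy' - r₂ * hx')
  have h6 : x ∈ Ideal.span {r₁} := Ideal.Quotient.eq_zero_iff_mem.1 <| hreg₂ _ <| by
    rw [smul_eq_mul, ← map_mul, Ideal.Quotient.eq_zero_iff_mem, sub_eq_zero.1 h5]
    exact Ideal.mul_mem_right _ _ (Ideal.mem_span_singleton_self r₁)
  obtain ⟨c, rfl⟩ := Ideal.mem_span_singleton'.1 h6
  refine ⟨c, Submodule.mem_annihilator.2 fun p hp => ?_, ?_⟩
  · have h7 := Submodule.mem_annihilator.1 hx p hp
    rw [smul_eq_mul] at h7 ⊢
    exact (isSMulRegular_iff_right_eq_zero_of_smul.1 hreg₁) _ (by rw [smul_eq_mul]; linear_combination h7)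
  · exact sub_eq_zero.1 ((isSMulRegular_iff_right_eq_zero_of_smul.1 hreg₁) _ (by
      rw [smul_eq_mul]; linear_combination hx'))

theorem principal : ∃ j₀ ∈ Submodule.annihilator P, j₀ ≠ 0 ∧ ∀ j ∈ Submodule.annihilator P, ∃ r, j = r * j₀ := by
  set J := Submodule.annihilator P
  let S : Set (Ideal A) := {I | ∃ j ∈ J, j ≠ 0 ∧ I = Ideal.span {j}}
  have hne : S.Nonempty := by
    have hass : P ∈ associatedPrimes A A :=
      Module.associatedPrimes.minimalPrimes_annihilator_subset_associatedPrimes A A (by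
        rwa [Module.annihilator_eq_bot.2 inferInstance])
    obtain ⟨f, hf⟩ := (isAssociatedPrime_iff_exists_injective_linearMap (R := A) _ A).1
      (AssociatedPrimes.mem_iff.1 hass) |>.2
    refine ⟨_, f (Submodule.Quotient.mk 1), Submodule.mem_annihilator.2 fun p hp => ?_, fun h0 => ?_, rfl⟩
    · rw [smul_eq_mul, mul_comm, ← smul_eq_mul, ← map_smul, ← Submodule.Quotient.mk_smul, smul_eq_mul, mul_one,
        (Submodule.Quotient.mk_eq_zero P).2 hp, map_zero]
    · exact ‹P.IsPrime›.ne_top ((Ideal.eq_top_iff_one _).2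
        ((Submodule.Quotient.mk_eq_zero P).1 (hf (h0.trans (map_zero f).symm))))
  obtain ⟨I, ⟨j₀, hj₀, hj₀0, rfl⟩, hmax⟩ := set_has_maximal_iff_noetherian.mpr inferInstance S hne
  refine ⟨j₀, hj₀, hj₀0, fun j hj => ?_⟩
  obtain ⟨s, t, hs, hst⟩ := rank_one hP hj hj₀ hj₀0
  obtain ⟨a', b', c', hrel, hca, hcb⟩ := UniqueFactorizationMonoid.exists_reduced_factors (Ideal.Quotient.mk P s)
    (fun h => hs (Ideal.Quotient.eq_zero_iff_mem.1 h)) (Ideal.Quotient.mk P t)
  obtain ⟨a, rfl⟩ := Ideal.Quotient.mk_surjective a'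
  obtain ⟨b, rfl⟩ := Ideal.Quotient.mk_surjective b'
  obtain ⟨c, rfl⟩ := Ideal.Quotient.mk_surjective c'
  have hcP : c ∉ P := fun h => hs (Ideal.Quotient.eq_zero_iff_mem.1 (by
    rw [← hca, Ideal.Quotient.eq_zero_iff_mem.2 h, zero_mul]))
  have haP : a ∉ P := fun h => hs (Ideal.Quotient.eq_zero_iff_mem.1 (by
    rw [← hca, Ideal.Quotient.eq_zero_iff_mem.2 h, mul_zero]))
  rw [← map_mul, Ideal.Quotient.eq] at hca hcb
  have e1 := Submodule.mem_annihilator.1 hj _ hca
  have e2 := Submodule.mem_annihilator.1 hj₀ _ hcb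
  rw [smul_eq_mul] at e1 e2
  have h1 : a * j = b * j₀ := sub_eq_zero.1 (torsionFree hP
    (sub_mem (Ideal.mul_mem_left _ _ hj) (Ideal.mul_mem_left _ _ hj₀)) hcP (by linear_combination e1 - e2 + hst))
  obtain ⟨e, he, hje⟩ := saturated hP haP hrel hj hj₀ h1
  have he0 : e ≠ 0 := fun h => hj₀0 (by rw [hje, h, mul_zero])
  have hle : Ideal.span {j₀} ≤ Ideal.span {e} :=
    (Ideal.span_singleton_le_iff_mem _).2 (Ideal.mem_span_singleton'.2 ⟨a, hje.symm⟩)
  have heq : Ideal.span {e} ≤ Ideal.span {j₀} := by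
    by_contra hn
    exact hmax _ ⟨e, he, he0, rfl⟩ (lt_of_le_not_ge hle hn)
  obtain ⟨w, hw⟩ := Ideal.mem_span_singleton'.1 (heq (Ideal.mem_span_singleton_self e))
  have hu : IsUnit a := by
    have h2 : 1 - a * w ∈ P := by
      by_contra hn
      exact hj₀0 (torsionFree hP hj₀ hn (by linear_combination hje - a * hw))
    have h3 : IsUnit (a * w) := by
      by_contra hn
      exact (maximalIdeal.isMaximal A).ne_top ((Ideal.eq_top_iff_one _).2 (by
        have h4 := add_mem (IsLocalRing.le_maximalIdeal ‹P.IsPrime›.ne_top h2) (show a * w ∈ maximalIdeal A from hn)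
        rwa [sub_add_cancel] at h4))
    exact isUnit_of_mul_isUnit_left h3
  refine ⟨hu.unit⁻¹.1 * b, ?_⟩
  rw [mul_assoc, ← h1, ← mul_assoc, IsUnit.val_inv_mul, one_mul]

theorem gorenstein_quot_ufd [LocCoh.IsCohenMacaulayLocalRing (A ⧸ P)] : LocCoh.IsGorensteinLocalRing (A ⧸ P) := by
  haveI := isCohenMacaulay A
  have hdim : ringKrullDim (A ⧸ P) = ringKrullDim A := by
    have h1 := SegreDim.depth_le_dim (R := A) (M := A) P
      (Module.associatedPrimes.minimalPrimes_annihilator_subset_associatedPrimes A A (by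
        rwa [Module.annihilator_eq_bot.2 inferInstance]))
    rw [← LocCoh.IsCohenMacaulayLocalRing.supportDim_eq_depth, Module.supportDim_self_eq_ringKrullDim] at h1
    exact le_antisymm (ringKrullDim_quotient_le _) h1
  have h := ext_quot_eq_zero P hdim
  obtain ⟨rs, hw, hm, hd⟩ := exists_regSeq A
  obtain ⟨j₀, hj₀, -, hgen⟩ := principal hP
  refine (gorenstein_quot_of_embed P ‹P.IsPrime›.ne_top rs rs hw hm hd hm (isWeaklyRegular_mcm P hdim hw hm hd)
    ((le_radical_of_regSeq hw hm hd).trans (Ideal.radical_mono le_sup_right)) j₀ fun w => ⟨fun hwj => ?_, fun hwP => ?_⟩).1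
  · by_contra hn
    haveI := nontrivial_quot_list hm
    haveI : IsLocalRing (A ⧸ Ideal.ofList rs) := .of_surjective' _ Ideal.Quotient.mk_surjective
    haveI := (gorenstein_iff_quot_list _ A rs rfl hw hm).1 inferInstance
    obtain ⟨y, hy, hyw⟩ := double_ann (dim_quot_zero hw hm hd) (P.map (Ideal.Quotient.mk (Ideal.ofList rs)))
      (w := Ideal.Quotient.mk _ w) (fun hmem => hn (by
        rw [← Ideal.mem_comap, Ideal.comap_map_of_surjective' _ Ideal.Quotient.mk_surjective, Ideal.mk_ker] at hmem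
        exact hmem))
    obtain ⟨y, rfl⟩ := Ideal.Quotient.mk_surjective y
    have hyc : y ∈ Submodule.colon (Ideal.ofList rs) (P : Set A) := Submodule.mem_colon.2 fun p hp => by
      rw [smul_eq_mul, ← Ideal.Quotient.eq_zero_iff_mem, map_mul]
      exact hy _ (Ideal.mem_map_of_mem _ hp)
    rw [(colon_regular h rs hw).1] at hyc
    obtain ⟨i, hi, k, hk, rfl⟩ := Submodule.mem_sup.1 hyc
    obtain ⟨r, rfl⟩ := hgen i hi
    refine hyw ?_
    rw [← map_mul, Ideal.Quotient.eq_zero_iff_mem, show (r * j₀ + k) * w = r * (w * j₀) + k * w by ring]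
    exact add_mem (Ideal.mul_mem_left _ _ hwj) (Ideal.mul_mem_right _ _ hk)
  · obtain ⟨p, hp, k, hk, rfl⟩ := Submodule.mem_sup.1 hwP
    have h0 := Submodule.mem_annihilator.1 hj₀ p hp
    rw [smul_eq_mul] at h0
    rw [show (p + k) * j₀ = k * j₀ by linear_combination h0]
    exact Ideal.mul_mem_right _ _ hk

omit hP in
theorem gorenstein_of_ufd (B : Type u) [CommRing B] [IsRegularLocalRing B] (p : Ideal B) [p.IsPrime]
    [UniqueFactorizationMonoid (B ⧸ p)] [LocCoh.IsCohenMacaulayLocalRing (B ⧸ p)] :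
    LocCoh.IsGorensteinLocalRing (B ⧸ p) := by
  haveI := isGorenstein_of_regular B
  haveI := isCohenMacaulay B
  obtain ⟨n, hn⟩ := SerreReg.exists_dim_nat B
  obtain ⟨rs, hw, hmem, hle⟩ := CMFlat.exists_regular_of_prime n B hn p
  have hm : ∀ r ∈ rs, r ∈ maximalIdeal B := fun r hr => le_maximalIdeal (Ideal.IsPrime.ne_top inferInstance) (hmem r hr)
  have hI : Ideal.ofList rs ≤ p := Ideal.span_le.mpr hmem
  haveI := nontrivial_quot_list hm
  haveI : IsLocalRing (B ⧸ Ideal.ofList rs) := .of_surjective' _ Ideal.Quotient.mk_surjective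
  haveI := (gorenstein_iff_quot_list _ B rs rfl hw hm).1 inferInstance
  let π := Ideal.Quotient.mk (Ideal.ofList rs)
  have hker : RingHom.ker π ≤ p := by rwa [Ideal.mk_ker]
  haveI : (p.map π).IsPrime := Ideal.map_isPrime_of_surjective Ideal.Quotient.mk_surjective hker
  have hmin : p.map π ∈ minimalPrimes (B ⧸ Ideal.ofList rs) := by
    obtain ⟨Q, hQ, hQp⟩ := Ideal.exists_minimalPrimes_le (I := Ideal.ofList rs) (J := p) hI
    haveI := hQ.1.1
    rcases eq_or_lt_of_le hQp with rfl | hlt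
    · rw [Ideal.minimalPrimes_eq_comap] at hQ
      obtain ⟨P', hP', rfl⟩ := hQ
      rwa [Ideal.map_comap_of_surjective _ Ideal.Quotient.mk_surjective]
    · have h1 := Catenary.length_le_height hw Q fun r hr => hQ.1.2 (Ideal.subset_span hr)
      have h2 := Ideal.height_strict_mono_of_isPrime hlt
      exact absurd (h2.trans_le (hle.trans h1)) (lt_irrefl _)
  let e : ((B ⧸ Ideal.ofList rs) ⧸ p.map π) ≃+* B ⧸ p := DoubleQuot.quotQuotEquivQuotOfLE hI
  haveI := CMChart.isCohenMacaulayLocalRing_of_ringEquiv e.symm inferInstance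
  haveI : UniqueFactorizationMonoid ((B ⧸ Ideal.ofList rs) ⧸ p.map π) :=
    MulEquiv.uniqueFactorizationMonoid e.symm.toMulEquiv ‹_›
  exact (gorenstein_equiv_iff e).1 (gorenstein_quot_ufd hmin)

end Groth.Agent.Goren
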